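import Groth.Agent.SmDefLib.ThinExist
import Groth.Agent.ThickFlatLib.Scheme

/-!
# Flat deformations over Artinian local rings
-/

set_option autoImplicit false
set_option linter.unusedSectionVars false
set_option linter.style.haveILetI false
set_option maxHeartbeats 1000000

universe u

open CategoryTheory CategoryTheory.Limits AlgebraicGeometry

noncomputable section

namespace SmDefLib

theorem lfp_of_lft {X S : Scheme.{u}} (f : X ⟶ S) [IsLocallyNoetherian S] [LocallyOfFiniteType f] :
    LocallyOfFinitePresentation f := ⟨fun {U} hU {V} hV e => by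
  haveI : IsNoetherianRing Γ(S, U) := IsLocallyNoetherian.component_noetherian ⟨U, hU⟩
  exact RingHom.FinitePresentation.of_finiteType.mp (LocallyOfFiniteType.finiteType_appLE f hU hV e)⟩

variable {B k : Type u} [CommRing B] [IsLocalRing B] [IsArtinianRing B] [Field k] (e : B →+* k)
  {X Y : Scheme.{u}}

theorem surjective_SpecMap_residue : Surjective (Spec.map (CommRingCat.ofHom e)) := by
  refine ⟨fun p => ⟨(default : PrimeSpectrum k), ?_⟩⟩
  haveI : Subsingleton (PrimeSpectrum B) := ⟨fun x y => PrimeSpectrum.ext <| by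
    rw [IsLocalRing.eq_maximalIdeal (IsArtinianRing.isMaximal_of_isPrime x.asIdeal),
      IsLocalRing.eq_maximalIdeal (IsArtinianRing.isMaximal_of_isPrime y.asIdeal)]⟩
  exact Subsingleton.elim (α := PrimeSpectrum B) _ _

theorem smooth_deformation (f₀ : X ⟶ Spec (CommRingCat.of k)) (f : Y ⟶ Spec (CommRingCat.of B)) (i : X ⟶ Y)
    [Smooth f₀] [IsSeparated f₀] [Flat f] [IsClosedImmersion (Spec.map (CommRingCat.ofHom e))]
    (hY : IsPullback i f₀ f (Spec.map (CommRingCat.ofHom e))) : Smooth f ∧ IsSeparated f := by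
  haveI := surjective_SpecMap_residue e
  haveI := FComplLib.locallyOfFiniteType_of_thickening hY
  haveI := lfp_of_lft f
  exact ⟨ThickFlatLib.smooth_of_fibres hY, FComplLib.isSeparated_of_thickening hY⟩

theorem ann_span {A : Type u} [CommRing A] [IsLocalRing A] (t : A)
    (htm : ∀ a ∈ IsLocalRing.maximalIdeal A, a * t = 0) (e : A ⧸ Ideal.span {t} →+* k) (he : Function.Surjective e) :
    RingHom.ker (CommRingCat.ofHom (Ideal.Quotient.mk (Ideal.span {t})) ≫ CommRingCat.ofHom e).hom *
      RingHom.ker (CommRingCat.ofHom (Ideal.Quotient.mk (Ideal.span {t}))).hom = ⊥ := by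
  have hmax : (RingHom.ker (e.comp (Ideal.Quotient.mk (Ideal.span {t})))).IsMaximal :=
    RingHom.ker_isMaximal_of_surjective _ (he.comp Ideal.Quotient.mk_surjective)
  show RingHom.ker (e.comp (Ideal.Quotient.mk (Ideal.span {t}))) * RingHom.ker (Ideal.Quotient.mk (Ideal.span {t})) = ⊥
  rw [Ideal.mk_ker, IsLocalRing.eq_maximalIdeal hmax, ← le_bot_iff, Ideal.mul_le]
  intro a ha y hy
  obtain ⟨c, rfl⟩ := Ideal.mem_span_singleton'.1 hy
  rw [Submodule.mem_bot, mul_left_comm, htm a ha, mul_zero]

end SmDefLib
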