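import Groth.Agent.SmDefLib.Act
import Groth.Agent.OmegaAffLib.Universal
import Groth.Agent.OmegaAffLib.Consequences
import Groth.Agent.HomCohLib.Coh

/-!
# Derivations into the pulled back ideal as homomorphisms out of the differentials
-/

set_option autoImplicit false
set_option linter.unusedSectionVars false
set_option linter.style.haveILetI false
set_option backward.isDefEq.respectTransparency false
set_option maxHeartbeats 1000000

universe u

open CategoryTheory CategoryTheory.Limits AlgebraicGeometry Opposite TopologicalSpace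
open CohCmpLib (homMod happ ger_happ)
open ProjFormLib (res)

noncomputable section

namespace SmDefLib

variable {X₀ S : Scheme.{u}} {I : S.IdealSheafData} {f₀ : X₀ ⟶ I.subscheme} [QuasiSeparated f₀]

theorem goodOm {W : X₀.Opens} (hW : Good I f₀ W) : OmegaAffLib.Good f₀ W := by
  obtain ⟨V, hVa, hV⟩ := hW.base
  exact ⟨hW.aff, I.subschemeι ⁻¹ᵁ V, hVa.preimage _, hV⟩

theorem happ_dSect_mem (W : X₀.Opens) (h : Γ(homMod (Omega.sheaf f₀) (MK I f₀), W)) :
    AddMonoidHom.mk' (fun x => happ h (OmegaSh.dSect f₀ W x))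
      (fun x y => by rw [OmegaSh.dSect_add, HomCohLib.happ_add_right]) ∈ der I f₀ W := by
  refine ⟨fun a b => ?_, fun V hV c => ?_⟩
  · show happ h (OmegaSh.dSect f₀ W (a * b)) = a • happ h (OmegaSh.dSect f₀ W b) + b • happ h (OmegaSh.dSect f₀ W a)
    rw [OmegaSh.dSect_mul, HomCohLib.happ_add_right, HomCohLib.happ_smul_right, HomCohLib.happ_smul_right]
  · show happ h (OmegaSh.dSect f₀ W ((gOf I f₀).appLE V W hV c)) = 0
    have e : (gOf I f₀).appLE V W hV = I.subschemeι.app V ≫ f₀.appLE (I.subschemeι ⁻¹ᵁ V) W hV :=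
      Scheme.Hom.comp_appLE _ _ _ _ _
    rw [e]
    have h0 : OmegaSh.dSect f₀ W (f₀.appLE (I.subschemeι ⁻¹ᵁ V) W hV (I.subschemeι.app V c)) = 0 :=
      OmegaAffLib.der_appLE (OmegaSh.dOmega f₀) (I.subschemeι ⁻¹ᵁ V) W (show W ≤ f₀ ⁻¹ᵁ (I.subschemeι ⁻¹ᵁ V) from hV) _
    refine (congrArg (happ h) h0).trans ?_
    have := HomCohLib.happ_smul_right h (0 : Γ(X₀, W)) (0 : Γ(Omega.sheaf f₀, W))
    rwa [zero_smul, zero_smul] at this

/-- Local homomorphisms out of the differentials give derivations. -/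
def toDer (W : X₀.Opens) : Γ(homMod (Omega.sheaf f₀) (MK I f₀), W) →+ der I f₀ W where
  toFun h := ⟨_, happ_dSect_mem W h⟩
  map_zero' := Subtype.ext (AddMonoidHom.ext fun x => by
    show happ (0 : Γ(homMod (Omega.sheaf f₀) (MK I f₀), W)) _ = 0
    have := HomCohLib.happ_smul_left (0 : Γ(homMod (Omega.sheaf f₀) (MK I f₀), W)) (0 : Γ(X₀, W))
      (OmegaSh.dSect f₀ W x)
    rwa [zero_smul, zero_smul] at this)
  map_add' h h' := Subtype.ext (AddMonoidHom.ext fun x => HomCohLib.happ_add_left h h' _)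

theorem toDer_apply (W : X₀.Opens) (h : Γ(homMod (Omega.sheaf f₀) (MK I f₀), W)) (x : Γ(X₀, W)) :
    (toDer W h).1 x = happ h (OmegaSh.dSect f₀ W x) := rfl

theorem toDer_bijective {W : X₀.Opens} (hW : Good I f₀ W) : Function.Bijective (toDer (I := I) (f₀ := f₀) W) := by
  haveI : Coh.IsQCoh (Omega.sheaf f₀) :=
    OmegaAffLib.isQCoh_of_isUniversal (OmegaAffLib.isUniversal_dOmega (f := f₀))
  constructor
  · intro h h' e
    refine HomCohLib.hom_ext hW.aff le_rfl h h' fun m => ?_
    rw [show res (Omega.sheaf f₀) (le_refl W) m = m by exact congr($((Omega.sheaf f₀).presheaf.map_id (op W)) m)]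
    refine DFunLike.congr_fun (OmegaAffLib.eq_of_dSect (goodOm hW) le_rfl
      (AddMonoidHom.mk' (happ h) (HomCohLib.happ_add_right h))
      (AddMonoidHom.mk' (happ h') (HomCohLib.happ_add_right h')) (fun a t => ?_) (fun a t => ?_) fun b => ?_) m
    · show happ h (a • t) = _
      rw [HomCohLib.happ_smul_right]
      congr 1
      exact (congr($(X₀.presheaf.map_id (op W)) a)).symm
    · show happ h' (a • t) = _
      rw [HomCohLib.happ_smul_right]
      congr 1
      exact (congr($(X₀.presheaf.map_id (op W)) a)).symm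
    · exact DFunLike.congr_fun (congrArg Subtype.val e) b
  · intro D
    obtain ⟨V, hVa, hV⟩ := hW.base
    let V₀ : I.subscheme.Opens := I.subschemeι ⁻¹ᵁ V
    have hV₀ : IsAffineOpen V₀ := hVa.preimage _
    let δ : (OmAff.sectMod (MK I f₀) W).Derivation (f₀.appLE V₀ W hV) :=
      ModuleCat.Derivation.mk (fun b => D.1 b) (map_add D.1) D.2.1 (fun c => by
        obtain ⟨c', rfl⟩ := I.subschemeι.app_surjective V hVa c
        have e : (gOf I f₀).appLE V W hV = I.subschemeι.app V ≫ f₀.appLE V₀ W hV :=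
          Scheme.Hom.comp_appLE _ _ _ _ _
        have := D.2.2 V hV c'
        rw [e] at this
        exact this)
    haveI := OmegaAffLib.isIso_toSect f₀ hV₀ hW.aff (show W ≤ f₀ ⁻¹ᵁ V₀ from hV)
    let φ : Γ(Omega.sheaf f₀, W) →ₗ[Γ(X₀, W)] Γ(MK I f₀, W) :=
      (inv (OmAff.toSect f₀ V₀ W hV) ≫ δ.desc).hom
    have hφ : ∀ b, φ (OmegaSh.dSect f₀ W b) = D.1 b := fun b => by
      refine Eq.trans ?_ (δ.desc_d b)
      rw [← OmAff.toSect_d f₀ V₀ W hV b]
      exact congrArg δ.desc.hom
        ((CategoryTheory.asIso (OmAff.toSect f₀ V₀ W hV)).toLinearEquiv.symm_apply_apply _)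
    obtain ⟨h, hh⟩ := HomCohLib.exists_hom hW.aff φ
    exact ⟨h, Subtype.ext (AddMonoidHom.ext fun x => (hh _).trans (hφ x))⟩

theorem toDer_res (W W' : X₀.Opens) (h : W' ≤ W) (s : Γ(homMod (Omega.sheaf f₀) (MK I f₀), W)) (x : Γ(X₀, W)) :
    (toDer W' (res (homMod (Omega.sheaf f₀) (MK I f₀)) h s)).1 (X₀.presheaf.map (homOfLE h).op x) =
      (MK I f₀).presheaf.map (homOfLE h).op ((toDer W s).1 x) := by
  rw [toDer_apply, toDer_apply, OmegaSh.dSect_map]
  exact HomCohLib.happ_res h s _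

variable (I f₀)

/-- Homomorphisms out of the differentials as a coefficient presheaf. -/
def homCoef : Coef I f₀ where
  P := ((QCohLib.toAbF X₀).obj (homMod (Omega.sheaf f₀) (MK I f₀))).obj
  e W hW := AddEquiv.ofBijective (toDer W) (toDer_bijective hW)
  nat W W' _ _ h p x := toDer_res W W' h p x

end SmDefLib
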