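import Groth.Agent.SmDefLib.Cech
import Groth.Agent.PnDualLib.HomExt
import Groth.Agent.BoxSurjLib.Cut
import Groth.Agent.OmegaAffLib.Rank

/-!
# Vanishing of cohomology of sheaves of homomorphisms from vanishing of `Ext`
-/

set_option autoImplicit false
set_option linter.unusedSectionVars false
set_option linter.style.haveILetI false
set_option backward.isDefEq.respectTransparency false
set_option backward.isDefEq.respectTransparency.types false

universe u

open CategoryTheory CategoryTheory.Limits AlgebraicGeometry TopologicalSpace Opposite Abelian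
open CohCmpLib (homMod)
open QCohLib (HU toAbF)

noncomputable section

namespace SmDefLib

variable {X : Scheme.{u}} {F : X.Modules} (hF : FlatMod.IsFinLocFree F) [HasExt.{u} X.Modules]

include hF in
/-- `Extⁱ(F, W) = 0` gives `Hⁱ(Hom(F, W)) = 0`. -/
theorem subsingleton_HU_homMod (i : ℕ) (W : X.Modules) (h : Subsingleton (Ext.{u} F W (i + 1))) :
    Subsingleton (HU ((toAbF X).obj (homMod F W)) (i + 1) (⊤ : X.Opens)) := by
  haveI : EnoughInjectives X.Modules := ModSiteLib.sheafOfModules_enoughInjectives (R := X.ringCatSheaf)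
  induction i generalizing W with
  | zero =>
    let T : ShortComplex X.Modules := ShortComplex.mk (Injective.ι W) (cokernel.π _) (cokernel.condition _)
    have hT : T.ShortExact := ShortComplex.ShortExact.mk (ShortComplex.exact_cokernel _)
    haveI : Injective T.X₂ := inferInstanceAs (Injective (Injective.under W))
    haveI : Injective (PnDualLib.homSeq F T).X₂ := PnDualLib.injective_homMod hF T.X₂
    have hS := QCohLib.toAbF_shortExact (PnDualLib.homSeq_shortExact hF hT)
    haveI := RpushLib.isFlasque_toAb_injective (PnDualLib.homSeq F T).X₂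
    haveI : Subsingleton (HU (((PnDualLib.homSeq F T).map (toAbF X)).X₂) (0 + 1) (⊤ : X.Opens)) :=
      QCohLib.subsingleton_of_isFlasque 0 ((toAbF X).obj (PnDualLib.homSeq F T).X₂) ⊤
    refine subsingleton_of_forall_eq 0 fun x => ?_
    obtain ⟨y, rfl⟩ := QCohLib.exists_eq_comp_extClass hS (n := 0) x
    let s : Γ(homMod F T.X₃, (⊤ : X.Opens)) := QCohLib.h0 y
    obtain ⟨z, hz⟩ := Ext.covariant_sequence_exact₃ F hT (Ext.mk₀ (HomCohLib.toHom s)) (zero_add 1)
      (@Subsingleton.elim _ h _ _)
    obtain ⟨ψ, rfl⟩ := Ext.homEquiv₀.symm.surjective z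
    have hψ : ψ ≫ T.g = HomCohLib.toHom s := Ext.homEquiv₀.symm.injective ((Ext.mk₀_comp_mk₀ ψ T.g).symm.trans hz)
    have hy : (HomCohLib.mapR F T.g).app ⊤ (HomCohLib.ofHom ψ) = s := by
      rw [HomCohLib.ofHom_comp, hψ, HomCohLib.ofHom_toHom]
    have e : y = (QCohLib.h0.symm (show ((PnDualLib.homSeq F T).map (toAbF X)).X₂.obj.obj (op ⊤) from
        HomCohLib.ofHom ψ)).comp (Ext.mk₀ ((PnDualLib.homSeq F T).map (toAbF X)).g) (add_zero 0) := by
      refine QCohLib.h0.injective ?_
      rw [QCohLib.h0_comp, AddEquiv.apply_symm_apply]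
      exact hy.symm
    rw [e, Ext.comp_assoc_of_second_deg_zero, hS.comp_extClass, Ext.comp_zero]
  | succ i ih =>
    let T : ShortComplex X.Modules := ShortComplex.mk (Injective.ι W) (cokernel.π _) (cokernel.condition _)
    have hT : T.ShortExact := ShortComplex.ShortExact.mk (ShortComplex.exact_cokernel _)
    haveI : Injective T.X₂ := inferInstanceAs (Injective (Injective.under W))
    haveI : Injective (PnDualLib.homSeq F T).X₂ := PnDualLib.injective_homMod hF T.X₂
    have hS := QCohLib.toAbF_shortExact (PnDualLib.homSeq_shortExact hF hT)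
    haveI := RpushLib.isFlasque_toAb_injective (PnDualLib.homSeq F T).X₂
    haveI : Subsingleton (HU (((PnDualLib.homSeq F T).map (toAbF X)).X₂) (i + 1 + 1) (⊤ : X.Opens)) :=
      QCohLib.subsingleton_of_isFlasque (i + 1) ((toAbF X).obj (PnDualLib.homSeq F T).X₂) ⊤
    haveI := h
    have h3 : Subsingleton (Ext.{u} F T.X₃ (i + 1)) := subsingleton_of_forall_eq 0 fun y => by
      obtain ⟨z, rfl⟩ := Ext.covariant_sequence_exact₃ F hT y (rfl : i + 1 + 1 = i + 1 + 1)
        (@Subsingleton.elim _ h _ _)
      rw [Ext.eq_zero_of_injective z, Ext.zero_comp]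
    haveI : Subsingleton (HU (((PnDualLib.homSeq F T).map (toAbF X)).X₃) (i + 1) (⊤ : X.Opens)) := ih T.X₃ h3
    refine subsingleton_of_forall_eq 0 fun x => ?_
    obtain ⟨y, rfl⟩ := QCohLib.exists_eq_comp_extClass hS (n := i + 1) x
    rw [Subsingleton.elim y 0, Ext.zero_comp]

/-- The differentials of a smooth morphism are finite locally free. -/
theorem isFinLocFree_omega {X S : Scheme.{u}} (f : X ⟶ S) [Smooth f] [QuasiSeparated f] :
    FlatMod.IsFinLocFree (Omega.sheaf f) := fun x => by
  obtain ⟨U, n, hx, he, -⟩ := OmegaAffLib.exists_free_fibreDim (OmegaAffLib.isUniversal_dOmega (f := f)) x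
  exact ⟨U, n, hx, he⟩

omit [HasExt.{u} X.Modules] in
include hF in
theorem acyc_homMod [X.IsSeparated] (W : X.Modules) [Coh.IsQCoh W] {ι : Type u} (U : ι → X.Opens)
    (hU : ∀ i, IsAffineOpen (U i)) : CechLib.Acyc U ((toAbF X).obj (homMod F W)) := fun n J q => by
  haveI : Coh.IsQCoh (homMod F W) := BoxSurjLib.isQCoh_homMod hF
  exact QCohLib.subsingleton_HU_affine _ q (IsAffineOpen.iInf fun a => hU (J a))

end SmDefLib
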