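import Groth.Agent.SmDefLib.Exist
import Groth.Agent.SmDefLib.Der
import Groth.Agent.SmDefLib.Van

/-!
# Lifting smooth schemes when the second cohomology of the tangent sheaf vanishes
-/

set_option autoImplicit false
set_option linter.unusedSectionVars false
set_option linter.style.haveILetI false
set_option backward.isDefEq.respectTransparency false
set_option maxHeartbeats 1000000
set_option synthInstance.maxHeartbeats 400000

universe u

open CategoryTheory CategoryTheory.Limits AlgebraicGeometry Opposite TopologicalSpace Abelian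
open CohCmpLib (homMod)

noncomputable section

namespace SmDefLib

variable {X₀ S : Scheme.{u}} {I : S.IdealSheafData} {f₀ : X₀ ⟶ I.subscheme}

instance isQCoh_MK : Coh.IsQCoh (MK I f₀) :=
  haveI : Coh.IsQCoh (ClSub.idealMod I) := SweepSix.ConormalSpec.isQCoh_idealMod I
  KFlatLib.isQCoh_pullback (gOf I f₀) (ClSub.idealMod I)

theorem subsingleton_ext_MK [HasExt.{u} X₀.Modules] {M : X₀.Modules} (n : ℕ)
    (h : Subsingleton (Ext.{u} M ((Scheme.Modules.pullback f₀).obj
      ((Scheme.Modules.pullback I.subschemeι).obj (ClSub.idealMod I))) n)) :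
    Subsingleton (Ext.{u} M (MK I f₀) n) := by
  let φ := ((Scheme.Modules.pullbackComp f₀ I.subschemeι).app (ClSub.idealMod I))
  refine subsingleton_of_forall_eq 0 fun x => ?_
  have h1 : x = (x.comp (Ext.mk₀ φ.inv) (add_zero n)).comp (Ext.mk₀ φ.hom) (add_zero n) := by
    rw [Ext.comp_assoc_of_second_deg_zero, Ext.mk₀_comp_mk₀, Iso.inv_hom_id, Ext.comp_mk₀_id]
  rw [h1, @Subsingleton.elim _ h (x.comp (Ext.mk₀ φ.inv) (add_zero n)) 0, Ext.zero_comp]

/-- The second Čech cohomology of derivations vanishes. -/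
theorem cocycle_two_of_ext [Smooth f₀] [X₀.IsSeparated] [QuasiSeparated f₀] [HasExt.{u} X₀.Modules]
    (h : Subsingleton (Ext.{u} (Omega.sheaf f₀) (MK I f₀) 2)) {ι : Type u} (U : ι → X₀.Opens)
    (hU : ∀ i, Good I f₀ (U i)) (hcov : ⨆ i, U i = ⊤) (c : CechLib.Cochain U (homCoef I f₀).P 2)
    (hc : CechLib.dd U (homCoef I f₀).P 2 c = 0) : ∃ b, CechLib.dd U (homCoef I f₀).P 1 b = c := by
  have hF := isFinLocFree_omega f₀
  exact exists_of_cocycle_top U ((QCohLib.toAbF X₀).obj (homMod (Omega.sheaf f₀) (MK I f₀)))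
    (acyc_homMod hF (MK I f₀) U fun i => (hU i).aff) hcov 1 (subsingleton_HU_homMod hF 1 (MK I f₀) h) c hc

/-- Smooth lifts exist when the obstruction group vanishes. -/
theorem exists_lift_of_ext_two (hI : I ^ 2 = ⊥) [Smooth f₀] [X₀.IsSeparated] [QuasiSeparated f₀]
    [HasExt.{u} X₀.Modules]
    (h : Subsingleton (Ext.{u} (Omega.sheaf f₀) (MK I f₀) 2)) :
    ∃ (X : Scheme.{u}) (f : X ⟶ S) (j : X₀ ⟶ X), Smooth f ∧ IsPullback j f₀ f I.subschemeι :=
  exists_smooth_lift hI (homCoef I f₀) fun U hU hcov c hc => cocycle_two_of_ext h U hU hcov c hc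

end SmDefLib
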