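import Groth.Agent.SmDefLib.GlobalHom
import Groth.Agent.SmDefLib.Obstruction

/-!
# Uniqueness of deformations and of their automorphisms
-/

set_option autoImplicit false
set_option linter.unusedSectionVars false
set_option linter.style.haveILetI false
set_option backward.isDefEq.respectTransparency false
set_option maxHeartbeats 1000000
set_option synthInstance.maxHeartbeats 400000

universe u

open CategoryTheory CategoryTheory.Limits AlgebraicGeometry Opposite TopologicalSpace Abelian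
open CechLib (cap cap_le)

noncomputable section

namespace SmDefLib

variable {X₀ S : Scheme.{u}} {I : S.IdealSheafData} {f₀ : X₀ ⟶ I.subscheme}

theorem res_id_comp {a c : Lift (gOf I f₀)} {W W' : X₀.Opens} (ha : W ≤ a.dom) (h : W' ≤ W) (φ : Hom a c W')
    (hb : W' ≤ a.dom) : ((Hom.id a W).res ha ha h).comp φ hb = φ := by
  rw [Hom.res_id]
  exact Hom.ext (Category.id_comp _)

theorem comp_res_id {a c : Lift (gOf I f₀)} {W W' : X₀.Opens} (hc : W ≤ c.dom) (h : W' ≤ W) (φ : Hom a c W')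
    (hb : W' ≤ c.dom) : φ.comp ((Hom.id c W).res hc hc h) hb = φ := by
  rw [Hom.res_id]
  exact Hom.ext (Category.comp_id _)

section Global

variable {X : Scheme.{u}} {f : X ⟶ S} {j : X₀ ⟶ X}

theorem isPullback_top (hc : IsPullback j f₀ f I.subschemeι) :
    IsPullback (X₀.topIso.hom ≫ j) ((⊤ : X₀.Opens).ι ≫ f₀) f I.subschemeι :=
  hc.of_iso X₀.topIso.symm (Iso.refl _) (Iso.refl _) (Iso.refl _)
    (by show j ≫ 𝟙 _ = X₀.topIso.inv ≫ X₀.topIso.hom ≫ j; rw [Iso.inv_hom_id_assoc, Category.comp_id])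
    (by show f₀ ≫ 𝟙 _ = X₀.topIso.inv ≫ (⊤ : X₀.Opens).ι ≫ f₀
        rw [Category.comp_id, ← Category.assoc, Scheme.toIso_inv_ι, Category.id_comp])
    (by show f ≫ 𝟙 _ = 𝟙 _ ≫ f; rw [Category.comp_id, Category.id_comp])
    (by show I.subschemeι ≫ 𝟙 _ = 𝟙 _ ≫ I.subschemeι; rw [Category.comp_id, Category.id_comp])

/-- A global deformation as a lift. -/
def globalLift (hI : I ^ 2 = ⊥) (hc : IsPullback j f₀ f I.subschemeι) : Lift (gOf I f₀) :=
  haveI := surjective_subschemeι hI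
  haveI := FComplLib.isClosedImmersion_of_isPullback (isPullback_top hc)
  haveI : Surjective (X₀.topIso.hom ≫ j) := FComplLib.surjective_of_isPullback (isPullback_top hc)
  { dom := ⊤
    X := X
    f := f
    j := X₀.topIso.hom ≫ j
    w := by rw [(isPullback_top hc).w, Category.assoc] }

theorem std_globalLift (hI : I ^ 2 = ⊥) [Flat f] (hc : IsPullback j f₀ f I.subschemeι) :
    Std I f₀ (globalLift hI hc) := ⟨‹Flat f›, isPullback_top hc⟩

theorem isIso_ι_of_top {a : Lift (gOf I f₀)} (h : a.dom = ⊤) : IsIso (a.up ⊤).ι := by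
  haveI : Epi (a.up ⊤).ι.base := (TopCat.epi_iff_surjective _).2 fun q => ⟨⟨q, by
    obtain ⟨z, rfl⟩ := a.j.surjective q
    exact a.mem_up.2 ⟨z, trivial, rfl⟩⟩, rfl⟩
  exact AlgebraicGeometry.IsOpenImmersion.isIso _

theorem ju_top_ι (hI : I ^ 2 = ⊥) (hc : IsPullback j f₀ f I.subschemeι)
    (h : (⊤ : X₀.Opens) ≤ (globalLift hI hc).dom) :
    (globalLift hI hc).ju h ≫ ((globalLift hI hc).up ⊤).ι = X₀.topIso.hom ≫ j := by
  rw [Lift.ju_ι, Lift.jj]
  show X₀.homOfLE (le_refl ⊤) ≫ X₀.topIso.hom ≫ j = _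
  rw [Scheme.homOfLE_rfl, Category.id_comp]

/-- An endomorphism of a deformation as a morphism of lifts. -/
def endHom (hI : I ^ 2 = ⊥) (hc : IsPullback j f₀ f I.subschemeι) (α : X ⟶ X) (hj : j ≫ α = j)
    (hf : α ≫ f = f) : Hom (globalLift hI hc) (globalLift hI hc) ⊤ where
  φ := IsOpenImmersion.lift ((globalLift hI hc).up ⊤).ι (((globalLift hI hc).up ⊤).ι ≫ α) (by
    rw [Scheme.Opens.range_ι]
    rintro q -
    obtain ⟨z, hz⟩ := (globalLift hI hc).j.surjective q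
    exact (globalLift hI hc).mem_up.2 ⟨z, trivial, hz⟩)
  over_f := by
    rw [← Category.assoc, IsOpenImmersion.lift_fac, Category.assoc]
    exact congrArg (_ ≫ ·) hf
  over_j ha hb := by
    rw [← cancel_mono ((globalLift hI hc).up ⊤).ι, Category.assoc, IsOpenImmersion.lift_fac, ← Category.assoc,
      ju_top_ι hI hc ha]
    exact (Category.assoc _ _ _).trans (congrArg (_ ≫ ·) hj)

theorem endHom_ι (hI : I ^ 2 = ⊥) (hc : IsPullback j f₀ f I.subschemeι) (α : X ⟶ X) (hj : j ≫ α = j)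
    (hf : α ≫ f = f) :
    (endHom hI hc α hj hf).φ ≫ ((globalLift hI hc).up ⊤).ι = ((globalLift hI hc).up ⊤).ι ≫ α :=
  IsOpenImmersion.lift_fac _ _ _

end Global

variable [QuasiSeparated f₀]

/-- Lifts are isomorphic when the first cohomology of derivations vanishes. -/
theorem exists_iso_of_ext_one (hI : I ^ 2 = ⊥) [Smooth f₀] [HasExt.{u} X₀.Modules]
    (h : Subsingleton (Ext.{u} (Omega.sheaf f₀) (MK I f₀) 1)) (a b : Lift (gOf I f₀)) (ha : Std I f₀ a)
    (hb : Std I f₀ b) (hta : (⊤ : X₀.Opens) ≤ a.dom) (htb : (⊤ : X₀.Opens) ≤ b.dom) :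
    ∃ φ : Hom a b ⊤, IsIso φ.φ := by
  obtain ⟨K⟩ := exists_liftCover (I := I) (f₀ := f₀) hI
  let U : K.ι → X₀.Opens := fun i => (K.a i).dom
  have hcap : ∀ i, cap U ![i] = U i := fun i =>
    le_antisymm (cap_le U ![i] 0) ((CechLib.le_cap_iff U).2 fun a => by fin_cases a; exact le_rfl)
  have hgood : ∀ i, Good I f₀ (cap U ![i]) := fun i => (hcap i).symm ▸ K.good i
  have hloc : ∀ i, Nonempty (Hom a b (cap U ![i])) := fun i => by
    haveI := K.smooth i
    have hd : cap U ![i] ≤ (K.a i).dom := cap_le U ![i] 0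
    obtain ⟨φ₁⟩ := exists_hom (a := a) (b := K.a i) hI ha (le_top.trans hta) hd (hgood i) fun V hV hWV =>
      smooth_str (K.a i) hd (hgood i).aff V hV hWV
    obtain ⟨φ₂⟩ := exists_hom (a := b) (b := K.a i) hI hb (le_top.trans htb) hd (hgood i) fun V hV hWV =>
      smooth_str (K.a i) hd (hgood i).aff V hV hWV
    haveI := φ₂.isIso hb (K.std i) hI (le_top.trans htb) hd (hgood i)
    exact ⟨φ₁.comp φ₂.inv hd⟩
  let g : (homBand (f₀ := f₀) hI).Arrows U (fun _ => ⟨a, ha⟩) := fun i j =>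
    ⟨le_top.trans hta, le_top.trans hta, Hom.id a _⟩
  let g' : (homBand (f₀ := f₀) hI).Arrows U (fun _ => ⟨b, hb⟩) := fun i j =>
    ⟨le_top.trans htb, le_top.trans htb, Hom.id b _⟩
  have hg : (homBand (f₀ := f₀) hI).IsCocycle U g := fun i j k W hi hj hk =>
    Arr.ext' ((res_id_comp (le_top.trans hta) (le2 U hi hj) _ (le_top.trans hta)).trans
      ((Hom.res_id a (le_top.trans hta) (le2 U hj hk)).trans
        (Hom.res_id a (le_top.trans hta) (le2 U hi hk)).symm))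
  have hg' : (homBand (f₀ := f₀) hI).IsCocycle U g' := fun i j k W hi hj hk =>
    Arr.ext' ((res_id_comp (le_top.trans htb) (le2 U hi hj) _ (le_top.trans htb)).trans
      ((Hom.res_id b (le_top.trans htb) (le2 U hj hk)).trans
        (Hom.res_id b (le_top.trans htb) (le2 U hi hk)).symm))
  have hH := subsingleton_HU_homMod (isFinLocFree_omega f₀) 0 (MK I f₀) h
  obtain ⟨ψ, hψ⟩ := Band.exists_morphism_local (isLocal_homBand hI) hgood hg hg'
    (fun i => ⟨le_top.trans hta, le_top.trans htb, (hloc i).some⟩)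
    fun c hc => exists_of_cocycle_one_top U (homSh I f₀) K.cover hH c hc
  have hle : ∀ i, U i ≤ cap U ![i] := fun i => (hcap i).ge
  let χ : ∀ i, Hom a b (U i) := fun i => (ψ i).hom.res (ψ i).ha (ψ i).hb (hle i)
  have hcov : ∀ x ∈ (⊤ : X₀.Opens), ∃ k, x ∈ U k := fun x hx => by
    rw [← K.cover] at hx
    exact Opens.mem_iSup.1 hx
  obtain ⟨φ, hφ⟩ := Hom.exists_glue hta htb U (fun i => le_top) hcov χ fun i k => by
    have e := congrArg Arr.hom (hψ i k (U i ⊓ U k) inf_le_left inf_le_right)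
    have e' := (res_id_comp (le_top.trans hta) (le2 U inf_le_left inf_le_right) _ (le_top.trans hta)).symm.trans
      (e.trans (comp_res_id (le_top.trans htb) (le2 U inf_le_left inf_le_right) _ (le_top.trans htb)))
    exact (Hom.res_res (ψ i).hom (ψ i).ha (ψ i).hb (hle i) inf_le_left).trans
      (e'.symm.trans (Hom.res_res (ψ k).hom (ψ k).ha (ψ k).hb (hle k) inf_le_right).symm)
  obtain ⟨φ', h1, h2⟩ := Hom.exists_inv hta htb φ U (fun i => le_top) hcov fun k =>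
    (φ.res hta htb (le_top : U k ≤ ⊤)).isIso ha hb hI (le_top.trans hta) (le_top.trans htb) (K.good k)
  exact ⟨φ, ⟨φ'.φ, congrArg Hom.φ h1, congrArg Hom.φ h2⟩⟩

/-- A morphism of lifts is the identity when there are no derivations. -/
theorem eq_id_of_hom (hI : I ^ 2 = ⊥) (h : Subsingleton (Omega.sheaf f₀ ⟶ MK I f₀)) (a : Lift (gOf I f₀))
    (ha : Std I f₀ a) (hta : (⊤ : X₀.Opens) ≤ a.dom) (φ : Hom a a ⊤) : φ = Hom.id a ⊤ := by
  let φ₁ : (homBand (f₀ := f₀) hI).A ⟨a, ha⟩ ⟨a, ha⟩ ⊤ := ⟨hta, hta, Hom.id a ⊤⟩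
  let φ₂ : (homBand (f₀ := f₀) hI).A ⟨a, ha⟩ ⟨a, ha⟩ ⊤ := ⟨hta, hta, φ⟩
  obtain ⟨p, hp⟩ := Band.exists_moves (isLocal_homBand hI) φ₁ φ₂
  have hp0 : p = 0 := by
    let t : Γ(CohCmpLib.homMod (Omega.sheaf f₀) (MK I f₀), (⊤ : X₀.Opens)) := p
    show t = 0
    rw [← HomCohLib.ofHom_toHom t, ← HomCohLib.ofHom_toHom (0 : Γ(CohCmpLib.homMod (Omega.sheaf f₀) (MK I f₀),
      (⊤ : X₀.Opens))), @Subsingleton.elim _ h (HomCohLib.toHom t) (HomCohLib.toHom _)]
  subst hp0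
  refine (Hom.ext_local hta hta fun x hx => ?_).symm
  obtain ⟨W, hxW, hW, hgood⟩ := exists_good_nhd (I := I) (f₀ := f₀) ⊤ x hx
  have e := hp W hW hgood
  rw [map_zero, (homBand (f₀ := f₀) hI).act_zero] at e
  exact ⟨W, hW, hxW, congrArg Arr.hom e⟩

end SmDefLib

namespace SmDefLib

open CategoryTheory CategoryTheory.Limits AlgebraicGeometry

variable {X₀ S : Scheme.{u}} {I : S.IdealSheafData} {f₀ : X₀ ⟶ I.subscheme}

/-- Isomorphic lifts give isomorphic deformations. -/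
theorem exists_iso_of_hom {X₁ X₂ : Scheme.{u}} {f₁ : X₁ ⟶ S} {f₂ : X₂ ⟶ S} {j₁ : X₀ ⟶ X₁} {j₂ : X₀ ⟶ X₂}
    (hI : I ^ 2 = ⊥) (hc₁ : IsPullback j₁ f₀ f₁ I.subschemeι) (hc₂ : IsPullback j₂ f₀ f₂ I.subschemeι)
    (φ : Hom (globalLift hI hc₁) (globalLift hI hc₂) ⊤) [IsIso φ.φ] :
    ∃ e : X₁ ≅ X₂, j₁ ≫ e.hom = j₂ ∧ e.hom ≫ f₂ = f₁ := by
  haveI : IsIso ((globalLift hI hc₁).up ⊤).ι := isIso_ι_of_top rfl
  haveI : IsIso ((globalLift hI hc₂).up ⊤).ι := isIso_ι_of_top rfl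
  let a := globalLift hI hc₁
  let b := globalLift hI hc₂
  refine ⟨(asIso (a.up ⊤).ι).symm ≪≫ asIso φ.φ ≪≫ asIso (b.up ⊤).ι, ?_, ?_⟩
  · rw [← cancel_epi X₀.topIso.hom, ← ju_top_ι hI hc₂ le_rfl, ← φ.over_j le_rfl le_rfl, ← Category.assoc]
    show (X₀.topIso.hom ≫ j₁) ≫ CategoryTheory.inv (a.up ⊤).ι ≫ φ.φ ≫ (b.up ⊤).ι = _
    rw [← ju_top_ι hI hc₁ le_rfl, Category.assoc, IsIso.hom_inv_id_assoc, Category.assoc]
  · show (CategoryTheory.inv (a.up ⊤).ι ≫ φ.φ ≫ (b.up ⊤).ι) ≫ f₂ = f₁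
    rw [Category.assoc, Category.assoc, IsIso.inv_comp_eq]
    exact φ.over_f

theorem subsingleton_hom_MK {M : X₀.Modules}
    (h : Subsingleton (M ⟶ (Scheme.Modules.pullback f₀).obj
      ((Scheme.Modules.pullback I.subschemeι).obj (ClSub.idealMod I)))) : Subsingleton (M ⟶ MK I f₀) :=
  ⟨fun _ _ => (cancel_mono ((Scheme.Modules.pullbackComp f₀ I.subschemeι).app (ClSub.idealMod I)).inv).1
    (@Subsingleton.elim _ h _ _)⟩

end SmDefLib
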