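import Groth.Agent.SmDefLib.Twist
import Groth.Agent.SmDefLib.Deform

/-!
# Uniqueness of lifts over small extensions and rigidity
-/

set_option autoImplicit false
set_option linter.unusedSectionVars false
set_option linter.style.haveILetI false
set_option backward.isDefEq.respectTransparency false
set_option maxHeartbeats 1000000
set_option synthInstance.maxHeartbeats 400000

universe u

open CategoryTheory CategoryTheory.Limits AlgebraicGeometry Opposite TopologicalSpace Abelian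
open CohCmpLib (homMod)
open CechLib (Cochain cap dd cap_le)

noncomputable section

namespace SmDefLib

section Ext

variable {X : Scheme.{u}} {F : X.Modules} (hF : FlatMod.IsFinLocFree F) [HasExt.{u} X.Modules]

include hF in
/-- `H¹(Hom(F, W)) = 0` gives `Ext¹(F, W) = 0`. -/
theorem subsingleton_ext_one_of_HU (W : X.Modules)
    (h : Subsingleton (QCohLib.HU ((QCohLib.toAbF X).obj (homMod F W)) 1 (⊤ : X.Opens))) :
    Subsingleton (Ext.{u} F W 1) := by
  haveI : EnoughInjectives X.Modules := ModSiteLib.sheafOfModules_enoughInjectives (R := X.ringCatSheaf)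
  let T : ShortComplex X.Modules := ShortComplex.mk (Injective.ι W) (cokernel.π _) (cokernel.condition _)
  have hT : T.ShortExact := ShortComplex.ShortExact.mk (ShortComplex.exact_cokernel _)
  haveI : Injective T.X₂ := inferInstanceAs (Injective (Injective.under W))
  have hS := QCohLib.toAbF_shortExact (PnDualLib.homSeq_shortExact hF hT)
  haveI : Subsingleton (QCohLib.HU (((PnDualLib.homSeq F T).map (QCohLib.toAbF X)).X₁) 1 (⊤ : X.Opens)) := h
  refine subsingleton_of_forall_eq 0 fun x => ?_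
  obtain ⟨y, rfl⟩ := Ext.covariant_sequence_exact₁ F hT x (Ext.eq_zero_of_injective _) (zero_add 1)
  obtain ⟨ψ, rfl⟩ := Ext.homEquiv₀.symm.surjective y
  obtain ⟨t, ht⟩ := QCohLib.exists_lift_of_subsingleton hS (U := (⊤ : X.Opens)) (HomCohLib.ofHom ψ)
  let t' : Γ(homMod F T.X₂, (⊤ : X.Opens)) := t
  have h1 : (HomCohLib.mapR F T.g).app ⊤ (HomCohLib.ofHom (HomCohLib.toHom t')) = HomCohLib.ofHom ψ := by
    rw [HomCohLib.ofHom_toHom]
    exact ht
  rw [HomCohLib.ofHom_comp] at h1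
  have h2 : HomCohLib.toHom t' ≫ T.g = ψ := by
    have := congrArg HomCohLib.toHom h1
    rwa [HomCohLib.toHom_ofHom, HomCohLib.toHom_ofHom] at this
  show (Ext.mk₀ ψ).comp hT.extClass _ = 0
  rw [← h2, ← Ext.mk₀_comp_mk₀, Ext.comp_assoc_of_second_deg_zero, hT.comp_extClass, Ext.comp_zero]

end Ext

section Thin

variable {X₀ Y S K : Scheme.{u}} [IsAffine S] [IsAffine K] {I : S.IdealSheafData} {n : ℕ}
  {f : Y ⟶ I.subscheme} {κ : K ⟶ S} [IsClosedImmersion κ] {b : Fin n → I.ideal (topAff S)}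
  {c : X₀ ⟶ Y} {f₀ : X₀ ⟶ K} [QuasiSeparated f₀]

/-- Lifts along small extensions are isomorphic when the first cohomology of the tangent sheaf vanishes. -/
theorem exists_iso_thin (hI : I ^ 2 = ⊥) (H : Thin I κ b) (sq : IsPullback c f₀ (gOf I f) κ) [Smooth f]
    [Y.IsSeparated] [Smooth f₀] [HasExt.{u} X₀.Modules]
    (h : Subsingleton (Ext.{u} (Omega.sheaf f₀) (Coh.structureModule X₀) 1))
    {Y₁ Y₂ : Scheme.{u}} {f₁ : Y₁ ⟶ S} {f₂ : Y₂ ⟶ S} {j₁ : Y ⟶ Y₁} {j₂ : Y ⟶ Y₂} [Flat f₁] [Flat f₂]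
    (h₁ : IsPullback j₁ f f₁ I.subschemeι) (h₂ : IsPullback j₂ f f₂ I.subschemeι) :
    ∃ e : Y₁ ≅ Y₂, j₁ ≫ e.hom = j₂ ∧ e.hom ≫ f₂ = f₁ := by
  obtain ⟨L⟩ := exists_liftCover (I := I) (f₀ := f) hI
  let a := globalLift hI h₁
  let a' := globalLift hI h₂
  have hloc : ∀ i, Nonempty (Hom a a' (L.a i).dom) := fun i => by
    haveI := L.smooth i
    obtain ⟨φ₁⟩ := exists_hom (a := a) (b := L.a i) hI (std_globalLift hI h₁) le_top le_rfl (L.good i)
      fun V hV hWV => smooth_str (L.a i) le_rfl (L.good i).aff V hV hWV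
    obtain ⟨φ₂⟩ := exists_hom (a := a') (b := L.a i) hI (std_globalLift hI h₂) le_top le_rfl (L.good i)
      fun V hV hWV => smooth_str (L.a i) le_rfl (L.good i).aff V hV hWV
    haveI := φ₂.isIso (std_globalLift hI h₂) (L.std i) hI le_top le_rfl (L.good i)
    exact ⟨φ₁.comp φ₂.inv le_rfl⟩
  obtain ⟨φ, hφ⟩ := exists_iso_of_cocycle hI (thinCoef f₀ H sq) a a' (std_globalLift hI h₁) (std_globalLift hI h₂)
    le_rfl le_rfl _ L.good L.cover hloc fun x hx => cocycle_tanPow sq 0 h _ (fun i => (L.good i).aff) L.cover x hx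
  exact exists_iso_of_hom hI h₁ h₂ φ

/-- Rigidity along a small extension makes the first cohomology of the tangent sheaf vanish. -/
theorem subsingleton_ext_of_rigid (hI : I ^ 2 = ⊥) (H : Thin I κ b) (i₀ : Fin n)
    (sq : IsPullback c f₀ (gOf I f) κ) [IsIso c] [Smooth f] [Y.IsSeparated] [Smooth f₀] [HasExt.{u} X₀.Modules]
    {YT : Scheme.{u}} {fT : YT ⟶ S} {jT : Y ⟶ YT} [Flat fT] (hcT : IsPullback jT f fT I.subschemeι)
    (hrig : ∀ (Z : Scheme.{u}) (g : Z ⟶ S) (j : Y ⟶ Z), Flat g → IsPullback j f g I.subschemeι →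
      ∃ α : Z ≅ YT, α.hom ≫ fT = g ∧ j ≫ α.hom = jT) :
    Subsingleton (Ext.{u} (Omega.sheaf f₀) (Coh.structureModule X₀) 1) := by
  obtain ⟨L⟩ := exists_liftCover (I := I) (f₀ := f) hI
  let U : L.ι → Y.Opens := fun i => (L.a i).dom
  haveI := isSeparated_of_closed sq
  haveI : Coh.IsQCoh (Coh.structureModule X₀) := QCohLib.isQCoh_unit
  have hF := isFinLocFree_omega f₀
  refine subsingleton_ext_one_of_HU hF (Coh.structureModule X₀) ?_
  let U' : L.ι → X₀.Opens := fun i => c ⁻¹ᵁ U i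
  have hcov' : ⨆ i, U' i = ⊤ := CohBCLib.iSup_preU (g' := c) U L.cover
  let Fs := (QCohLib.toAbF X₀).obj (tanSh f₀)
  have hz : IsZero ((CechLib.cx U' Fs.obj).homology 1) :=
    (CechLib.isZero_homology_succ_iff U' Fs.obj 0).2 fun x hx =>
      exists_of_cocycle_unpow c.base Fs.obj i₀ U 0
        (fun y hy => cocycle_one_of_rigid hI (thinCoef f₀ H sq) hcT hrig U L.good L.cover y hy) x hx
  obtain ⟨e⟩ := CechLib.nonempty_homology_equiv U' 1 Fs
    (acyc_homMod hF (Coh.structureModule X₀) U' fun i => (L.good i).aff.preimage c)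
  haveI := AddCommGrpCat.subsingleton_of_isZero hz
  have := e.toEquiv.symm.subsingleton
  rwa [hcov'] at this

end Thin

section Ring

variable {R R₁ k : CommRingCat.{u}} (π : R ⟶ R₁) (ρ : R₁ ⟶ k)
  [IsClosedImmersion (Spec.map π)]

/-- The base as the closed subscheme. -/
def baseIso : Spec R₁ ≅ (Spec.map π).ker.subscheme := asIso (Spec.map π).toImage

theorem baseIso_ι : (baseIso π).hom ≫ (Spec.map π).ker.subschemeι = Spec.map π := (Spec.map π).toImage_imageι

theorem isPullback_baseIso {Y Y' : Scheme.{u}} {fY : Y ⟶ Spec R₁} {f' : Y' ⟶ Spec R} {j : Y ⟶ Y'} :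
    IsPullback j (fY ≫ (baseIso π).hom) f' (Spec.map π).ker.subschemeι ↔ IsPullback j fY f' (Spec.map π) := by
  constructor
  · intro h
    refine h.of_iso (Iso.refl _) (Iso.refl _) (baseIso π).symm (Iso.refl _) ?_ ?_ ?_ ?_
    · simp
    · simp [Category.assoc]
    · simp
    · simp only [Iso.refl_hom, Category.comp_id, Iso.symm_hom]
      rw [Iso.eq_inv_comp]
      exact baseIso_ι π
  · intro h
    refine h.of_iso (Iso.refl _) (Iso.refl _) (baseIso π) (Iso.refl _) ?_ ?_ ?_ ?_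
    · simp
    · simp
    · simp
    · simp [baseIso_ι π]

theorem isPullback_gOf {Y X₀ : Scheme.{u}} {fY : Y ⟶ Spec R₁} {f₀ : X₀ ⟶ Spec k} {c : X₀ ⟶ Y}
    (sq : IsPullback c f₀ fY (Spec.map ρ)) :
    IsPullback c f₀ (gOf (Spec.map π).ker (fY ≫ (baseIso π).hom)) (Spec.map (π ≫ ρ)) := by
  have hb : IsPullback (Spec.map ρ) (𝟙 (Spec k)) (Spec.map π) (Spec.map (π ≫ ρ)) :=
    IsPullback.of_vert_isIso_mono ⟨by rw [Category.id_comp, Spec.map_comp]⟩
  have := sq.paste_vert hb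
  rwa [Category.comp_id, show fY ≫ Spec.map π = gOf (Spec.map π).ker (fY ≫ (baseIso π).hom) from
    ((Category.assoc _ _ _).trans (congrArg (fY ≫ ·) (baseIso_ι π))).symm] at this

/-- Uniqueness of flat lifts along small extensions of rings. -/
theorem exists_iso_ring (hπ : Function.Surjective π.hom) (hρ : Function.Surjective ρ.hom) (hk : IsField k)
    (hfg : (RingHom.ker π.hom).FG) (hann : RingHom.ker (π ≫ ρ).hom * RingHom.ker π.hom = ⊥) {Y X₀ : Scheme.{u}}
    {fY : Y ⟶ Spec R₁} [Smooth fY] [IsSeparated fY] {f₀ : X₀ ⟶ Spec k} {c : X₀ ⟶ Y}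
    (sq : IsPullback c f₀ fY (Spec.map ρ)) [HasExt.{u} X₀.Modules]
    (h : Subsingleton (Ext.{u} (Omega.sheaf f₀) (Coh.structureModule X₀) 1))
    {Y₁ Y₂ : Scheme.{u}} {f₁ : Y₁ ⟶ Spec R} {f₂ : Y₂ ⟶ Spec R} {j₁ : Y ⟶ Y₁} {j₂ : Y ⟶ Y₂} [Flat f₁] [Flat f₂]
    (h₁ : IsPullback j₁ fY f₁ (Spec.map π)) (h₂ : IsPullback j₂ fY f₂ (Spec.map π)) :
    ∃ e : Y₁ ≅ Y₂, j₁ ≫ e.hom = j₂ ∧ e.hom ≫ f₂ = f₁ := by
  haveI := isClosedImmersion_map (π ≫ ρ) (by rw [CommRingCat.hom_comp]; exact hρ.comp hπ)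
  obtain ⟨n, b, H⟩ := exists_thin π ρ (by rw [CommRingCat.hom_comp]; exact hρ.comp hπ) hk hfg hann
  haveI : Smooth f₀ := MorphismProperty.of_isPullback sq ‹_›
  haveI : IsSeparated f₀ := MorphismProperty.of_isPullback sq ‹_›
  haveI : Y.IsSeparated := ⟨by
    rw [← Subsingleton.elim (fY ≫ terminal.from (Spec R₁)) (terminal.from Y)]
    infer_instance⟩
  exact exists_iso_thin (sq_ker π ρ hann) H (isPullback_gOf π ρ sq) h
    ((isPullback_baseIso π).2 h₁) ((isPullback_baseIso π).2 h₂)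

/-- Rigidity along a nontrivial square-zero extension makes the first cohomology vanish. -/
theorem subsingleton_ext_of_rigid_ring (π : R ⟶ k) [IsClosedImmersion (Spec.map π)]
    (hπ : Function.Surjective π.hom) (hk : IsField k) (hfg : (RingHom.ker π.hom).FG)
    (hann : RingHom.ker π.hom * RingHom.ker π.hom = ⊥) (hne : RingHom.ker π.hom ≠ ⊥)
    {X₀ : Scheme.{u}} (f₀ : X₀ ⟶ Spec k) [Smooth f₀] [IsSeparated f₀] [HasExt.{u} X₀.Modules]
    {YT : Scheme.{u}} {fT : YT ⟶ Spec R} {jT : X₀ ⟶ YT} [Flat fT] (hcT : IsPullback jT f₀ fT (Spec.map π))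
    (hrig : ∀ (Z : Scheme.{u}) (g : Z ⟶ Spec R) (j : X₀ ⟶ Z), Flat g → IsPullback j f₀ g (Spec.map π) →
      ∃ α : Z ≅ YT, α.hom ≫ fT = g ∧ j ≫ α.hom = jT) :
    Subsingleton (Ext.{u} (Omega.sheaf f₀) (Coh.structureModule X₀) 1) := by
  have hann' : RingHom.ker (π ≫ 𝟙 k).hom * RingHom.ker π.hom = ⊥ := by rw [Category.comp_id]; exact hann
  haveI := isClosedImmersion_map (π ≫ 𝟙 k) (by rw [Category.comp_id]; exact hπ)
  obtain ⟨n, b, H⟩ := exists_thin π (𝟙 k) (by rw [Category.comp_id]; exact hπ) hk hfg hann'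
  have hn : 0 < n := by
    by_contra h0
    obtain rfl : n = 0 := by omega
    refine hne (le_bot_iff.1 fun x hx => ?_)
    obtain ⟨x', rfl⟩ := (ConcreteCategory.bijective_of_isIso (Scheme.ΓSpecIso R).hom).2 x
    obtain ⟨r, hr⟩ := H.span ⟨x', (mem_ideal_ker π x').2 hx⟩
    rw [Fin.sum_univ_zero] at hr
    have : x' = 0 := congrArg Subtype.val hr
    rw [this, map_zero]
    exact zero_mem _
  haveI : X₀.IsSeparated := ⟨by
    rw [← Subsingleton.elim (f₀ ≫ terminal.from (Spec k)) (terminal.from X₀)]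
    infer_instance⟩
  have sq0 : IsPullback (𝟙 X₀) f₀ f₀ (Spec.map (𝟙 k)) := by
    rw [Spec.map_id]
    exact IsPullback.of_horiz_isIso ⟨(Category.id_comp _).trans (Category.comp_id _).symm⟩
  exact subsingleton_ext_of_rigid (sq_ker π (𝟙 k) hann') H ⟨0, hn⟩ (isPullback_gOf π (𝟙 k) sq0)
    ((isPullback_baseIso π).2 hcT) fun Z g j hg hj => hrig Z g j hg ((isPullback_baseIso π).1 hj)

end Ring

end SmDefLib
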