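import Groth.Agent.SmDefLib.ThinCoef

/-!
# Lifting smooth schemes over small extensions of affine bases
-/

set_option autoImplicit false
set_option linter.unusedSectionVars false
set_option linter.style.haveILetI false
set_option backward.isDefEq.respectTransparency false
set_option maxHeartbeats 1000000
set_option synthInstance.maxHeartbeats 400000

universe u

open CategoryTheory CategoryTheory.Limits AlgebraicGeometry Opposite TopologicalSpace Abelian
open CohCmpLib (homMod)
open CechLib (Cochain cap dd cap_le)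

noncomputable section

namespace SmDefLib

section Thin

variable {X₀ Y S K : Scheme.{u}} [IsAffine S] [IsAffine K] {I : S.IdealSheafData} {n : ℕ}
  {f : Y ⟶ I.subscheme} {κ : K ⟶ S} [IsClosedImmersion κ] {b : Fin n → I.ideal (topAff S)}
  {c : X₀ ⟶ Y} {f₀ : X₀ ⟶ K} [QuasiSeparated f₀]

theorem isSeparated_of_closed [Y.IsSeparated] (sq : IsPullback c f₀ (gOf I f) κ) : X₀.IsSeparated := by
  haveI := isClosedImmersion_c sq
  constructor
  rw [← Subsingleton.elim (c ≫ terminal.from Y) (terminal.from X₀)]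
  haveI : IsSeparated (terminal.from Y) := Scheme.IsSeparated.isSeparated_terminal_from
  infer_instance

/-- Cocycles of tuples of derivations are coboundaries. -/
theorem cocycle_tanPow [Y.IsSeparated] [Smooth f₀] [HasExt.{u} X₀.Modules]
    (sq : IsPullback c f₀ (gOf I f) κ) (i : ℕ)
    (h : Subsingleton (Ext.{u} (Omega.sheaf f₀) (Coh.structureModule X₀) (i + 1))) {ι : Type u}
    (U : ι → Y.Opens) (hU : ∀ a, IsAffineOpen (U a)) (hcov : ⨆ a, U a = ⊤)
    (x : Cochain U (tanPow n c f₀) (i + 1)) (hx : dd U (tanPow n c f₀) (i + 1) x = 0) :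
    ∃ y, dd U (tanPow n c f₀) i y = x := by
  haveI := isClosedImmersion_c sq
  haveI := isSeparated_of_closed sq
  haveI : Coh.IsQCoh (Coh.structureModule X₀) := QCohLib.isQCoh_unit
  have hF := isFinLocFree_omega f₀
  refine exists_of_cocycle_pow c.base ((QCohLib.toAbF X₀).obj (tanSh f₀)).obj n U i (fun a ha => ?_) x hx
  exact exists_of_cocycle_top (fun a => c ⁻¹ᵁ U a) ((QCohLib.toAbF X₀).obj (tanSh f₀))
    (acyc_homMod hF (Coh.structureModule X₀) _ fun a => (hU a).preimage c)
    (CohBCLib.iSup_preU (g' := c) U hcov) i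
    (subsingleton_HU_homMod hF i (Coh.structureModule X₀) h) a ha

/-- Smooth lifts exist along small extensions when the second cohomology of the tangent sheaf vanishes. -/
theorem exists_lift_thin (hI : I ^ 2 = ⊥) (H : Thin I κ b) (sq : IsPullback c f₀ (gOf I f) κ) [Smooth f]
    [Y.IsSeparated] [Smooth f₀] [HasExt.{u} X₀.Modules]
    (h : Subsingleton (Ext.{u} (Omega.sheaf f₀) (Coh.structureModule X₀) 2)) :
    ∃ (X : Scheme.{u}) (g : X ⟶ S) (j : Y ⟶ X), Smooth g ∧ IsPullback j f g I.subschemeι :=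
  exists_smooth_lift hI (thinCoef f₀ H sq) fun U hU hcov x hx =>
    cocycle_tanPow sq 1 h U (fun a => (hU a).aff) hcov x hx

end Thin

section Ring

variable {R R₁ k : CommRingCat.{u}} (π : R ⟶ R₁) (ρ : R₁ ⟶ k)

theorem mem_ker_appTop_iff {A B : CommRingCat.{u}} (g : A ⟶ B) (r : Γ(Spec A, ⊤)) :
    r ∈ RingHom.ker (Spec.map g).appTop.hom ↔ (Scheme.ΓSpecIso A).hom r ∈ RingHom.ker g.hom := by
  rw [RingHom.mem_ker, RingHom.mem_ker]
  have h : g ((Scheme.ΓSpecIso A).hom r) = (Scheme.ΓSpecIso B).hom ((Spec.map g).appTop r) :=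
    congr($(Scheme.ΓSpecIso_naturality g) r).symm
  rw [show g.hom ((Scheme.ΓSpecIso A).hom r) = _ from h]
  exact (map_eq_zero_iff (Scheme.ΓSpecIso B).hom.hom (ConcreteCategory.bijective_of_isIso _).1).symm

theorem isClosedImmersion_map {A B : CommRingCat.{u}} (g : A ⟶ B) (h : Function.Surjective g.hom) :
    IsClosedImmersion (Spec.map g) :=
  IsClosedImmersion.spec_of_surjective g h

theorem mem_ideal_ker {A B : CommRingCat.{u}} (g : A ⟶ B) [IsClosedImmersion (Spec.map g)] (r : Γ(Spec A, ⊤)) :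
    r ∈ (Spec.map g).ker.ideal (topAff (Spec A)) ↔ (Scheme.ΓSpecIso A).hom r ∈ RingHom.ker g.hom := by
  rw [Scheme.Hom.ker_apply]
  exact mem_ker_appTop_iff g r

theorem sq_ker [IsClosedImmersion (Spec.map π)] (hann : RingHom.ker (π ≫ ρ).hom * RingHom.ker π.hom = ⊥) :
    (Spec.map π).ker ^ 2 = ⊥ := by
  refine Scheme.IdealSheafData.ext_of_isAffine ?_
  rw [Scheme.IdealSheafData.ideal_pow, Pi.pow_apply, Scheme.IdealSheafData.ideal_bot, Pi.bot_apply, pow_two,
    ← le_bot_iff, Ideal.mul_le]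
  intro a ha b hb
  rw [mem_ideal_ker] at ha hb
  rw [Submodule.mem_bot]
  apply (ConcreteCategory.bijective_of_isIso (Scheme.ΓSpecIso R).hom).1
  rw [map_mul, map_zero]
  refine (Submodule.mem_bot (R := R)).1 ?_
  rw [← hann]
  refine Ideal.mul_mem_mul ?_ hb
  show ρ (π _) = 0
  rw [show π ((Scheme.ΓSpecIso R).hom a) = 0 from ha, map_zero]

theorem exists_thin [IsClosedImmersion (Spec.map π)] (hρπ : Function.Surjective (π ≫ ρ).hom) (hk : IsField k)
    (hfg : (RingHom.ker π.hom).FG) (hann : RingHom.ker (π ≫ ρ).hom * RingHom.ker π.hom = ⊥) :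
    ∃ (n : ℕ) (b : Fin n → (Spec.map π).ker.ideal (topAff (Spec R))),
      Thin (Spec.map π).ker (Spec.map (π ≫ ρ)) b := by
  let S := Spec R
  let J := (Spec.map π).ker.ideal (topAff S)
  let m := RingHom.ker (Spec.map (π ≫ ρ)).appTop.hom
  let e := (Scheme.ΓSpecIso R).hom
  have hsurj : Function.Surjective (Spec.map (π ≫ ρ)).appTop.hom := fun y => by
    obtain ⟨x, hx⟩ := hρπ ((Scheme.ΓSpecIso k).hom y)
    obtain ⟨x', rfl⟩ := (ConcreteCategory.bijective_of_isIso e).2 x
    refine ⟨x', (ConcreteCategory.bijective_of_isIso (Scheme.ΓSpecIso k).hom).1 ?_⟩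
    rw [← hx]
    exact congr($(Scheme.ΓSpecIso_naturality (π ≫ ρ)) x')
  haveI : m.IsMaximal := by
    letI := hk.toField
    have : m = (RingHom.ker (π ≫ ρ).hom).comap e.hom := by
      ext r
      rw [Ideal.mem_comap]
      exact mem_ker_appTop_iff _ r
    rw [this]
    haveI : (RingHom.ker (π ≫ ρ).hom).IsMaximal := RingHom.ker_isMaximal_of_surjective _ hρπ
    exact Ideal.comap_isMaximal_of_surjective _ (ConcreteCategory.bijective_of_isIso e).2
  have hann' : ∀ r ∈ m, ∀ z : J, r * z.1 = 0 := fun r hr z => by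
    apply (ConcreteCategory.bijective_of_isIso e).1
    rw [map_mul, map_zero]
    refine (Submodule.mem_bot (R := R)).1 ?_
    rw [← hann]
    exact Ideal.mul_mem_mul ((mem_ker_appTop_iff _ r).1 hr) ((mem_ideal_ker π z.1).1 z.2)
  have ht : Module.IsTorsionBySet Γ(S, ⊤) J m := fun z r => Subtype.ext (hann' r.1 r.2 z)
  letI : Module (Γ(S, ⊤) ⧸ m) J := ht.module
  haveI : IsScalarTower Γ(S, ⊤) (Γ(S, ⊤) ⧸ m) J := IsScalarTower.of_algebraMap_smul fun r z => ht.mk_smul r z
  letI := Ideal.Quotient.field m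
  haveI : Module.Finite Γ(S, ⊤) J := by
    rw [Module.Finite.iff_fg]
    have : J = (RingHom.ker π.hom).map (Scheme.ΓSpecIso R).inv.hom := by
      ext r
      rw [mem_ideal_ker, Ideal.mem_map_iff_of_surjective _ (ConcreteCategory.bijective_of_isIso _).2]
      constructor
      · exact fun h => ⟨e r, h, congr($((Scheme.ΓSpecIso R).hom_inv_id) r)⟩
      · rintro ⟨x, hx, rfl⟩
        rw [show (Scheme.ΓSpecIso R).hom ((Scheme.ΓSpecIso R).inv x) = x from
          congr($((Scheme.ΓSpecIso R).inv_hom_id) x)]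
        exact hx
    rw [this]
    exact hfg.map _
  haveI : Module.Finite (Γ(S, ⊤) ⧸ m) J := Module.Finite.of_restrictScalars_finite Γ(S, ⊤) _ _
  let B := Module.finBasis (Γ(S, ⊤) ⧸ m) J
  refine ⟨_, B, ⟨fun z => ?_, fun r hr i => ?_, hann'⟩⟩
  · choose r hr using fun i => Ideal.Quotient.mk_surjective (B.repr z i)
    refine ⟨r, ?_⟩
    conv_lhs => rw [← B.sum_repr z]
    exact Finset.sum_congr rfl fun i _ => by rw [← hr i]; exact ht.mk_smul (r i) (B i)
  · have h := Fintype.linearIndependent_iff.1 B.linearIndependent (fun i => Ideal.Quotient.mk m (r i)) ?_ i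
    · exact Ideal.Quotient.eq_zero_iff_mem.1 h
    · rw [← hr]
      exact Finset.sum_congr rfl fun i _ => ht.mk_smul (r i) (B i)

/-- Lifting smooth separated schemes over small extensions of rings. -/
theorem exists_lift_ring (hπ : Function.Surjective π.hom) (hρ : Function.Surjective ρ.hom) (hk : IsField k)
    (hfg : (RingHom.ker π.hom).FG) (hann : RingHom.ker (π ≫ ρ).hom * RingHom.ker π.hom = ⊥) {Y X₀ : Scheme.{u}}
    (fY : Y ⟶ Spec R₁) [Smooth fY] [IsSeparated fY] (f₀ : X₀ ⟶ Spec k) (c : X₀ ⟶ Y)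
    (sq : IsPullback c f₀ fY (Spec.map ρ)) [HasExt.{u} X₀.Modules]
    (h : Subsingleton (Ext.{u} (Omega.sheaf f₀) (Coh.structureModule X₀) 2)) :
    ∃ (Y' : Scheme.{u}) (f' : Y' ⟶ Spec R) (j : Y ⟶ Y'), Smooth f' ∧ IsPullback j fY f' (Spec.map π) := by
  haveI := isClosedImmersion_map π hπ
  haveI := isClosedImmersion_map (π ≫ ρ) (by rw [CommRingCat.hom_comp]; exact hρ.comp hπ)
  obtain ⟨n, b, H⟩ := exists_thin π ρ (by rw [CommRingCat.hom_comp]; exact hρ.comp hπ) hk hfg hann
  haveI : Smooth f₀ := MorphismProperty.of_isPullback sq ‹_›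
  haveI : IsSeparated f₀ := MorphismProperty.of_isPullback sq ‹_›
  haveI : Y.IsSeparated := ⟨by
    rw [← Subsingleton.elim (fY ≫ terminal.from (Spec R₁)) (terminal.from Y)]
    infer_instance⟩
  let e : Spec R₁ ≅ (Spec.map π).ker.subscheme := asIso (Spec.map π).toImage
  have he : e.hom ≫ (Spec.map π).ker.subschemeι = Spec.map π := (Spec.map π).toImage_imageι
  let f : Y ⟶ (Spec.map π).ker.subscheme := fY ≫ e.hom
  haveI : Smooth f := inferInstanceAs (Smooth (fY ≫ e.hom))
  have hg : gOf (Spec.map π).ker f = fY ≫ Spec.map π :=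
    (Category.assoc _ _ _).trans (congrArg (fY ≫ ·) he)
  have sq' : IsPullback c f₀ (gOf (Spec.map π).ker f) (Spec.map (π ≫ ρ)) := by
    have hb : IsPullback (Spec.map ρ) (𝟙 (Spec k)) (Spec.map π) (Spec.map (π ≫ ρ)) :=
      IsPullback.of_vert_isIso_mono ⟨by rw [Category.id_comp, Spec.map_comp]⟩
    have := sq.paste_vert hb
    rwa [Category.comp_id, ← hg] at this
  obtain ⟨X, g, j, hg', hj⟩ := exists_lift_thin (sq_ker π ρ hann) H sq' h
  refine ⟨X, g, j, hg', hj.of_iso (Iso.refl _) (Iso.refl _) e.symm (Iso.refl _) ?_ ?_ ?_ ?_⟩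
  · simp
  · simp [f, Category.assoc]
  · simp
  · simp only [Iso.refl_hom, Category.comp_id, Iso.symm_hom]
    rw [Iso.eq_inv_comp]
    exact he

end Ring

end SmDefLib
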