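import Groth.Agent.SmDefLib.Twist

/-!
# Classes of deformations as classes of one cocycles
-/

set_option autoImplicit false
set_option linter.unusedSectionVars false
set_option linter.style.haveILetI false
set_option backward.isDefEq.respectTransparency false
set_option maxHeartbeats 1000000

universe u

open CategoryTheory CategoryTheory.Limits AlgebraicGeometry Opposite TopologicalSpace
open CechLib (Cochain cap dd cap_le rs)

noncomputable section

namespace SmDefLib

variable {X₀ S : Scheme.{u}} {I : S.IdealSheafData}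

/-- A flat thickening of all of `X₀`. -/
structure Deform (f₀ : X₀ ⟶ I.subscheme) : Type (u + 1) where
  /-- total space -/
  X : Scheme.{u}
  /-- structure map -/
  g : X ⟶ S
  /-- inclusion -/
  j : X₀ ⟶ X
  flat : Flat g
  sq : IsPullback j f₀ g I.subschemeι

attribute [instance] Deform.flat

variable {f₀ : X₀ ⟶ I.subscheme}

/-- Isomorphic deformations. -/
def Deform.Rel (a b : Deform f₀) : Prop := ∃ α : a.X ≅ b.X, α.hom ≫ b.g = a.g ∧ a.j ≫ α.hom = b.j

theorem Deform.Rel.symm {a b : Deform f₀} : a.Rel b → b.Rel a := fun ⟨α, h1, h2⟩ =>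
  ⟨α.symm, by rw [Iso.symm_hom, Iso.inv_comp_eq, h1], by rw [Iso.symm_hom, ← h2, Category.assoc, Iso.hom_inv_id,
    Category.comp_id]⟩

theorem Deform.Rel.trans {a b c : Deform f₀} : a.Rel b → b.Rel c → a.Rel c := fun ⟨α, h1, h2⟩ ⟨β, h3, h4⟩ =>
  ⟨α ≪≫ β, by rw [Iso.trans_hom, Category.assoc, h3, h1], by rw [Iso.trans_hom, ← Category.assoc, h2, h4]⟩

theorem Deform.equivalence : Equivalence (Deform.Rel (f₀ := f₀)) :=
  ⟨fun a => ⟨Iso.refl _, Category.id_comp _, Category.comp_id _⟩, Deform.Rel.symm, Deform.Rel.trans⟩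

variable (hI : I ^ 2 = ⊥) (C : Coef I f₀)

/-- A deformation as an object of the band. -/
def Deform.obj (T : Deform f₀) : (band hI C).O := ⟨globalLift hI T.sq, std_globalLift hI T.sq⟩

variable (T : Deform f₀) {ι : Type u} (U : ι → X₀.Opens)

/-- A deformation on an open. -/
def Deform.on (i : ι) : (band hI C).O :=
  ⟨(globalLift hI T.sq).restrict (U := U i) (le_top : U i ≤ (globalLift hI T.sq).dom),
    (std_globalLift hI T.sq).restrict _⟩

/-- The inclusion of a piece of a deformation. -/
def Deform.res (i : ι) : Hom (T.on hI C U i).1 (T.obj hI C).1 (U i) :=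
  Hom.ofMap (U i) ((globalLift hI T.sq).up (U i)).ι rfl le_rfl le_top (by
    show (X₀.homOfLE (le_refl (U i)) ≫ (globalLift hI T.sq).ju _) ≫ _ = _
    rw [Scheme.homOfLE_rfl, Category.id_comp, Lift.ju_ι]
    rfl)

variable (hU : ∀ i, Good I f₀ (U i))

/-- The inclusion as an arrow. -/
def Deform.R (i : ι) : (band hI C).A (T.on hI C U i) (T.obj hI C) (U i) := ⟨le_rfl, le_top, T.res hI C U i⟩

include hU in
theorem Deform.isIso_res (i : ι) : IsIso (T.res hI C U i).φ :=
  Hom.isIso _ (T.on hI C U i).2 (T.obj hI C).2 hI le_rfl le_top (hU i)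

/-- The inverse arrow. -/
def Deform.R' (i : ι) : (band hI C).A (T.obj hI C) (T.on hI C U i) (U i) :=
  haveI := T.isIso_res hI C U hU i
  ⟨le_top, le_rfl, (T.res hI C U i).inv⟩

theorem Deform.R'_R (i : ι) (W : X₀.Opens) (h : W ≤ U i) {o : (band hI C).O}
    (x : (band hI C).A (T.obj hI C) o W) :
    (band hI C).comp ((band hI C).res h (T.R' hI C U hU i)) ((band hI C).comp ((band hI C).res h (T.R hI C U i)) x)
      = x := by
  haveI := T.isIso_res hI C U hU i
  rw [← (band hI C).assoc, ← (band hI C).res_comp]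
  refine Arr.ext' (Eq.trans ?_ (Hom.ext (Category.id_comp _) :
    (Hom.id (T.obj hI C).1 W).comp x.hom (h.trans le_top) = x.hom))
  show (((T.res hI C U i).inv.comp (T.res hI C U i) le_rfl).res le_top le_top h).comp x.hom (h.trans le_top) = _
  rw [Hom.inv_comp, Hom.res_id]

/-- The transition arrows. -/
def Deform.e : (band hI C).Arrows U (T.on hI C U) := fun i j =>
  (band hI C).comp ((band hI C).res (show cap U ![i, j] ≤ U i from cap_le U ![i, j] 0) (T.R hI C U i))
    ((band hI C).res (show cap U ![i, j] ≤ U j from cap_le U ![i, j] 1) (T.R' hI C U hU j))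

theorem Deform.isObs_e : (band hI C).IsObs U (T.e hI C U hU) 0 := fun i j k W hW hi hj hk => by
  simp only [Deform.e, at3, Pi.zero_apply, map_zero, (band hI C).act_zero, (band hI C).res_comp, (band hI C).res_res]
  rw [(band hI C).assoc]
  exact congrArg _ (T.R'_R hI C U hU j W hj _)

variable [X₀.IsSeparated] (hcov : ⨆ i, U i = ⊤)

/-- The transition arrows moved by a cochain. -/
def Deform.tw (c : Cochain U C.P 1) : (band hI C).Arrows U (T.on hI C U) := fun i j =>
  (band hI C).act (show (band hI C).good (cap U ![i, j]) from good_cap U hU 1 _) (c ![i, j]) (T.e hI C U hU i j)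

theorem Deform.isCocycle_tw {c : Cochain U C.P 1} (hc : dd U C.P 1 c = 0) :
    (band hI C).IsCocycle U (T.tw hI C U hU c) := by
  have hobs := (band hI C).isObs_act U (good_cap U hU) (T.isObs_e hI C U hU) c
  rw [hc, add_zero] at hobs
  exact (band hI C).isCocycle_of_isObs_zero U (good_cap U hU) hobs

/-- Gluing data of the twist. -/
def Deform.twData {c : Cochain U C.P 1} (hc : dd U C.P 1 c = 0) : GlueData (gOf I f₀) :=
  glueDataOfCocycle hI C (fun i => (T.on hI C U i).1) (fun i => (T.on hI C U i).2) hU hcov (T.tw hI C U hU c)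
    (T.isCocycle_tw hI C U hU hc)

/-- The twist of a deformation by a cocycle. -/
def Deform.twist {c : Cochain U C.P 1} (hc : dd U C.P 1 c = 0) : Deform f₀ :=
  have hst : Std I f₀ (T.twData hI C U hU hcov hc).lift := std_glued _ fun i => (T.on hI C U i).2
  { X := (T.twData hI C U hU hcov hc).glued
    g := (T.twData hI C U hU hcov hc).f
    j := (T.twData hI C U hU hcov hc).j
    flat := hst.flat
    sq := hst.pullback.of_iso X₀.topIso (Iso.refl _) (Iso.refl _) (Iso.refl _)
      (by show (X₀.topIso.hom ≫ _) ≫ 𝟙 _ = X₀.topIso.hom ≫ _; rw [Category.comp_id])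
      (by show ((⊤ : X₀.Opens).ι ≫ f₀) ≫ 𝟙 _ = X₀.topIso.hom ≫ f₀; rw [Category.comp_id]; rfl)
      (by show (T.twData hI C U hU hcov hc).f ≫ 𝟙 _ = 𝟙 _ ≫ _; rw [Category.comp_id, Category.id_comp])
      (by show I.subschemeι ≫ 𝟙 _ = 𝟙 _ ≫ I.subschemeι; rw [Category.comp_id, Category.id_comp]) }

/-- A piece of the twist. -/
def Deform.pc {c : Cochain U C.P 1} (hc : dd U C.P 1 c = 0) (i : ι) :
    (band hI C).A (T.on hI C U i) ((T.twist hI C U hU hcov hc).obj hI C) (U i) :=
  ⟨le_rfl, le_top, (T.twData hI C U hU hcov hc).piece i⟩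

theorem Deform.pc_glue {c : Cochain U C.P 1} (hc : dd U C.P 1 c = 0) (i j : ι) (W : X₀.Opens) (hi : W ≤ U i)
    (hj : W ≤ U j) :
    (band hI C).comp ((band hI C).res (le2 U hi hj) (T.tw hI C U hU c i j))
        ((band hI C).res hj (T.pc hI C U hU hcov hc j)) =
      (band hI C).res hi (T.pc hI C U hU hcov hc i) :=
  Arr.ext' ((T.twData hI C U hU hcov hc).piece_G i j W hi hj)

theorem Deform.isIso_pc {c : Cochain U C.P 1} (hc : dd U C.P 1 c = 0) (i : ι) :
    IsIso (T.pc hI C U hU hcov hc i).hom.φ := (T.twData hI C U hU hcov hc).isIso_piece i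

omit [X₀.IsSeparated] in
theorem band_res_self {o o' : (band hI C).O} {W : X₀.Opens} (φ : (band hI C).A o o' W) (h : W ≤ W) :
    (band hI C).res h φ = φ := Arr.ext' (Hom.res_self φ.hom φ.ha φ.hb h)

/-- The identity arrow. -/
def idA (o : (band hI C).O) {W : X₀.Opens} (ho : W ≤ o.1.dom) : (band hI C).A o o W := ⟨ho, ho, Hom.id o.1 W⟩

omit [X₀.IsSeparated] in
theorem band_id_comp {o o' : (band hI C).O} {W W' : X₀.Opens} (h : W ≤ W') (ho : W' ≤ o.1.dom)
    (φ : (band hI C).A o o' W) : (band hI C).comp ((band hI C).res h (idA hI C o ho)) φ = φ :=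
  Arr.ext' (res_id_comp ho h φ.hom (h.trans ho))

omit [X₀.IsSeparated] in
theorem band_comp_id {o o' : (band hI C).O} {W W' : X₀.Opens} (h : W ≤ W') (ho : W' ≤ o'.1.dom)
    (φ : (band hI C).A o o' W) : (band hI C).comp φ ((band hI C).res h (idA hI C o' ho)) = φ :=
  Arr.ext' (comp_res_id ho h φ.hom (h.trans ho))

omit [X₀.IsSeparated] in
theorem exists_band_inv {o o' : (band hI C).O} {W : X₀.Opens} (φ : (band hI C).A o o' W) (h : IsIso φ.hom.φ) :
    ∃ ψ : (band hI C).A o' o W, (band hI C).comp ψ φ = idA hI C o' φ.hb ∧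
      (band hI C).comp φ ψ = idA hI C o φ.ha :=
  ⟨⟨φ.hb, φ.ha, φ.hom.inv⟩, Arr.ext' (Hom.inv_comp _ φ.ha), Arr.ext' (Hom.comp_inv _ φ.hb)⟩

include hU hcov in
omit [X₀.IsSeparated] in
theorem rel_of_local {D L : Deform f₀} (y : ∀ i, (band hI C).A (D.obj hI C) (L.obj hI C) (U i))
    (hy : ∀ i j (W : X₀.Opens) (hi : W ≤ U i) (hj : W ≤ U j),
      (band hI C).res hi (y i) = (band hI C).res hj (y j)) : D.Rel L := by
  have hcov' : ∀ z ∈ (⊤ : X₀.Opens), ∃ k, z ∈ U k := fun z hz => by
    rw [← hcov] at hz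
    exact Opens.mem_iSup.1 hz
  let y' : ∀ i, Hom (globalLift hI D.sq) (globalLift hI L.sq) (U i) := fun i => (y i).hom
  have hy' : ∀ i k, (y' i).res le_top le_top (inf_le_left : U i ⊓ U k ≤ U i) =
      (y' k).res le_top le_top (inf_le_right : U i ⊓ U k ≤ U k) := fun i k =>
    congrArg Arr.hom (hy i k _ inf_le_left inf_le_right)
  obtain ⟨φ, hφ⟩ := Hom.exists_glue (a := globalLift hI D.sq) (b := globalLift hI L.sq) le_rfl le_rfl U
    (fun i => le_top) hcov' y' hy'
  have hiso : ∀ k, IsIso (Hom.res (a := globalLift hI D.sq) (b := globalLift hI L.sq) (W := ⊤) φ le_rfl le_rfl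
      (le_top : U k ≤ ⊤)).φ := fun k =>
    Hom.isIso (a := globalLift hI D.sq) (b := globalLift hI L.sq) (W := U k) _ (std_globalLift hI D.sq)
      (std_globalLift hI L.sq) hI le_top le_top (hU k)
  obtain ⟨φ', h1, h2⟩ := Hom.exists_inv (a := globalLift hI D.sq) (b := globalLift hI L.sq) (W := ⊤) le_rfl le_rfl φ
    U (fun i => le_top) hcov' hiso
  haveI : IsIso φ.φ := ⟨φ'.φ, congrArg Hom.φ h1, congrArg Hom.φ h2⟩
  obtain ⟨α, hα, hα'⟩ := exists_iso_of_hom hI D.sq L.sq φ
  exact ⟨α, hα', hα⟩

/-- The equations of arrows out of the twist. -/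
def Deform.Fam {o : (band hI C).O} (c : Cochain U C.P 1) (x : ∀ i, (band hI C).A (T.on hI C U i) o (U i)) : Prop :=
  ∀ (i j : ι) (W : X₀.Opens) (hi : W ≤ U i) (hj : W ≤ U j),
    (band hI C).comp ((band hI C).res (le2 U hi hj) (T.tw hI C U hU c i j)) ((band hI C).res hj (x j)) =
      (band hI C).res hi (x i)

/-- A compatible family gives an isomorphism out of the twist. -/
theorem Deform.rel_of_fam {c : Cochain U C.P 1} (hc : dd U C.P 1 c = 0) {L : Deform f₀}
    (x : ∀ i, (band hI C).A (T.on hI C U i) (L.obj hI C) (U i)) (hx : T.Fam hI C U hU c x) :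
    (T.twist hI C U hU hcov hc).Rel L := by
  choose P' hP hP' using fun i => exists_band_inv hI C (T.pc hI C U hU hcov hc i) (T.isIso_pc hI C U hU hcov hc i)
  refine rel_of_local hI C U hU hcov (fun i => (band hI C).comp (P' i) (x i)) fun i j W hi hj => ?_
  have e1 : (band hI C).comp ((band hI C).res hi (P' i)) ((band hI C).res (le2 U hi hj) (T.tw hI C U hU c i j)) =
      (band hI C).res hj (P' j) := by
    have h1 := congrArg (fun z => (band hI C).comp ((band hI C).res hi (P' i))
      ((band hI C).comp z ((band hI C).res hj (P' j)))) (T.pc_glue hI C U hU hcov hc i j W hi hj)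
    rw [(band hI C).assoc, ← (band hI C).res_comp hj, hP', band_comp_id, ← (band hI C).assoc,
      ← (band hI C).res_comp hi, hP, band_id_comp] at h1
    exact h1
  rw [(band hI C).res_comp, (band hI C).res_comp, ← hx i j W hi hj, ← (band hI C).assoc, e1]

/-- An isomorphism out of the twist gives a compatible family. -/
theorem Deform.exists_fam {c : Cochain U C.P 1} (hc : dd U C.P 1 c = 0) {L : Deform f₀}
    (h : (T.twist hI C U hU hcov hc).Rel L) :
    ∃ x : ∀ i, (band hI C).A (T.on hI C U i) (L.obj hI C) (U i), T.Fam hI C U hU c x := by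
  obtain ⟨α, hαf, hαj⟩ := h
  let D := T.twist hI C U hU hcov hc
  let Φ : (band hI C).A (D.obj hI C) (L.obj hI C) ⊤ := ⟨le_rfl, le_rfl, Hom.ofMap ⊤ α.hom hαf le_rfl le_rfl (by
    show (X₀.homOfLE (le_refl ⊤) ≫ X₀.topIso.hom ≫ D.j) ≫ α.hom = X₀.homOfLE (le_refl ⊤) ≫ X₀.topIso.hom ≫ L.j
    rw [Category.assoc, Category.assoc, hαj])⟩
  refine ⟨fun i => (band hI C).comp (T.pc hI C U hU hcov hc i) ((band hI C).res le_top Φ), fun i j W hi hj => ?_⟩
  rw [(band hI C).res_comp, (band hI C).res_comp, (band hI C).res_res, (band hI C).res_res, ← (band hI C).assoc,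
    T.pc_glue hI C U hU hcov hc i j W hi hj]

theorem at2_self (d : Cochain U C.P 1) (i j : ι) (hi : cap U ![i, j] ≤ U i) (hj : cap U ![i, j] ≤ U j) :
    at2 U C.P d hi hj = d ![i, j] := congr($(C.P.map_id _) (d ![i, j]))

/-- Isomorphic twists have cohomologous cocycles, and conversely. -/
theorem Deform.twist_rel_iff {a b : Cochain U C.P 1} (ha : dd U C.P 1 a = 0) (hb : dd U C.P 1 b = 0) :
    (T.twist hI C U hU hcov ha).Rel (T.twist hI C U hU hcov hb) ↔ ∃ d, dd U C.P 0 d = b - a := by
  let P : ∀ i, (band hI C).A (T.on hI C U i) _ (U i) := T.pc hI C U hU hcov hb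
  constructor
  · intro h
    obtain ⟨x, hx⟩ := T.exists_fam hI C U hU hcov ha h
    choose d hd using fun J : Fin 1 → ι =>
      (band hI C).exists_act (good_cap U hU 0 J) ((band hI C).res (cap_le U J 0) (P (J 0))) ((band hI C).res (cap_le U J 0) (x (J 0)))
    refine ⟨d, funext fun J => ?_⟩
    rw [show J = ![J 0, J 1] from funext fun r => by fin_cases r <;> rfl]
    generalize J 0 = i, J 1 = j
    have hW : (band hI C).good (cap U ![i, j]) := good_cap U hU 1 _
    have hi : cap U ![i, j] ≤ U i := cap_le U ![i, j] 0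
    have hj : cap U ![i, j] ≤ U j := cap_le U ![i, j] 1
    have hd' : ∀ l (hl : cap U ![i, j] ≤ U l), (band hI C).res hl (x l) = (band hI C).act hW (at1 U C.P d hl) ((band hI C).res hl (P l)) :=
      fun l hl => by
        have h := congrArg ((band hI C).res (le1 U hl)) (hd ![l])
        rw [(band hI C).res_act _ _ hW, (band hI C).res_res, (band hI C).res_res] at h
        exact h.symm
    have h1 := hx i j _ hi hj
    have h2 := T.pc_glue hI C U hU hcov hb i j _ hi hj
    rw [hd' i hi, hd' j hj, ← h2] at h1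
    simp only [Deform.tw, (band hI C).res_act _ _ hW] at h1
    rw [(band hI C).act_comp, (band hI C).comp_act, (band hI C).act_act, (band hI C).act_comp, (band hI C).act_act] at h1
    have h3 := (band hI C).act_inj hW _ h1
    have h4 : at2 U C.P (dd U C.P 0 d) hi hj = at1 U C.P d hj - at1 U C.P d hi := at2_dd U C.P d hi hj
    rw [at2_self C U] at h4
    change at2 U C.P a hi hj + at1 U C.P d hj = at1 U C.P d hi + at2 U C.P b hi hj at h3
    rw [at2_self C U, at2_self C U] at h3
    rw [h4, Pi.sub_apply]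
    exact sub_eq_sub_iff_add_eq_add.2 ((add_comm _ _).trans (h3.trans (add_comm _ _)))
  · rintro ⟨d, hd⟩
    refine T.rel_of_fam hI C U hU hcov ha (fun i => (band hI C).act (hU i) (at1 U C.P d (le_refl (U i))) (P i))
      fun i j W hi hj => ?_
    have key : ∀ hW : (band hI C).good (cap U ![i, j]),
        (band hI C).comp (T.tw hI C U hU a i j)
          ((band hI C).res (cap_le U ![i, j] 1 : cap U ![i, j] ≤ U j) ((band hI C).act (hU j) (at1 U C.P d (le_refl (U j))) (P j))) =
        (band hI C).res (cap_le U ![i, j] 0 : cap U ![i, j] ≤ U i) ((band hI C).act (hU i) (at1 U C.P d (le_refl (U i))) (P i)) := by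
      intro hW
      have hi : cap U ![i, j] ≤ U i := cap_le U ![i, j] 0
      have hj : cap U ![i, j] ≤ U j := cap_le U ![i, j] 1
      have h2 := T.pc_glue hI C U hU hcov hb i j _ hi hj
      show (band hI C).comp (T.tw hI C U hU a i j) ((band hI C).res hj _) = (band hI C).res hi _
      rw [(band hI C).res_act hj _ hW, (band hI C).res_act hi _ hW, rs_at1, rs_at1, ← h2]
      simp only [Deform.tw, (band hI C).res_act _ _ hW]
      rw [show (band hI C).res (le2 U hi hj) (T.e hI C U hU i j) = T.e hI C U hU i j from band_res_self hI C _ _]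
      rw [(band hI C).comp_act, (band hI C).act_comp, (band hI C).act_comp, (band hI C).act_act, (band hI C).act_act]
      refine congrArg (fun p => (band hI C).act hW p _) ?_
      have h4 : at2 U C.P (dd U C.P 0 d) hi hj = at1 U C.P d hj - at1 U C.P d hi := at2_dd U C.P d hi hj
      rw [hd, at2_self C U, Pi.sub_apply] at h4
      rw [show rs C.P (le2 U hi hj) (b ![i, j]) = b ![i, j] from at2_self C U b i j hi hj]
      show at1 U C.P d hj + a ![i, j] = at1 U C.P d hi + b ![i, j]
      rw [← sub_eq_zero] at h4 ⊢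
      rw [← neg_eq_zero, ← h4]
      abel
    have h := congrArg ((band hI C).res (le2 U hi hj)) (key (good_cap U hU 1 _))
    rw [(band hI C).res_comp, (band hI C).res_res, (band hI C).res_res] at h
    exact h

/-- All deformations are twists. -/
theorem Deform.exists_twist (hloc : ∀ L : Deform f₀, ∀ i, Nonempty ((band hI C).A (T.on hI C U i) (L.obj hI C) (U i)))
    (L : Deform f₀) : ∃ (c : Cochain U C.P 1) (hc : dd U C.P 1 c = 0), (T.twist hI C U hU hcov hc).Rel L := by
  let φ : ∀ i, (band hI C).A (T.on hI C U i) (L.obj hI C) (U i) := fun i => (hloc L i).some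
  choose c hc using fun J : Fin 2 → ι =>
    (band hI C).exists_act (good_cap U hU 1 J)
      ((band hI C).comp ((band hI C).res (le2 U (cap_le U J 0) (cap_le U J 1)) (T.e hI C U hU (J 0) (J 1)))
        ((band hI C).res (cap_le U J 1) (φ (J 1)))) ((band hI C).res (cap_le U J 0) (φ (J 0)))
  have hs : ∀ i j (W : X₀.Opens) (hW : (band hI C).good W) (hi : W ≤ U i) (hj : W ≤ U j),
      (band hI C).res hi (φ i) = (band hI C).act hW (at2 U C.P c hi hj)
        ((band hI C).comp ((band hI C).res (le2 U hi hj) (T.e hI C U hU i j)) ((band hI C).res hj (φ j))) := fun i j W hW hi hj => by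
    have h := congrArg ((band hI C).res (le2 U hi hj)) (hc ![i, j])
    rw [(band hI C).res_act _ _ hW, (band hI C).res_comp, (band hI C).res_res, (band hI C).res_res, (band hI C).res_res] at h
    exact h.symm
  have hz : dd U C.P 1 c = 0 := funext fun J => by
    rw [show J = ![J 0, J 1, J 2] from funext fun r => by fin_cases r <;> rfl]
    generalize J 0 = i, J 1 = j, J 2 = k
    have hW : (band hI C).good (cap U ![i, j, k]) := good_cap U hU 2 _
    have hi : cap U ![i, j, k] ≤ U i := cap_le U ![i, j, k] 0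
    have hj : cap U ![i, j, k] ≤ U j := cap_le U ![i, j, k] 1
    have hk : cap U ![i, j, k] ≤ U k := cap_le U ![i, j, k] 2
    have he := T.isObs_e hI C U hU i j k _ hW hi hj hk
    rw [show at3 U C.P (0 : Cochain U C.P 2) hi hj hk = 0 from map_zero _, (band hI C).act_zero] at he
    have h := hs i j _ hW hi hj
    rw [hs j k _ hW hj hk, (band hI C).comp_act, ← (band hI C).assoc, he, (band hI C).act_act, hs i k _ hW hi hk] at h
    have h3 := (band hI C).act_inj hW _ h
    have h4 : at3 U C.P (dd U C.P 1 c) hi hj hk =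
        at2 U C.P c hj hk - at2 U C.P c hi hk + at2 U C.P c hi hj := at3_dd U C.P c hi hj hk
    rw [show at3 U C.P (dd U C.P 1 c) hi hj hk = dd U C.P 1 c ![i, j, k] from
      congr($(C.P.map_id _) (dd U C.P 1 c ![i, j, k]))] at h4
    rw [h4, h3]
    show _ = (0 : C.P.obj (op (cap U ![i, j, k])))
    abel
  refine ⟨c, hz, T.rel_of_fam hI C U hU hcov hz φ fun i j W hi hj => ?_⟩
  have hW : (band hI C).good (cap U ![i, j]) := good_cap U hU 1 _
  have h : (band hI C).comp (T.tw hI C U hU c i j) ((band hI C).res (cap_le U ![i, j] 1 : cap U ![i, j] ≤ U j) (φ j)) =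
      (band hI C).res (cap_le U ![i, j] 0 : cap U ![i, j] ≤ U i) (φ i) := by
    rw [hs i j _ hW (cap_le U ![i, j] 0) (cap_le U ![i, j] 1), at2_self C U,
      show (band hI C).res (le2 U (cap_le U ![i, j] 0) (cap_le U ![i, j] 1)) (T.e hI C U hU i j) = T.e hI C U hU i j from
        band_res_self hI C _ _]
    exact (band hI C).act_comp _ _ _ _
  have h' := congrArg ((band hI C).res (le2 U hi hj)) h
  rw [(band hI C).res_comp, (band hI C).res_res, (band hI C).res_res] at h'
  exact h'

/-- Cohomologous one cocycles. -/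
def CocRel (a b : {c : Cochain U C.P 1 // dd U C.P 1 c = 0}) : Prop := ∃ d, dd U C.P 0 d = b.1 - a.1

include hU hcov in
/-- Classes of deformations are classes of one cocycles. -/
theorem Deform.nonempty_quot_equiv
    (hloc : ∀ L : Deform f₀, ∀ i, Nonempty ((band hI C).A (T.on hI C U i) (L.obj hI C) (U i))) :
    Nonempty (Quot (Deform.Rel (f₀ := f₀)) ≃ Quot (CocRel C U)) := by
  refine ⟨(Equiv.ofBijective
    (Quot.lift (fun a : {c : Cochain U C.P 1 // dd U C.P 1 c = 0} =>
      Quot.mk (Deform.Rel (f₀ := f₀)) (T.twist hI C U hU hcov a.2))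
      fun a b h => Quot.sound ((T.twist_rel_iff hI C U hU hcov a.2 b.2).2 h)) ⟨?_, ?_⟩).symm⟩
  · intro x y
    induction x using Quot.ind with | mk a => ?_
    induction y using Quot.ind with | mk b => ?_
    intro h
    exact Quot.sound ((T.twist_rel_iff hI C U hU hcov a.2 b.2).1
      ((Deform.equivalence (f₀ := f₀)).eqvGen_iff.1 (Quot.eqvGen_exact h)))
  · intro x
    induction x using Quot.ind with | mk L => ?_
    obtain ⟨c, hc, h⟩ := T.exists_twist hI C U hU hcov hloc L
    exact ⟨Quot.mk _ ⟨c, hc⟩, Quot.sound h⟩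

end SmDefLib
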