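import Groth.Prelude.Def_ArtFun4
import Groth.Agent.SmDefLib.Classify
import Groth.Agent.SmDefLib.Rigid
import Groth.Agent.HilbObsTh.Obs

/-!
# Small extensions of Artinian algebras
-/

set_option autoImplicit false
set_option linter.unusedSectionVars false
set_option linter.style.haveILetI false
set_option backward.isDefEq.respectTransparency false
set_option maxHeartbeats 1000000

universe u

open CategoryTheory CategoryTheory.Limits AlgebraicGeometry
open ArtFun ArtFun.Art

noncomputable section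

namespace SmDefLib

variable {k : Type u} [Field k] {X₀ : Scheme.{u}} {x : X₀ ⟶ specPt k}

instance isClosedImmersion_specRes (A : Art k k) : IsClosedImmersion (specRes A) :=
  isClosedImmersion_map _ A.res_surjective

theorem smooth_defSch [Smooth x] [IsSeparated x] {A : Art k k} (ξ : DefSch X₀ x A) :
    Smooth ξ.f ∧ IsSeparated ξ.f :=
  haveI := ξ.flat
  smooth_deformation A.res.toRingHom x ξ.f ξ.i ξ.isPullback

variable {B A : Art k k} (p : B ⟶ A)

/-- The ring map of a morphism. -/
abbrev artMap : CommRingCat.of B ⟶ CommRingCat.of A := CommRingCat.ofHom p.toAlgHom.toRingHom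

/-- The augmentation. -/
abbrev artRes (A : Art k k) : CommRingCat.of A ⟶ CommRingCat.of k := CommRingCat.ofHom A.res.toRingHom

theorem artMap_res : artMap p ≫ artRes A = artRes B :=
  CommRingCat.hom_ext (congrArg AlgHom.toRingHom p.res_comp)

theorem isClosedImmersion_specMap (hp : IsSemismallExt p) : IsClosedImmersion (Spec.map (artMap p)) :=
  isClosedImmersion_map _ hp.1

instance [h : IsClosedImmersion (Spec.map (artMap p))] : IsClosedImmersion (Spec.map (artMap p ≫ artRes A)) := by
  rw [artMap_res]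
  exact isClosedImmersion_specRes B

theorem art_hann (hp : IsSemismallExt p) :
    RingHom.ker (artMap p ≫ artRes A).hom * RingHom.ker (artMap p).hom = ⊥ := by
  have h : RingHom.ker (artMap p ≫ artRes A).hom = IsLocalRing.maximalIdeal B := by
    rw [artMap_res]
    exact Ideal.ext fun a => (mem_maximalIdeal_iff B a).symm
  rw [h]
  exact hp.2

/-- The generators of the ideal from a basis of the kernel. -/
def artBasis [IsClosedImmersion (Spec.map (artMap p))] (i : Fin (HilbObsTh.kdim p)) :
    (Spec.map (artMap p)).ker.ideal (topAff (Spec (CommRingCat.of B))) :=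
  ⟨(Scheme.ΓSpecIso (CommRingCat.of B)).inv (HilbObsTh.kbasis p i : B), (mem_ideal_ker (artMap p) _).2 (by
    rw [show (Scheme.ΓSpecIso (CommRingCat.of B)).hom ((Scheme.ΓSpecIso (CommRingCat.of B)).inv
      (HilbObsTh.kbasis p i : B)) = (HilbObsTh.kbasis p i : B) from
      congr($((Scheme.ΓSpecIso (CommRingCat.of B)).inv_hom_id) _)]
    exact (HilbObsTh.kbasis p i).2)⟩

theorem thin_artBasis [IsClosedImmersion (Spec.map (artMap p))] (hp : IsSemismallExt p) :
    Thin (Spec.map (artMap p)).ker (Spec.map (artMap p ≫ artRes A)) (artBasis p) := by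
  let e := Scheme.ΓSpecIso (CommRingCat.of B)
  have he : ∀ r, e.hom (e.inv r) = r := fun r => congr($(e.inv_hom_id) r)
  have he' : ∀ r, e.inv (e.hom r) = r := fun r => congr($(e.hom_inv_id) r)
  refine ⟨fun z => ?_, fun r hr i => ?_, fun r hr z => ?_⟩
  · have hz : e.hom z.1 ∈ RingHom.ker p.toAlgHom := (mem_ideal_ker (artMap p) z.1).1 z.2
    refine ⟨fun i => e.inv (algebraMap k B ((HilbObsTh.kbasis p).repr ⟨e.hom z.1, hz⟩ i)), Subtype.ext ?_⟩
    rw [Submodule.coe_sum]
    refine Eq.trans ?_ (Finset.sum_congr rfl fun i _ => map_mul e.inv.hom _ _)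
    rw [← map_sum e.inv.hom]
    refine (he' z.1).symm.trans (congrArg e.inv ?_)
    have h := congrArg Subtype.val ((HilbObsTh.kbasis p).sum_repr ⟨e.hom z.1, hz⟩)
    rw [Submodule.coe_sum] at h
    exact h.symm.trans (Finset.sum_congr rfl fun i _ => Algebra.smul_def _ _)
  · rw [mem_ker_appTop_iff, artMap_res]
    show B.res (e.hom (r i)) = 0
    have hmul : ∀ a (w : ↥(RingHom.ker p.toAlgHom)), a * (w : B) = algebraMap k B (B.res a) * (w : B) := fun a w => by
      rw [← sub_eq_zero, ← sub_mul]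
      have hm : a - algebraMap k B (B.res a) ∈ IsLocalRing.maximalIdeal B := by
        rw [mem_maximalIdeal_iff, map_sub, B.res.commutes]
        exact sub_self _
      have h := Ideal.mul_mem_mul hm w.2
      rw [hp.2] at h
      exact (Submodule.mem_bot B).1 h
    have h0 : ∑ j, B.res (e.hom (r j)) • HilbObsTh.kbasis p j = 0 := Subtype.ext (by
      have h := congrArg (fun w => e.hom (Subtype.val w)) hr
      simp only [Submodule.coe_sum, map_sum] at h
      rw [Submodule.coe_sum]
      refine Eq.trans (Finset.sum_congr rfl fun j _ => ?_) (h.trans (map_zero _))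
      refine (Algebra.smul_def _ _).trans ((hmul _ _).symm.trans ?_)
      show _ = e.hom (r j * (e.inv _))
      rw [map_mul, he])
    exact Fintype.linearIndependent_iff.1 (HilbObsTh.kbasis p).linearIndependent _ h0 i
  · apply (ConcreteCategory.bijective_of_isIso e.hom).1
    rw [map_mul, map_zero]
    have hm : e.hom r ∈ RingHom.ker (artMap p ≫ artRes A).hom := (mem_ker_appTop_iff _ r).1 hr
    have h := Ideal.mul_mem_mul hm ((mem_ideal_ker (artMap p) z.1).1 z.2)
    rw [art_hann p hp] at h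
    exact (Submodule.mem_bot (R := B)).1 h

variable [hcl : IsClosedImmersion (Spec.map (artMap p))]

/-- The map to the closed subscheme. -/
def artF (ξ : DefSch X₀ x A) : ξ.total ⟶ (Spec.map (artMap p)).ker.subscheme :=
  ξ.f ≫ (baseIso (artMap p)).hom

theorem artSq (ξ : DefSch X₀ x A) :
    IsPullback ξ.i x (gOf (Spec.map (artMap p)).ker (artF p ξ)) (Spec.map (artMap p ≫ artRes A)) :=
  isPullback_gOf (artMap p) (artRes A) ξ.isPullback

/-- A deformation extending `ξ` from a flat thickening. -/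
def toExt (ξ : DefSch X₀ x A) (D : Deform (artF p ξ)) : DefSch X₀ x B where
  total := D.X
  f := D.g
  flat := D.flat
  i := ξ.i ≫ D.j
  isPullback := by
    have h := ξ.isPullback.paste_horiz ((isPullback_baseIso (artMap p)).1 D.sq)
    rwa [specRes_comp] at h

theorem exists_toExt_iso (ξ : DefSch X₀ x A) (D : Deform (artF p ξ)) :
    ∃ q : ((toExt p ξ D).baseChange p).Iso ξ,
      q.iso.inv ≫ pullback.fst (toExt p ξ D).f (specMap p) = D.j := by
  have h := (isPullback_baseIso (artMap p)).1 D.sq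
  refine ⟨⟨h.isoPullback.symm, h.isoPullback_inv_snd, ?_⟩, h.isoPullback_hom_fst⟩
  rw [Iso.symm_hom, Iso.comp_inv_eq]
  refine pullback.hom_ext ?_ ?_
  · rw [DefSch.baseChange_i_fst, Category.assoc]
    exact congrArg (ξ.i ≫ ·) h.isoPullback_hom_fst.symm
  · refine (DefSch.baseChange_i_f (toExt p ξ D) p).trans ?_
    rw [Category.assoc]
    exact ξ.i_f.symm.trans (congrArg (ξ.i ≫ ·) h.isoPullback_hom_snd.symm)

/-- The flat thickening of an extension. -/
def ofExt (ξ : DefSch X₀ x A) (η : DefSch X₀ x B) (q : (η.baseChange p).Iso ξ) : Deform (artF p ξ) where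
  X := η.total
  g := η.f
  j := q.iso.inv ≫ pullback.fst η.f (specMap p)
  flat := η.flat
  sq := (isPullback_baseIso (artMap p)).2 (by
    refine (IsPullback.of_hasPullback η.f (specMap p)).of_iso q.iso (Iso.refl _) (Iso.refl _) (Iso.refl _) ?_ ?_ ?_ ?_
    · simp
    · simp only [Iso.refl_hom, Category.comp_id]
      exact q.hom_f.symm
    · simp
    · simp)

theorem ext_i (ξ : DefSch X₀ x A) (η : DefSch X₀ x B) (q : (η.baseChange p).Iso ξ) :
    η.i = ξ.i ≫ (ofExt p ξ η q).j := by
  show _ = ξ.i ≫ q.iso.inv ≫ pullback.fst _ _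
  rw [← q.i_hom, Category.assoc, Iso.hom_inv_id_assoc, DefSch.baseChange_i_fst]

theorem ofExt_rel_iff (ξ : DefSch X₀ x A) (a b : Σ η : DefSch X₀ x B, (η.baseChange p).Iso ξ) :
    (∃ ψ : a.1.Iso b.1, ((ψ.baseChange p).trans b.2).iso = a.2.iso) ↔
      (ofExt p ξ a.1 a.2).Rel (ofExt p ξ b.1 b.2) := by
  constructor
  · rintro ⟨ψ, hψ⟩
    refine ⟨ψ.iso, ψ.hom_f, ?_⟩
    show (a.2.iso.inv ≫ pullback.fst _ _) ≫ ψ.iso.hom = b.2.iso.inv ≫ pullback.fst _ _
    have h : DefSch.pullMap ψ.iso.hom ψ.hom_f p ≫ b.2.iso.hom = a.2.iso.hom := congrArg Iso.hom hψ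
    rw [Category.assoc, Iso.inv_comp_eq, ← DefSch.pullMap_fst ψ.iso.hom ψ.hom_f p, ← h, Category.assoc,
      Iso.hom_inv_id_assoc]
  · rintro ⟨α, hf, hj⟩
    change (a.2.iso.inv ≫ pullback.fst _ _) ≫ α.hom = b.2.iso.inv ≫ pullback.fst _ _ at hj
    refine ⟨⟨α, hf, ?_⟩, ?_⟩
    · rw [ext_i p ξ a.1 a.2, ext_i p ξ b.1 b.2, Category.assoc]
      exact congrArg (ξ.i ≫ ·) hj
    · refine Iso.ext ?_
      show DefSch.pullMap α.hom hf p ≫ b.2.iso.hom = a.2.iso.hom
      rw [← Iso.eq_comp_inv]
      refine pullback.hom_ext ?_ ?_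
      · rw [DefSch.pullMap_fst, Category.assoc, ← hj, Category.assoc, Iso.hom_inv_id_assoc]
      · rw [DefSch.pullMap_snd, Category.assoc]
        have h1 : b.2.iso.inv ≫ pullback.snd b.1.f (specMap p) = ξ.f := by
          rw [Iso.inv_comp_eq]; exact b.2.hom_f.symm
        rw [h1]
        exact a.2.hom_f.symm

/-- Extensions are flat thickenings. -/
theorem nonempty_ext_equiv (ξ : DefSch X₀ x A) :
    Nonempty (Quot (fun a b : (Σ η : DefSch X₀ x B, (η.baseChange p).Iso ξ) =>
        ∃ ψ : a.1.Iso b.1, ((ψ.baseChange p).trans b.2).iso = a.2.iso) ≃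
      Quot (Deform.Rel (f₀ := artF p ξ))) := by
  refine ⟨Equiv.ofBijective (Quot.lift (fun a => Quot.mk _ (ofExt p ξ a.1 a.2))
    fun a b h => Quot.sound ((ofExt_rel_iff p ξ a b).1 h)) ⟨?_, ?_⟩⟩
  · intro u v
    induction u using Quot.ind with | mk a => ?_
    induction v using Quot.ind with | mk b => ?_
    exact fun h => Quot.sound ((ofExt_rel_iff p ξ a b).2
      ((Deform.equivalence (f₀ := artF p ξ)).eqvGen_iff.1 (Quot.eqvGen_exact h)))
  · intro u
    induction u using Quot.ind with | mk D => ?_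
    obtain ⟨q, hq⟩ := exists_toExt_iso p ξ D
    exact ⟨Quot.mk _ ⟨toExt p ξ D, q⟩, Quot.sound ⟨Iso.refl _, Category.id_comp _, (Category.comp_id _).trans hq⟩⟩

end SmDefLib
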