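import Groth.Agent.SmDefLib.Classify
import Groth.Agent.SmDefLib.ThinExist

/-!
# Classes of one cocycles and first cohomology
-/

set_option autoImplicit false
set_option linter.unusedSectionVars false
set_option linter.style.haveILetI false
set_option backward.isDefEq.respectTransparency false
set_option maxHeartbeats 1000000

universe u

open CategoryTheory CategoryTheory.Limits AlgebraicGeometry Opposite TopologicalSpace
open CechLib (Cochain cap dd dd_apply rs cx cochainEquiv ev_d rs_rs)

noncomputable section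

namespace SmDefLib

section Top

variable {X : TopCat.{u}} {ι : Type u} (U : ι → Opens X) (P : (Opens X)ᵒᵖ ⥤ AddCommGrpCat.{u})

/-- Cohomologous one cocycles of a presheaf. -/
def PRel (a b : {c : Cochain U P 1 // dd U P 1 c = 0}) : Prop := ∃ d, dd U P 0 d = b.1 - a.1

theorem pRel_equivalence : Equivalence (PRel U P) :=
  ⟨fun a => ⟨0, by rw [map_zero, sub_self]⟩, fun ⟨d, h⟩ => ⟨-d, by rw [map_neg, h, neg_sub]⟩,
    fun ⟨d, h⟩ ⟨d', h'⟩ => ⟨d + d', by rw [map_add, h, h']; abel⟩⟩

/-- Classes of one cocycles form the first homology of the Čech complex. -/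
theorem nonempty_equiv_homology : Nonempty (Quot (PRel U P) ≃ (cx U P).homology 1) := by
  let S := (cx U P).sc' 0 1 2
  let iso : (cx U P).homology 1 ≅ S.abLeftHomologyData.H :=
    (cx U P).homologyIsoSc' 0 1 2 (by simp) (by simp) ≪≫ S.abLeftHomologyData.homologyIso
  have hd : ∀ x : (cx U P).X 1, S.g x = 0 ↔ dd U P 1 (cochainEquiv U P 1 x) = 0 := fun x => by
    rw [← ev_d, map_eq_zero_iff _ (cochainEquiv U P 2).injective]
    exact Iff.rfl
  let mk : {c : Cochain U P 1 // dd U P 1 c = 0} →
      AddMonoidHom.ker S.g.hom ⧸ AddMonoidHom.range S.abToCycles := fun c =>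
    QuotientAddGroup.mk ⟨(cochainEquiv U P 1).symm c.1, (hd _).2 (by rw [AddEquiv.apply_symm_apply]; exact c.2)⟩
  have hmk : ∀ a b, mk a = mk b ↔ PRel U P a b := fun a b => by
    rw [QuotientAddGroup.eq]
    constructor
    · rintro ⟨d, hd'⟩
      refine ⟨cochainEquiv U P 0 d, ?_⟩
      have h1 := congrArg (fun z => cochainEquiv U P 1 (Subtype.val z)) hd'
      refine (ev_d U P 0 d).symm.trans (h1.trans ?_)
      show cochainEquiv U P 1 (-(cochainEquiv U P 1).symm a.1 + (cochainEquiv U P 1).symm b.1) = _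
      rw [map_add, map_neg, AddEquiv.apply_symm_apply, AddEquiv.apply_symm_apply, neg_add_eq_sub]
    · rintro ⟨d, hd'⟩
      refine ⟨(cochainEquiv U P 0).symm d, Subtype.ext ((cochainEquiv U P 1).injective ?_)⟩
      refine (ev_d U P 0 _).trans ?_
      rw [AddEquiv.apply_symm_apply, hd']
      show _ = cochainEquiv U P 1 (-(cochainEquiv U P 1).symm a.1 + (cochainEquiv U P 1).symm b.1)
      rw [map_add, map_neg, AddEquiv.apply_symm_apply, AddEquiv.apply_symm_apply, neg_add_eq_sub]
  refine ⟨(Equiv.ofBijective (Quot.lift mk fun a b h => (hmk a b).2 h) ⟨?_, ?_⟩).trans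
    iso.addCommGroupIsoToAddEquiv.symm.toEquiv⟩
  · intro x y
    induction x using Quot.ind with | mk a => ?_
    induction y using Quot.ind with | mk b => ?_
    exact fun h => Quot.sound ((hmk a b).1 h)
  · intro z
    induction z using QuotientAddGroup.induction_on with | _ z => ?_
    refine ⟨Quot.mk _ ⟨cochainEquiv U P 1 z.1, (hd _).1 z.2⟩, ?_⟩
    show mk ⟨cochainEquiv U P 1 z.1, (hd _).1 z.2⟩ = QuotientAddGroup.mk z
    have e : (⟨(cochainEquiv U P 1).symm (cochainEquiv U P 1 z.1), (hd _).2 (by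
        rw [AddEquiv.apply_symm_apply]; exact (hd _).1 z.2)⟩ : AddMonoidHom.ker S.g.hom) = z :=
      Subtype.ext ((cochainEquiv U P 1).symm_apply_apply z.1)
    exact congrArg QuotientAddGroup.mk e

end Top

section Pow

variable {X₀ Y : TopCat.{u}} (c : X₀ ⟶ Y) (G : (Opens X₀)ᵒᵖ ⥤ AddCommGrpCat.{u}) (n : ℕ) {ι : Type u}
  (U : ι → Opens Y)

/-- The preimages of a family. -/
abbrev preF : ι → Opens X₀ := fun i => (Opens.map c).obj (U i)

/-- A component of a tuple cochain. -/
def compC (r : ℕ) (x : Cochain U (powPre c G n) r) (i : Fin n) : Cochain (preF c U) G r :=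
  fun K => rs G (cap_preimage c U K).le (x K i)

theorem dd_compC (r : ℕ) (x : Cochain U (powPre c G n) r) (i : Fin n) :
    dd (preF c U) G r (compC c G n U r x i) = compC c G n U (r + 1) (dd U (powPre c G n) r x) i := funext fun J => by
  show _ = rs G _ (dd U (powPre c G n) r x J i)
  rw [dd_apply, dd_apply, Finset.sum_apply, map_sum]
  refine Finset.sum_congr rfl fun k _ => ?_
  rw [Pi.smul_apply, map_zsmul, rs_powPre]
  unfold compC
  rw [rs_rs, rs_rs]

/-- Tuples of cochains as cochains of tuples. -/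
def tupC (r : ℕ) (a : Fin n → Cochain (preF c U) G r) : Cochain U (powPre c G n) r :=
  fun K i => rs G (cap_preimage c U K).ge (a i K)

theorem compC_tupC (r : ℕ) (a : Fin n → Cochain (preF c U) G r) (i : Fin n) :
    compC c G n U r (tupC c G n U r a) i = a i := funext fun K => by
  show rs G _ (rs G _ (a i K)) = a i K
  rw [rs_rs]
  exact congr($(G.map_id _) (a i K))

theorem compC_injective (r : ℕ) {x y : Cochain U (powPre c G n) r}
    (h : ∀ i, compC c G n U r x i = compC c G n U r y i) : x = y := funext fun K => funext fun i => by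
  have e := congrArg (rs G (cap_preimage c U K).ge) (congr_fun (h i) K)
  unfold compC at e
  rw [rs_rs, rs_rs] at e
  exact (congr($(G.map_id _) (x K i))).symm.trans (e.trans (congr($(G.map_id _) (y K i))))

theorem compC_sub (r : ℕ) (x y : Cochain U (powPre c G n) r) (i : Fin n) :
    compC c G n U r (x - y) i = compC c G n U r x i - compC c G n U r y i :=
  funext fun K => map_sub (rs G (cap_preimage c U K).le) (x K i) (y K i)

theorem compC_zero (r : ℕ) (i : Fin n) : compC c G n U r 0 i = 0 :=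
  funext fun K => map_zero (rs G (cap_preimage c U K).le)

/-- Classes of tuples are tuples of classes. -/
theorem nonempty_equiv_pow : Nonempty (Quot (PRel U (powPre c G n)) ≃ (Fin n → Quot (PRel (preF c U) G))) := by
  let f : {x : Cochain U (powPre c G n) 1 // dd U (powPre c G n) 1 x = 0} → Fin n →
      {a : Cochain (preF c U) G 1 // dd (preF c U) G 1 a = 0} := fun x i =>
    ⟨compC c G n U 1 x.1 i, by rw [dd_compC, x.2, compC_zero]⟩
  refine ⟨Equiv.ofBijective (Quot.lift (fun x i => Quot.mk _ (f x i)) fun x y ⟨d, hd⟩ => funext fun i =>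
    Quot.sound ⟨compC c G n U 0 d i, by rw [dd_compC, hd, compC_sub]⟩) ⟨?_, ?_⟩⟩
  · intro x y
    induction x using Quot.ind with | mk x => ?_
    induction y using Quot.ind with | mk y => ?_
    intro h
    choose d hd using fun i => (pRel_equivalence (preF c U) G).eqvGen_iff.1 (Quot.eqvGen_exact (congr_fun h i))
    refine Quot.sound ⟨tupC c G n U 0 d, compC_injective c G n U 1 fun i => ?_⟩
    rw [← dd_compC, compC_tupC, hd, compC_sub]
  · intro z
    choose a ha using fun i => Quot.exists_rep (z i)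
    refine ⟨Quot.mk _ ⟨tupC c G n U 1 fun i => (a i).1, compC_injective c G n U 2 fun i => ?_⟩, funext fun i => ?_⟩
    · rw [← dd_compC, compC_tupC, (a i).2, compC_zero]
    · rw [← ha i]
      exact congrArg (Quot.mk _) (Subtype.ext (compC_tupC c G n U 1 (fun i => (a i).1) i))

end Pow

variable {X₀ Y S K : Scheme.{u}} [IsAffine S] [IsAffine K] {I : S.IdealSheafData} {n : ℕ}
  {f : Y ⟶ I.subscheme} {κ : K ⟶ S} [IsClosedImmersion κ] {b : Fin n → I.ideal (topAff S)}
  {c : X₀ ⟶ Y} {f₀ : X₀ ⟶ K} [QuasiSeparated f₀]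

/-- Classes of deformations along small extensions. -/
theorem nonempty_deform_equiv (hI : I ^ 2 = ⊥) (H : Thin I κ b) (sq : IsPullback c f₀ (gOf I f) κ) [Smooth f]
    [Y.IsSeparated] [Smooth f₀] (hT : Nonempty (Deform f)) :
    Nonempty (Quot (Deform.Rel (f₀ := f)) ≃
      (Fin n → QCohLib.HU ((QCohLib.toAbF X₀).obj (tanSh f₀)) 1 (⊤ : X₀.Opens))) := by
  obtain ⟨T⟩ := hT
  obtain ⟨L⟩ := exists_liftCover (I := I) (f₀ := f) hI
  let U : L.ι → Y.Opens := fun i => (L.a i).dom
  haveI := isClosedImmersion_c sq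
  haveI := isSeparated_of_closed sq
  haveI : Coh.IsQCoh (Coh.structureModule X₀) := QCohLib.isQCoh_unit
  let C := thinCoef f₀ H sq
  obtain ⟨e1⟩ := T.nonempty_quot_equiv hI C U L.good L.cover fun D i => by
    haveI := L.smooth i
    obtain ⟨φ₁⟩ := exists_hom (a := (T.on hI C U i).1) (b := L.a i) hI (T.on hI C U i).2 le_rfl le_rfl (L.good i)
      fun V hV hWV => smooth_str (L.a i) le_rfl (L.good i).aff V hV hWV
    obtain ⟨φ₂⟩ := exists_hom (a := (D.obj hI C).1) (b := L.a i) hI (D.obj hI C).2 le_top le_rfl (L.good i)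
      fun V hV hWV => smooth_str (L.a i) le_rfl (L.good i).aff V hV hWV
    haveI := φ₂.isIso (D.obj hI C).2 (L.std i) hI le_top le_rfl (L.good i)
    exact ⟨⟨le_rfl, le_top, φ₁.comp φ₂.inv le_rfl⟩⟩
  obtain ⟨e2⟩ := nonempty_equiv_pow c.base ((QCohLib.toAbF X₀).obj (tanSh f₀)).obj n U
  obtain ⟨e3⟩ := nonempty_equiv_homology (preF c.base U) ((QCohLib.toAbF X₀).obj (tanSh f₀)).obj
  obtain ⟨e4⟩ := CechLib.nonempty_homology_equiv (preF c.base U) 1 ((QCohLib.toAbF X₀).obj (tanSh f₀))
    (acyc_homMod (isFinLocFree_omega f₀) (Coh.structureModule X₀) _ fun i => (L.good i).aff.preimage c)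
  have hcov : ⨆ i, preF c.base U i = ⊤ := CohBCLib.iSup_preU (g' := c) U L.cover
  exact ⟨((e1.trans e2).trans (Equiv.piCongrRight fun _ => e3.trans e4.toEquiv)).trans
    (Equiv.piCongrRight fun _ => Equiv.cast (by rw [hcov]; rfl))⟩

end SmDefLib
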