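import Groth.Agent.SmDefLib.Cochain

/-!
# Objects with a simply transitive action of a band: descent data from vanishing cohomology
-/

set_option autoImplicit false

universe u v w

open CategoryTheory TopologicalSpace Opposite
open CechLib (Cochain cap dd dd_apply rs cap_le cap_comp_le le_cap_iff rs_rs)

namespace SmDefLib

variable {X : TopCat.{u}}

/-- Local objects whose morphisms form torsors under the band `P` on good opens. -/
structure Band (P : (Opens X)ᵒᵖ ⥤ AddCommGrpCat.{u}) where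
  /-- objects -/
  O : Type v
  /-- arrows over an open -/
  A : O → O → Opens X → Type w
  /-- good opens -/
  good : Opens X → Prop
  /-- composition -/
  comp : ∀ {a b c : O} {W : Opens X}, A a b W → A b c W → A a c W
  /-- restriction -/
  res : ∀ {a b : O} {W W' : Opens X}, W' ≤ W → A a b W → A a b W'
  /-- the action -/
  act : ∀ {a b : O} {W : Opens X}, good W → P.obj (op W) → A a b W → A a b W
  assoc : ∀ {a b c d : O} {W : Opens X} (φ : A a b W) (ψ : A b c W) (χ : A c d W),
    comp (comp φ ψ) χ = comp φ (comp ψ χ)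
  res_comp : ∀ {a b c : O} {W W' : Opens X} (h : W' ≤ W) (φ : A a b W) (ψ : A b c W),
    res h (comp φ ψ) = comp (res h φ) (res h ψ)
  res_res : ∀ {a b : O} {W W' W'' : Opens X} (h : W' ≤ W) (h' : W'' ≤ W') (φ : A a b W),
    res h' (res h φ) = res (h'.trans h) φ
  act_act : ∀ {a b : O} {W : Opens X} (hW : good W) (p q : P.obj (op W)) (φ : A a b W),
    act hW p (act hW q φ) = act hW (p + q) φ
  act_zero : ∀ {a b : O} {W : Opens X} (hW : good W) (φ : A a b W), act hW 0 φ = φ
  act_comp : ∀ {a b c : O} {W : Opens X} (hW : good W) (p : P.obj (op W)) (φ : A a b W) (ψ : A b c W),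
    comp (act hW p φ) ψ = act hW p (comp φ ψ)
  comp_act : ∀ {a b c : O} {W : Opens X} (hW : good W) (p : P.obj (op W)) (φ : A a b W) (ψ : A b c W),
    comp φ (act hW p ψ) = act hW p (comp φ ψ)
  res_act : ∀ {a b : O} {W W' : Opens X} (h : W' ≤ W) (hW : good W) (hW' : good W') (p : P.obj (op W))
    (φ : A a b W), res h (act hW p φ) = act hW' (rs P h p) (res h φ)
  exists_act : ∀ {a b : O} {W : Opens X} (hW : good W) (φ ψ : A a b W), ∃ p, act hW p φ = ψ
  act_inj : ∀ {a b : O} {W : Opens X} (hW : good W) (φ : A a b W), Function.Injective fun p => act hW p φ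

variable {P : (Opens X)ᵒᵖ ⥤ AddCommGrpCat.{u}} (G : Band.{u, v, w} P) {ι : Type u} (U : ι → Opens X)

namespace Band

/-- Arrows on the overlaps of a family. -/
abbrev Arrows (obj : ι → G.O) : Type (max u w) := ∀ i j, G.A (obj i) (obj j) (cap U ![i, j])

/-- The arrows on overlaps compose. -/
def IsCocycle {obj : ι → G.O} (g : G.Arrows U obj) : Prop :=
  ∀ (i j k : ι) (W : Opens X) (hi : W ≤ U i) (hj : W ≤ U j) (hk : W ≤ U k),
    G.comp (G.res (le2 U hi hj) (g i j)) (G.res (le2 U hj hk) (g j k)) = G.res (le2 U hi hk) (g i k)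

/-- `c` is the obstruction cochain of a choice of arrows. -/
def IsObs {obj : ι → G.O} (g : G.Arrows U obj) (c : Cochain U P 2) : Prop :=
  ∀ (i j k : ι) (W : Opens X) (hW : G.good W) (hi : W ≤ U i) (hj : W ≤ U j) (hk : W ≤ U k),
    G.comp (G.res (le2 U hi hj) (g i j)) (G.res (le2 U hj hk) (g j k)) =
      G.act hW (at3 U P c hi hj hk) (G.res (le2 U hi hk) (g i k))

variable (hgood : ∀ (n : ℕ) (J : Fin (n + 1) → ι), G.good (cap U J)) {obj : ι → G.O} {g : G.Arrows U obj}

include hgood

theorem exists_obs (g : G.Arrows U obj) : ∃ c, G.IsObs U g c := by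
  have hc : ∀ J : Fin 3 → ι, ∃ p, G.act (hgood 2 J) p (G.res (le2 U (cap_le U J 0) (cap_le U J 2)) (g (J 0) (J 2))) =
      G.comp (G.res (le2 U (cap_le U J 0) (cap_le U J 1)) (g (J 0) (J 1)))
        (G.res (le2 U (cap_le U J 1) (cap_le U J 2)) (g (J 1) (J 2))) := fun J => G.exists_act _ _ _
  choose c hc using hc
  refine ⟨c, fun i j k W hW hi hj hk => ?_⟩
  have h := congrArg (G.res (le3 U hi hj hk)) (hc ![i, j, k])
  rw [G.res_act _ _ hW, G.res_comp, G.res_res, G.res_res, G.res_res] at h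
  exact h.symm

theorem dd_obs {c : Cochain U P 2} (hc : G.IsObs U g c) : dd U P 2 c = 0 := by
  funext J
  have eJ : J = ![J 0, J 1, J 2, J 3] := funext fun a => by fin_cases a <;> rfl
  have h : ∀ i j k l : ι, dd U P 2 c ![i, j, k, l] = 0 := by
    intro i j k l
    let W := cap U ![i, j, k, l]
    have hW : G.good W := hgood 3 _
    have hi : W ≤ U i := cap_le U ![i, j, k, l] 0
    have hj : W ≤ U j := cap_le U ![i, j, k, l] 1
    have hk : W ≤ U k := cap_le U ![i, j, k, l] 2
    have hl : W ≤ U l := cap_le U ![i, j, k, l] 3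
    have h1 : G.comp (G.comp (G.res (le2 U hi hj) (g i j)) (G.res (le2 U hj hk) (g j k))) (G.res (le2 U hk hl) (g k l)) =
        G.act hW (at3 U P c hi hj hk + at3 U P c hi hk hl) (G.res (le2 U hi hl) (g i l)) := by
      rw [hc i j k W hW hi hj hk, G.act_comp, hc i k l W hW hi hk hl, G.act_act]
    have h2 : G.comp (G.res (le2 U hi hj) (g i j)) (G.comp (G.res (le2 U hj hk) (g j k)) (G.res (le2 U hk hl) (g k l))) =
        G.act hW (at3 U P c hj hk hl + at3 U P c hi hj hl) (G.res (le2 U hi hl) (g i l)) := by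
      rw [hc j k l W hW hj hk hl, G.comp_act, hc i j l W hW hi hj hl, G.act_act]
    rw [G.assoc] at h1
    have h3 := G.act_inj hW _ (h2.symm.trans h1)
    have h4 := rs_dd2 U P c hi hj hk hl le_rfl
    rw [CechLib.rs_self] at h4
    rw [h4, ← sub_eq_zero.2 h3]
    abel
  rw [eJ]
  exact h _ _ _ _

/-- Changing the choice by a one cochain changes the obstruction by a coboundary. -/
theorem isObs_act {c : Cochain U P 2} (hc : G.IsObs U g c) (b : Cochain U P 1) :
    G.IsObs U (fun i j => G.act (hgood 1 _) (b ![i, j]) (g i j)) (c + dd U P 1 b) := by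
  intro i j k W hW hi hj hk
  simp only [G.res_act _ _ hW]
  rw [G.act_comp, G.comp_act, hc i j k W hW hi hj hk, G.act_act, G.act_act, G.act_act]
  refine congrArg (fun p => G.act hW p _) ?_
  show at2 U P b hi hj + at2 U P b hj hk + at3 U P c hi hj hk = at3 U P (c + dd U P 1 b) hi hj hk + at2 U P b hi hk
  have e : at3 U P (c + dd U P 1 b) hi hj hk = at3 U P c hi hj hk + at3 U P (dd U P 1 b) hi hj hk :=
    map_add (rs P (le3 U hi hj hk)) _ _
  rw [e, at3_dd]
  abel

/-- A choice with zero obstruction is a cocycle. -/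
theorem isCocycle_of_isObs_zero (hc : G.IsObs U g 0) : G.IsCocycle U g := by
  intro i j k W hi hj hk
  have hW := hgood 2 ![i, j, k]
  have h := hc i j k _ hW (cap_le U ![i, j, k] 0) (cap_le U ![i, j, k] 1) (cap_le U ![i, j, k] 2)
  simp only [at3, Pi.zero_apply, map_zero, G.act_zero] at h
  have h' := congrArg (G.res (le3 U hi hj hk)) h
  rw [G.res_comp, G.res_res, G.res_res, G.res_res] at h'
  exact h'

/-- Descent data exist when two cocycles are coboundaries. -/
theorem exists_cocycle (g₀ : G.Arrows U obj)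
    (h2 : ∀ c : Cochain U P 2, dd U P 2 c = 0 → ∃ b, dd U P 1 b = c) :
    ∃ g : G.Arrows U obj, G.IsCocycle U g := by
  obtain ⟨c, hc⟩ := G.exists_obs U hgood g₀
  obtain ⟨b, hb⟩ := h2 c (G.dd_obs U hgood hc)
  refine ⟨_, G.isCocycle_of_isObs_zero U hgood (g := fun i j => G.act (hgood 1 _) ((-b) ![i, j]) (g₀ i j)) ?_⟩
  have := G.isObs_act U hgood hc (-b)
  rwa [map_neg, hb, add_neg_cancel] at this

variable {obj' : ι → G.O} {g' : G.Arrows U obj'}

/-- Local arrows between two descent data can be corrected to a morphism of descent data. -/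
theorem exists_morphism (hg : G.IsCocycle U g) (hg' : G.IsCocycle U g')
    (φ : ∀ i, G.A (obj i) (obj' i) (cap U ![i]))
    (h1 : ∀ c : Cochain U P 1, dd U P 1 c = 0 → ∃ b, dd U P 0 b = c) :
    ∃ ψ : ∀ i, G.A (obj i) (obj' i) (cap U ![i]), ∀ (i j : ι) (W : Opens X) (hi : W ≤ U i) (hj : W ≤ U j),
      G.comp (G.res (le2 U hi hj) (g i j)) (G.res (le1 U hj) (ψ j)) =
        G.comp (G.res (le1 U hi) (ψ i)) (G.res (le2 U hi hj) (g' i j)) := by
  have hc : ∀ J : Fin 2 → ι, ∃ p,
      G.act (hgood 1 J) p (G.comp (G.res (le1 U (cap_le U J 0)) (φ (J 0)))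
        (G.res (le2 U (cap_le U J 0) (cap_le U J 1)) (g' (J 0) (J 1)))) =
      G.comp (G.res (le2 U (cap_le U J 0) (cap_le U J 1)) (g (J 0) (J 1))) (G.res (le1 U (cap_le U J 1)) (φ (J 1))) :=
    fun J => G.exists_act _ _ _
  choose c hc using hc
  have hspec : ∀ (i j : ι) (W : Opens X) (hW : G.good W) (hi : W ≤ U i) (hj : W ≤ U j),
      G.comp (G.res (le2 U hi hj) (g i j)) (G.res (le1 U hj) (φ j)) =
        G.act hW (at2 U P c hi hj) (G.comp (G.res (le1 U hi) (φ i)) (G.res (le2 U hi hj) (g' i j))) := by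
    intro i j W hW hi hj
    have h := congrArg (G.res (le2 U hi hj)) (hc ![i, j])
    rw [G.res_act _ _ hW, G.res_comp, G.res_comp, G.res_res, G.res_res, G.res_res, G.res_res] at h
    exact h.symm
  have hz : dd U P 1 c = 0 := by
    funext J
    have eJ : J = ![J 0, J 1, J 2] := funext fun a => by fin_cases a <;> rfl
    rw [eJ]
    generalize J 0 = i, J 1 = j, J 2 = k
    have hW := hgood 2 ![i, j, k]
    have hi : cap U ![i, j, k] ≤ U i := cap_le U ![i, j, k] 0
    have hj : cap U ![i, j, k] ≤ U j := cap_le U ![i, j, k] 1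
    have hk : cap U ![i, j, k] ≤ U k := cap_le U ![i, j, k] 2
    have h := congrArg (fun x => G.comp x (G.res (le1 U hk) (φ k))) (hg i j k _ hi hj hk)
    simp only [G.assoc] at h
    rw [hspec j k _ hW hj hk, G.comp_act, ← G.assoc, hspec i j _ hW hi hj, G.act_comp, G.act_act, G.assoc,
      hg' i j k _ hi hj hk, hspec i k _ hW hi hk] at h
    have h3 := G.act_inj hW _ h
    have h4 := at3_dd U P c hi hj hk
    rw [at3, CechLib.rs_self] at h4
    rw [h4, show (0 : Cochain U P 2) ![i, j, k] = 0 from rfl, sub_add_eq_add_sub, h3, sub_self]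
  obtain ⟨b, hb⟩ := h1 c hz
  refine ⟨fun i => G.act (hgood 0 _) (-b ![i]) (φ i), ?_⟩
  have key : ∀ (i j : ι) (W : Opens X) (_ : G.good W) (hi : W ≤ U i) (hj : W ≤ U j),
      G.comp (G.res (le2 U hi hj) (g i j)) (G.res (le1 U hj) (G.act (hgood 0 _) (-b ![j]) (φ j))) =
        G.comp (G.res (le1 U hi) (G.act (hgood 0 _) (-b ![i]) (φ i))) (G.res (le2 U hi hj) (g' i j)) := by
    intro i j W hW hi hj
    rw [G.res_act _ _ hW, G.res_act _ _ hW, G.comp_act, G.act_comp, hspec i j W hW hi hj, G.act_act]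
    refine congrArg (fun p => G.act hW p _) ?_
    rw [map_neg, map_neg, ← hb, at2_dd]
    show -at1 U P b hj + (at1 U P b hj - at1 U P b hi) = -at1 U P b hi
    abel
  intro i j W hi hj
  have h := congrArg (G.res (le2 U hi hj)) (key i j _ (hgood 1 ![i, j]) (cap_le U ![i, j] 0) (cap_le U ![i, j] 1))
  rw [G.res_comp, G.res_comp, G.res_res, G.res_res, G.res_res, G.res_res] at h
  exact h

end Band

end SmDefLib
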