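import Groth.Agent.SmDefLib.Std
import Groth.Agent.SmDefLib.Gerbe

/-!
# Derivations act simply transitively on morphisms of lifts
-/

set_option autoImplicit false
set_option linter.unusedSectionVars false
set_option backward.isDefEq.respectTransparency false
set_option maxHeartbeats 1000000

universe u

open CategoryTheory CategoryTheory.Limits AlgebraicGeometry Opposite TopologicalSpace
open KFlatLib (pb)

noncomputable section

namespace SmDefLib

variable {X₀ S : Scheme.{u}} (I : S.IdealSheafData) (f₀ : X₀ ⟶ I.subscheme)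

/-- The derivations over `S` into the pulled back ideal, on an open. -/
def der (W : X₀.Opens) : AddSubgroup (Γ(X₀, W) →+ Γ(MK I f₀, W)) where
  carrier := {D | IsDer D ∧ ∀ (V : S.Opens) (hV : W ≤ gOf I f₀ ⁻¹ᵁ V) (c : Γ(S, V)),
    D ((gOf I f₀).appLE V W hV c) = 0}
  zero_mem' := ⟨IsDer.zero, fun _ _ _ => rfl⟩
  add_mem' := fun hD hE => ⟨hD.1.add hE.1, fun V hV c => by
    rw [AddMonoidHom.add_apply, hD.2 V hV c, hE.2 V hV c, add_zero]⟩
  neg_mem' := fun {D} hD => ⟨fun a b => by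
    simp only [AddMonoidHom.neg_apply, hD.1 a b, smul_neg]; abel, fun V hV c => by
    rw [AddMonoidHom.neg_apply, hD.2 V hV c, neg_zero]⟩

/-- A presheaf of groups which is, on good opens, the presheaf of derivations into the pulled back ideal. -/
structure Coef where
  /-- the presheaf -/
  P : (Opens X₀)ᵒᵖ ⥤ AddCommGrpCat.{u}
  /-- sections as derivations -/
  e : ∀ W : X₀.Opens, Good I f₀ W → (P.obj (op W) ≃+ der I f₀ W)
  nat : ∀ (W W' : X₀.Opens) (hW : Good I f₀ W) (hW' : Good I f₀ W') (h : W' ≤ W) (p : P.obj (op W)) (x : Γ(X₀, W)),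
    (e W' hW' (CechLib.rs P h p)).1 (X₀.presheaf.map (homOfLE h).op x) =
      (MK I f₀).presheaf.map (homOfLE h).op ((e W hW p).1 x)

variable {I f₀} {a b c : Lift (gOf I f₀)} (hI : I ^ 2 = ⊥) (C : Coef I f₀)
  (ha : Std I f₀ a) (hb : Std I f₀ b) {W : X₀.Opens} (hWa : W ≤ a.dom) (hWb : W ≤ b.dom) (hW : Good I f₀ W)

include hI ha hWa hWb hW in
theorem exists_actHom (φ : Hom a b W) (p : C.P.obj (op W)) : ∃ ψ : Hom a b W,
    ∀ x, ψ.ev x = φ.ev x + ha.kap hI hWa hW ((C.e W hW p).1 (b.red hWb x)) := by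
  obtain ⟨V, hVa, hV⟩ := hW.base
  let r := actRing (ha.sqExt hI hWa hW) φ.ev.hom (π' := (b.red hWb).hom) (fun z => congr($(φ.ev_red hWa hWb) z))
    (C.e W hW p).1 (C.e W hW p).2.1
  obtain ⟨ψ, hψ⟩ := Hom.exists_of_ring (a := a) (b := b) hWa hWb hW.aff hVa hV (CommRingCat.ofHom r)
    (CommRingCat.hom_ext (RingHom.ext fun x => by
      show φ.ev (b.str hV x) + ha.kap hI hWa hW ((C.e W hW p).1 (b.red hWb (b.str hV x))) = a.str hV x
      rw [show b.red hWb (b.str hV x) = (gOf I f₀).appLE V W hV x from congr($(b.str_red hWb hV) x),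
        (C.e W hW p).2.2 V hV x, map_zero, add_zero]
      exact congr($(φ.str_ev hV) x)))
    (CommRingCat.hom_ext (RingHom.ext fun x => by
      show (a.red hWa).hom (r x) = (b.red hWb).hom x
      exact actRing_proj _ _ _ _ _ x))
  exact ⟨ψ, fun x => congr($hψ x)⟩

/-- The action of derivations. -/
def actHom (p : C.P.obj (op W)) (φ : Hom a b W) : Hom a b W :=
  (exists_actHom hI C ha hWa hWb hW φ p).choose

theorem ev_actHom (p : C.P.obj (op W)) (φ : Hom a b W) (x : Γ(b.X, b.up W)) :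
    (actHom hI C ha hWa hWb hW p φ).ev x = φ.ev x + ha.kap hI hWa hW ((C.e W hW p).1 (b.red hWb x)) :=
  (exists_actHom hI C ha hWa hWb hW φ p).choose_spec x

include hb in
theorem existsUnique_act (φ ψ : Hom a b W) : ∃! p, actHom hI C ha hWa hWb hW p φ = ψ := by
  have hu := existsUnique_diff (ha.sqExt hI hWa hW) (hb.sqExt hI hWb hW) φ.ev.hom ψ.ev.hom
    (fun z => congr($(φ.ev_red hWa hWb) z)) (fun z => congr($(ψ.ev_red hWa hWb) z))
    (φ.ev_kap ha hb hI hWa hWb hW) (ψ.ev_kap ha hb hI hWa hWb hW)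
  obtain ⟨D, ⟨hD, hD'⟩, huniq⟩ := hu
  have hmem : D ∈ der I f₀ W := ⟨hD, fun V hV x => (ha.sqExt hI hWa hW).inj (by
    have h := hD' (b.str hV x)
    rw [show φ.ev.hom (b.str hV x) = a.str hV x from congr($(φ.str_ev hV) x),
      show ψ.ev.hom (b.str hV x) = a.str hV x from congr($(ψ.str_ev hV) x),
      show (b.red hWb).hom (b.str hV x) = (gOf I f₀).appLE V W hV x from congr($(b.str_red hWb hV) x),
      left_eq_add] at h
    exact h.trans (map_zero _).symm)⟩
  refine ⟨(C.e W hW).symm ⟨D, hmem⟩, Hom.ev_injective hWb hW.aff ?_, fun p hp => ?_⟩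
  · refine CommRingCat.hom_ext (RingHom.ext fun x => ?_)
    rw [show ψ.ev.hom x = φ.ev.hom x + _ from hD' x]
    exact (ev_actHom hI C ha hWa hWb hW _ φ x).trans (by rw [AddEquiv.apply_symm_apply])
  · refine (C.e W hW).injective (Subtype.ext ?_)
    rw [AddEquiv.apply_symm_apply]
    exact huniq _ ⟨(C.e W hW p).2.1, fun x => by rw [← hp]; exact ev_actHom hI C ha hWa hWb hW p φ x⟩

theorem actHom_zero (φ : Hom a b W) : actHom hI C ha hWa hWb hW 0 φ = φ := by
  refine Hom.ev_injective hWb hW.aff (CommRingCat.hom_ext (RingHom.ext fun x => ?_))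
  refine (ev_actHom hI C ha hWa hWb hW 0 φ x).trans ?_
  rw [map_zero]
  show _ + ha.kap hI hWa hW 0 = _
  rw [map_zero, add_zero]

theorem actHom_actHom (p q : C.P.obj (op W)) (φ : Hom a b W) :
    actHom hI C ha hWa hWb hW p (actHom hI C ha hWa hWb hW q φ) = actHom hI C ha hWa hWb hW (p + q) φ := by
  refine Hom.ev_injective hWb hW.aff (CommRingCat.hom_ext (RingHom.ext fun x => ?_))
  refine (ev_actHom hI C ha hWa hWb hW p _ x).trans ?_
  rw [ev_actHom, add_assoc, ← map_add, add_comm ((C.e W hW q).1 _), ← AddMonoidHom.add_apply,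
    ← AddSubgroup.coe_add, ← map_add]
  exact (ev_actHom hI C ha hWa hWb hW _ φ x).symm

theorem actHom_comp (hWc : W ≤ c.dom) (p : C.P.obj (op W)) (φ : Hom a b W) (ψ : Hom b c W) :
    (actHom hI C ha hWa hWb hW p φ).comp ψ hWb = actHom hI C ha hWa hWc hW p (φ.comp ψ hWb) := by
  refine Hom.ev_injective hWc hW.aff (CommRingCat.hom_ext (RingHom.ext fun x => ?_))
  rw [Hom.ev_comp]
  refine (ev_actHom hI C ha hWa hWb hW p φ (ψ.ev x)).trans (Eq.trans ?_ (ev_actHom hI C ha hWa hWc hW p _ x).symm)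
  rw [show b.red hWb (ψ.ev x) = c.red hWc x from congr($(ψ.ev_red hWb hWc) x), Hom.ev_comp]
  rfl

theorem comp_actHom (hWc : W ≤ c.dom) (p : C.P.obj (op W)) (φ : Hom a b W) (ψ : Hom b c W) :
    φ.comp (actHom hI C hb hWb hWc hW p ψ) hWb = actHom hI C ha hWa hWc hW p (φ.comp ψ hWb) := by
  refine Hom.ev_injective hWc hW.aff (CommRingCat.hom_ext (RingHom.ext fun x => ?_))
  rw [Hom.ev_comp]
  show φ.ev ((actHom hI C hb hWb hWc hW p ψ).ev x) = _
  rw [ev_actHom, map_add, φ.ev_kap ha hb hI hWa hWb hW]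
  exact ((ev_actHom hI C ha hWa hWc hW p _ x).trans (by rw [Hom.ev_comp]; rfl)).symm

theorem Hom.ext_res {W' : X₀.Opens} (hWb : W ≤ b.dom) (hW : IsAffineOpen W) (h : W' ≤ W) {φ ψ : Hom a b W'}
    (e : b.X.presheaf.map (homOfLE (b.up_mono h)).op ≫ φ.ev = b.X.presheaf.map (homOfLE (b.up_mono h)).op ≫ ψ.ev) :
    φ = ψ := by
  refine Hom.ext ((cancel_mono (b.X.homOfLE (b.up_mono h))).1 (tp_injective (b.isAffineOpen_up hWb hW) ?_))
  rw [tp_comp, tp_comp, tp_homOfLE]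
  exact e

theorem res_actHom {W' : X₀.Opens} (h : W' ≤ W) (hW' : Good I f₀ W') (p : C.P.obj (op W)) (φ : Hom a b W) :
    (actHom hI C ha hWa hWb hW p φ).res hWa hWb h =
      actHom hI C ha (h.trans hWa) (h.trans hWb) hW' (CechLib.rs C.P h p) (φ.res hWa hWb h) := by
  refine Hom.ext_res hWb hW.aff h (CommRingCat.hom_ext (RingHom.ext fun x => ?_))
  refine (congr($((actHom hI C ha hWa hWb hW p φ).ev_res hWa hWb h) x)).trans ?_
  show a.X.presheaf.map (homOfLE (a.up_mono h)).op ((actHom hI C ha hWa hWb hW p φ).ev x) =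
    (actHom hI C ha (h.trans hWa) (h.trans hWb) hW' (CechLib.rs C.P h p) (φ.res hWa hWb h)).ev
      (b.X.presheaf.map (homOfLE (b.up_mono h)).op x)
  rw [ev_actHom, ev_actHom, map_add, ha.kap_res hI hWa hW hW' h,
    ← show X₀.presheaf.map (homOfLE h).op (b.red hWb x) =
      b.red (h.trans hWb) (b.X.presheaf.map (homOfLE (b.up_mono h)).op x) from congr($(b.red_res hWb h) x),
    C.nat W W' hW hW' h p]
  congr 1
  exact (congr($(φ.ev_res hWa hWb h) x)).symm

/-- A morphism of lifts over an open on which both are defined. -/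
structure Arr (a b : Lift (gOf I f₀)) (W : X₀.Opens) where
  /-- the source is defined -/
  ha : W ≤ a.dom
  /-- the target is defined -/
  hb : W ≤ b.dom
  /-- the morphism -/
  hom : Hom a b W

theorem Arr.ext' {φ ψ : Arr a b W} (h : φ.hom = ψ.hom) : φ = ψ := by
  cases φ; cases ψ; cases h; rfl

/-- The band of flat lifts. -/
def band : Band C.P where
  O := {a : Lift (gOf I f₀) // Std I f₀ a}
  A a b W := Arr a.1 b.1 W
  good := Good I f₀
  comp φ ψ := ⟨φ.ha, ψ.hb, φ.hom.comp ψ.hom φ.hb⟩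
  res h φ := ⟨h.trans φ.ha, h.trans φ.hb, φ.hom.res φ.ha φ.hb h⟩
  act {a _ _} hW p φ := ⟨φ.ha, φ.hb, actHom hI C a.2 φ.ha φ.hb hW p φ.hom⟩
  assoc φ ψ χ := Arr.ext' (Hom.comp_assoc φ.hom ψ.hom χ.hom φ.hb ψ.hb)
  res_comp h φ ψ := Arr.ext' (Hom.res_comp φ.hom ψ.hom φ.ha φ.hb ψ.hb h)
  res_res h h' φ := Arr.ext' (Hom.res_res φ.hom φ.ha φ.hb h h')
  act_act {a _ _} hW p q φ := Arr.ext' (actHom_actHom hI C a.2 φ.ha φ.hb hW p q φ.hom)
  act_zero {a _ _} hW φ := Arr.ext' (actHom_zero hI C a.2 φ.ha φ.hb hW φ.hom)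
  act_comp {a _ _ _} hW p φ ψ := Arr.ext' (actHom_comp hI C a.2 φ.ha φ.hb hW ψ.hb p φ.hom ψ.hom)
  comp_act {a b _ _} hW p φ ψ := Arr.ext' (comp_actHom hI C a.2 b.2 φ.ha φ.hb hW ψ.hb p φ.hom ψ.hom)
  res_act {a _ _ _} h hW hW' p φ := Arr.ext' (res_actHom hI C a.2 φ.ha φ.hb hW h hW' p φ.hom)
  exists_act {a b _} hW φ ψ :=
    ⟨_, Arr.ext' (existsUnique_act hI C a.2 b.2 φ.ha φ.hb hW φ.hom ψ.hom).exists.choose_spec⟩
  act_inj {a b _} hW φ p q h :=
    (existsUnique_act hI C a.2 b.2 φ.ha φ.hb hW φ.hom (actHom hI C a.2 φ.ha φ.hb hW q φ.hom)).unique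
      (congrArg Arr.hom h) rfl

include hI ha hWa hWb hW in
/-- Smooth lifts receive morphisms. -/
theorem exists_hom (hsm : ∀ (V : S.Opens) (_ : IsAffineOpen V) (hV : W ≤ gOf I f₀ ⁻¹ᵁ V), (b.str hV).hom.Smooth) :
    Nonempty (Hom a b W) := by
  obtain ⟨V, hVa, hV⟩ := hW.base
  letI := (a.str hV).hom.toAlgebra
  letI := (b.str hV).hom.toAlgebra
  letI : Algebra Γ(S, V) Γ(X₀, W) := ((gOf I f₀).appLE V W hV).hom.toAlgebra
  haveI : Algebra.Smooth Γ(S, V) Γ(b.X, b.up W) := hsm V hVa hV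
  let πa : Γ(a.X, a.up W) →ₐ[Γ(S, V)] Γ(X₀, W) :=
    { (a.red hWa).hom with commutes' := fun r => congr($(a.str_red hWa hV) r) }
  let πb : Γ(b.X, b.up W) →ₐ[Γ(S, V)] Γ(X₀, W) :=
    { (b.red hWb).hom with commutes' := fun r => congr($(b.str_red hWb hV) r) }
  have hn : IsNilpotent (RingHom.ker (πa : Γ(a.X, a.up W) →+* Γ(X₀, W))) := by
    refine ⟨2, ?_⟩
    show RingHom.ker (a.red hWa).hom ^ 2 = ⊥
    rw [ha.ker_red hWa hW.aff ⟨V, hVa⟩ hV, pow_two, ← Ideal.map_mul, ideal_sq hI ⟨V, hVa⟩, Ideal.map_bot]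
  let r := Algebra.FormallySmooth.liftOfSurjective πb πa (a.red_surjective hWa hW.aff) hn
  obtain ⟨ψ, -⟩ := Hom.exists_of_ring (a := a) (b := b) hWa hWb hW.aff hVa hV (CommRingCat.ofHom r.toRingHom)
    (CommRingCat.hom_ext (RingHom.ext fun x => r.commutes x))
    (CommRingCat.hom_ext (RingHom.ext fun x =>
      Algebra.FormallySmooth.liftOfSurjective_apply πb πa (a.red_surjective hWa hW.aff) hn x))
  exact ⟨ψ⟩

end SmDefLib
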