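import Mathlib

/-!
# Square-zero extensions of rings and derivations

Two lifts of one homomorphism to a square-zero extension differ by a derivation.
-/

set_option autoImplicit false
set_option linter.unusedSectionVars false

universe u

open TensorProduct

noncomputable section

namespace SmDefLib

section Ext

variable {B B' B₀ M : Type u} [CommRing B] [CommRing B'] [CommRing B₀] [AddCommGroup M] [Module B₀ M]

/-- `0 → M → B → B₀ → 0` is a square-zero extension. -/
structure SqExt (π : B →+* B₀) (κ : M →+ B) : Prop where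
  surj : Function.Surjective π
  inj : Function.Injective κ
  proj : ∀ m, π (κ m) = 0
  exact : ∀ b, π b = 0 → ∃ m, κ m = b
  smul : ∀ b m, κ (π b • m) = b * κ m

variable {π : B →+* B₀} {κ : M →+ B} {π' : B' →+* B₀} {κ' : M →+ B'}

theorem SqExt.mul_eq_zero (h : SqExt π κ) (m m' : M) : κ m * κ m' = 0 := by
  rw [← h.smul, h.proj, zero_smul, map_zero]

theorem SqExt.mul_eq (h : SqExt π κ) {b b' : B} (hb : π b = π b') (m : M) : b * κ m = b' * κ m := by
  rw [← h.smul, ← h.smul, hb]

/-- A derivation of `B₀` into `M`. -/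
def IsDer (D : B₀ →+ M) : Prop := ∀ a b, D (a * b) = a • D b + b • D a

theorem IsDer.one {D : B₀ →+ M} (hD : IsDer D) : D 1 = 0 := by
  have := hD 1 1
  simpa using this

theorem IsDer.zero : IsDer (0 : B₀ →+ M) := fun a b => by simp

theorem IsDer.add {D D' : B₀ →+ M} (h : IsDer D) (h' : IsDer D') : IsDer (D + D') := fun a b => by
  simp only [AddMonoidHom.add_apply, h a b, h' a b, smul_add]; abel

/-- A homomorphism changed by a derivation. -/
def actRing (h : SqExt π κ) (φ : B' →+* B) (hφ : ∀ b, π (φ b) = π' b) (D : B₀ →+ M) (hD : IsDer D) : B' →+* B :=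
  RingHom.mk'
    { toFun := fun b => φ b + κ (D (π' b))
      map_one' := by rw [map_one, map_one, hD.one, map_zero, add_zero]
      map_mul' := fun a b => by
        rw [map_mul π', map_mul, hD, map_add, ← hφ a, ← hφ b, h.smul, h.smul]
        linear_combination -(h.mul_eq_zero (D (π (φ a))) (D (π (φ b)))) }
    fun a b => by
      show φ (a + b) + κ (D (π' (a + b))) = φ a + κ (D (π' a)) + (φ b + κ (D (π' b)))
      rw [map_add, map_add, map_add, map_add]; abel

theorem actRing_apply (h : SqExt π κ) (φ : B' →+* B) (hφ : ∀ b, π (φ b) = π' b) (D : B₀ →+ M) (hD : IsDer D)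
    (b : B') : actRing h φ hφ D hD b = φ b + κ (D (π' b)) := rfl

theorem actRing_proj (h : SqExt π κ) (φ : B' →+* B) (hφ : ∀ b, π (φ b) = π' b) (D : B₀ →+ M) (hD : IsDer D)
    (b : B') : π (actRing h φ hφ D hD b) = π' b := by
  rw [actRing_apply, map_add, h.proj, hφ, add_zero]

/-- Two lifts differ by exactly one derivation. -/
theorem existsUnique_diff (h : SqExt π κ) (h' : SqExt π' κ') (φ ψ : B' →+* B) (hφ : ∀ b, π (φ b) = π' b)
    (hψ : ∀ b, π (ψ b) = π' b) (hφκ : ∀ m, φ (κ' m) = κ m) (hψκ : ∀ m, ψ (κ' m) = κ m) :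
    ∃! D : B₀ →+ M, IsDer D ∧ ∀ b, ψ b = φ b + κ (D (π' b)) := by
  have hex : ∀ b₀, ∃ m, ∀ b, π' b = b₀ → κ m = ψ b - φ b := fun b₀ => by
    obtain ⟨b, rfl⟩ := h'.surj b₀
    obtain ⟨m, hm⟩ := h.exact (ψ b - φ b) (by rw [map_sub, hφ, hψ, sub_self])
    refine ⟨m, fun b₁ hb₁ => ?_⟩
    obtain ⟨n, hn⟩ := h'.exact (b₁ - b) (by rw [map_sub, hb₁, sub_self])
    rw [show b₁ = b + κ' n by rw [hn]; ring, map_add, map_add, hφκ, hψκ, hm]
    ring
  choose D hD using hex
  refine ⟨AddMonoidHom.mk' D fun a b => h.inj ?_, ⟨fun a b => h.inj ?_, fun b => ?_⟩, ?_⟩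
  · obtain ⟨a, rfl⟩ := h'.surj a
    obtain ⟨b, rfl⟩ := h'.surj b
    rw [map_add, hD _ _ (map_add π' a b), hD _ _ rfl, hD _ _ rfl, map_add, map_add]; ring
  · obtain ⟨a, rfl⟩ := h'.surj a
    obtain ⟨b, rfl⟩ := h'.surj b
    show κ (D (π' a * π' b)) = κ (π' a • D (π' b) + π' b • D (π' a))
    rw [hD _ _ (map_mul π' a b), map_add]
    nth_rw 1 [← hψ a]
    rw [← hφ b, h.smul, h.smul]
    simp only [hφ]
    rw [hD _ _ rfl, hD _ _ rfl, map_mul, map_mul]; ring
  · show ψ b = φ b + κ (D (π' b))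
    rw [hD _ _ rfl]; ring
  · rintro E ⟨-, hE⟩
    ext b₀
    obtain ⟨b, rfl⟩ := h'.surj b₀
    refine h.inj ?_
    show κ (E (π' b)) = κ (D (π' b))
    rw [hD _ _ rfl, hE b]; ring

/-- Homomorphisms of extensions are bijective. -/
theorem bijective_of_hom (h : SqExt π κ) (h' : SqExt π' κ') (φ : B' →+* B) (hφ : ∀ b, π (φ b) = π' b)
    (hφκ : ∀ m, φ (κ' m) = κ m) : Function.Bijective φ := by
  refine ⟨(injective_iff_map_eq_zero φ).2 fun b hb => ?_, fun b => ?_⟩
  · obtain ⟨m, rfl⟩ := h'.exact b (by rw [← hφ, hb, map_zero])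
    rw [hφκ] at hb
    rw [h.inj (hb.trans (map_zero κ).symm), map_zero]
  · obtain ⟨b', hb'⟩ := h'.surj (π b)
    obtain ⟨m, hm⟩ := h.exact (b - φ b') (by rw [map_sub, hφ, hb', sub_self])
    exact ⟨b' + κ' m, by rw [map_add, hφκ, hm]; ring⟩

end Ext

section Flat

variable {R : Type u} [CommRing R] {I : Ideal R} {B B₀ M : Type u} [CommRing B] [CommRing B₀] [Algebra R B]
  [Algebra R B₀] [AddCommGroup M] [Module R M] [Module B₀ M] [IsScalarTower R B₀ M]

theorem eq_of_span (ψ : I →ₗ[R] M) (hψ : IsBaseChange B₀ ψ) (π : B →ₐ[R] B₀) (hπ : Function.Surjective π)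
    {N : Type*} [AddCommGroup N] (f f' : M →+ N) (hf : ∀ b c, f (π b • ψ c) = f' (π b • ψ c)) : f = f' := by
  ext m
  obtain ⟨z, rfl⟩ := hψ.equiv.surjective m
  induction z using TensorProduct.induction_on with
  | zero => simp
  | add x y hx hy => rw [map_add, map_add, map_add, hx, hy]
  | tmul a c =>
    obtain ⟨b, rfl⟩ := hπ a
    rw [hψ.equiv_tmul]
    exact hf b c

/-- The kernel of a flat extension along a square-zero ideal is the base change of the ideal. -/
theorem exists_kappa [Module.Flat R B] (hI : I * I = ⊥) (π : B →ₐ[R] B₀) (hπ : Function.Surjective π)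
    (hker : RingHom.ker π.toRingHom = I.map (algebraMap R B)) (ψ : I →ₗ[R] M) (hψ : IsBaseChange B₀ ψ) :
    ∃ κ : M →+ B, SqExt π.toRingHom κ ∧ ∀ b (c : I), κ (π b • ψ c) = b * algebraMap R B c := by
  have hwd : ∀ b b' (c : I), π b = π b' → b * algebraMap R B c = b' * algebraMap R B c := by
    intro b b' c hbb
    rw [← sub_eq_zero, ← sub_mul]
    have hm : (b - b') * algebraMap R B c ∈ I.map (algebraMap R B) * I.map (algebraMap R B) := by
      refine Ideal.mul_mem_mul ?_ (Ideal.mem_map_of_mem _ c.2)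
      rw [← hker]
      show π (b - b') = 0
      rw [map_sub, hbb, sub_self]
    rwa [← Ideal.map_mul, hI, Ideal.map_bot, Submodule.mem_bot] at hm
  let s := Function.surjInv hπ
  have hs : ∀ a, π (s a) = a := Function.surjInv_eq hπ
  have hsc : ∀ b (c : I), s (π b) * algebraMap R B c = b * algebraMap R B c := fun b c => hwd _ _ c (hs _)
  let μ₀ : B₀ ⊗[R] I →ₗ[R] B := TensorProduct.lift (LinearMap.mk₂ R (fun a (c : I) => s a * algebraMap R B c)
    (fun a a' c => (hwd _ (s a + s a') c (by rw [hs, map_add, hs, hs])).trans (add_mul _ _ _))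
    (fun r a c => (hwd _ (r • s a) c (by rw [hs, map_smul, hs])).trans (smul_mul_assoc r _ _))
    (fun a c c' => by
      show s a * algebraMap R B ((c : R) + c') = _
      rw [map_add, mul_add])
    (fun r a c => by
      show s a * algebraMap R B (r * (c : R)) = r • (s a * algebraMap R B c)
      rw [map_mul, Algebra.smul_def]; ring))
  have hμ : ∀ b (c : I), μ₀ (π b ⊗ₜ c) = b * algebraMap R B c := hsc
  have hcomp : ∀ z : B ⊗[R] I, μ₀ (LinearMap.rTensor I π.toLinearMap z) =
      TensorProduct.rid R B (LinearMap.lTensor B I.subtype z) := fun z => by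
    induction z using TensorProduct.induction_on with
    | zero => simp
    | add x y hx hy => rw [map_add, map_add, map_add, map_add, hx, hy]
    | tmul b c =>
      rw [LinearMap.rTensor_tmul, LinearMap.lTensor_tmul, TensorProduct.rid_tmul, AlgHom.toLinearMap_apply, hμ]
      show b * algebraMap R B c = (c : R) • b
      rw [Algebra.smul_def, mul_comm]
  have hπt : Function.Surjective (LinearMap.rTensor I π.toLinearMap) := LinearMap.rTensor_surjective I hπ
  have hinj : Function.Injective μ₀ := fun z z' hzz => by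
    obtain ⟨x, rfl⟩ := hπt z
    obtain ⟨x', rfl⟩ := hπt z'
    rw [hcomp, hcomp] at hzz
    rw [Module.Flat.lTensor_preserves_injective_linearMap (M := B) I.subtype Subtype.val_injective
      ((TensorProduct.rid R B).injective hzz)]
  let κ : M →+ B := μ₀.toAddMonoidHom.comp (hψ.equiv.symm.restrictScalars R).toLinearMap.toAddMonoidHom
  have hκ : ∀ z : B₀ ⊗[R] I, κ (hψ.equiv z) = μ₀ z := fun z => congrArg μ₀ (hψ.equiv.symm_apply_apply z)
  have hκ' : ∀ b (c : I), κ (π b • ψ c) = b * algebraMap R B c := fun b c => by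
    rw [← hψ.equiv_tmul, hκ, hμ]
  refine ⟨κ, ⟨hπ, fun m m' hmm => ?_, fun m => ?_, fun b hb => ?_, fun b m => ?_⟩, hκ'⟩
  · obtain ⟨z, rfl⟩ := hψ.equiv.surjective m
    obtain ⟨z', rfl⟩ := hψ.equiv.surjective m'
    rw [hκ, hκ] at hmm
    rw [hinj hmm]
  · refine DFunLike.congr_fun (eq_of_span ψ hψ π hπ (π.toRingHom.toAddMonoidHom.comp κ) 0 fun b c => ?_) m
    show π (κ (π b • ψ c)) = 0
    rw [hκ', ← RingHom.mem_ker (f := π.toRingHom) |>.1 (hker ▸ Ideal.mul_mem_left _ b (Ideal.mem_map_of_mem _ c.2))]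
    rfl
  · have hm : b ∈ I.map (algebraMap R B) := hker ▸ hb
    refine Submodule.span_induction (p := fun x _ => ∃ m, κ m = x) ?_ ⟨0, map_zero κ⟩ ?_ ?_ hm
    · rintro _ ⟨c, hc, rfl⟩
      exact ⟨π 1 • ψ ⟨c, hc⟩, by rw [hκ', one_mul]⟩
    · rintro x y _ _ ⟨m, rfl⟩ ⟨m', rfl⟩
      exact ⟨m + m', map_add κ m m'⟩
    · rintro a _ _ ⟨m, rfl⟩
      refine ⟨π a • m, DFunLike.congr_fun (eq_of_span ψ hψ π hπ (κ.comp (DistribMulAction.toAddMonoidHom M (π a)))
        ((AddMonoidHom.mulLeft a).comp κ) fun b c => ?_) m⟩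
      show κ (π a • π b • ψ c) = a * κ (π b • ψ c)
      rw [smul_smul, ← map_mul, hκ', hκ', mul_assoc]
  · refine DFunLike.congr_fun (eq_of_span ψ hψ π hπ (κ.comp (DistribMulAction.toAddMonoidHom M (π b)))
      ((AddMonoidHom.mulLeft b).comp κ) fun a c => ?_) m
    show κ (π b • π a • ψ c) = b * κ (π a • ψ c)
    rw [smul_smul, ← map_mul, hκ', hκ', mul_assoc]

end Flat

end SmDefLib
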