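import Groth.Agent.CechLib.Cartan
import Groth.Agent.CechLib.Compare

/-!
# Cocycles are coboundaries when cohomology vanishes
-/

set_option autoImplicit false

universe u

open CategoryTheory CategoryTheory.Limits TopologicalSpace Opposite
open QCohLib (AbSh HU)
open CechLib (Cochain cap dd dd_apply rs cap_le cap_comp_le le_cap_iff cap_le_iSup)

namespace SmDefLib

variable {X : TopCat.{u}} {ι : Type u} (U : ι → Opens X) (F : AbSh X)

theorem app_dd {G : AbSh X} (φ : F ⟶ G) (n : ℕ) (c : Cochain U F.obj n) (J : Fin (n + 2) → ι) :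
    φ.hom.app (op (cap U J)) (dd U F.obj n c J) =
      dd U G.obj n (fun K => φ.hom.app (op (cap U K)) (c K)) J := by
  rw [dd_apply, dd_apply, map_sum]
  simp only [map_zsmul, CechLib.app_rs]

/-- If the first cohomology vanishes, one cocycles are coboundaries. -/
theorem exists_of_cocycle_one [Subsingleton (HU F 1 (⨆ i, U i))] (c : Cochain U F.obj 1)
    (hc : dd U F.obj 1 c = 0) : ∃ b, dd U F.obj 0 b = c := by
  have hS := CechLib.gdSeq_shortExact F
  haveI := hS.mono_f
  let S := CechLib.gdSeq F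
  let c' : Cochain U S.X₂.obj 1 := fun K => S.f.hom.app (op (cap U K)) (c K)
  obtain ⟨b, hb⟩ := CechLib.gd_cech F U 0 c' (funext fun J => by
    refine (app_dd U S.X₁ S.f 1 c J).symm.trans ?_
    rw [hc]
    exact map_zero _)
  let q : Cochain U S.X₃.obj 0 := fun K => S.g.hom.app (op (cap U K)) (b K)
  have hq : dd U S.X₃.obj 0 q = 0 := funext fun J => by
    refine (app_dd U S.X₂ S.g 0 b J).symm.trans ?_
    rw [hb]
    exact (congr_arg (fun φ : S.X₁ ⟶ S.X₃ => φ.hom.app (op (cap U J)) (c J)) S.zero).trans rfl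
  obtain ⟨s, hs⟩ := CechLib.exists_rho_eq U S.X₃ q hq
  haveI : Subsingleton (HU S.X₁ 1 (⨆ i, U i)) := ‹Subsingleton (HU F 1 (⨆ i, U i))›
  obtain ⟨t, ht⟩ := QCohLib.exists_lift_of_subsingleton hS (U := ⨆ i, U i) s
  have hz : ∀ K : Fin 1 → ι, ∃ y, S.f.hom.app (op (cap U K)) y = b K - rs S.X₂.obj (cap_le_iSup U K) t := fun K => by
    refine CechLib.exists_of_app_eq_zero hS _ _ ?_
    rw [map_sub, CechLib.app_rs, ht, sub_eq_zero]
    exact (congr_fun hs K).symm.trans (CechLib.cochainEquiv_rho U S.X₃ s K)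
  choose b' hb' using hz
  refine ⟨b', funext fun J => CechLib.app_injective S.f _ ?_⟩
  refine (app_dd U S.X₁ S.f 0 b' J).trans ?_
  simp only [hb']
  have hb0 := congr_fun hb J
  rw [dd_apply, Fin.sum_univ_two] at hb0 ⊢
  simp only [map_sub, CechLib.rs_rs, Fin.val_zero, pow_zero, one_smul, Fin.val_one, pow_one, neg_smul] at hb0 ⊢
  rw [show (c' J) = S.f.hom.app (op (cap U J)) (c J) from rfl] at hb0
  rw [← hb0]
  abel

/-- If an acyclic family has vanishing cohomology in degree `n + 1`, cocycles are coboundaries. -/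
theorem exists_of_cocycle (hU : CechLib.Acyc U F) (n : ℕ) [Subsingleton (HU F (n + 1) (⨆ i, U i))]
    (c : Cochain U F.obj (n + 1)) (hc : dd U F.obj (n + 1) c = 0) : ∃ b, dd U F.obj n b = c := by
  obtain ⟨e⟩ := CechLib.nonempty_homology_equiv U (n + 1) F hU
  haveI := e.toEquiv.subsingleton
  exact (CechLib.isZero_homology_succ_iff U F.obj n).1 (AddCommGrpCat.isZero_of_subsingleton _) c hc

/-- If an acyclic covering family has vanishing global cohomology, cocycles are coboundaries. -/
theorem exists_of_cocycle_top (hU : CechLib.Acyc U F) (hcov : ⨆ i, U i = ⊤) (n : ℕ)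
    (h : Subsingleton (HU F (n + 1) ⊤)) (c : Cochain U F.obj (n + 1)) (hc : dd U F.obj (n + 1) c = 0) :
    ∃ b, dd U F.obj n b = c := by
  haveI : Subsingleton (HU F (n + 1) (⨆ i, U i)) := by rw [hcov]; exact h
  exact exists_of_cocycle U F hU n c hc

/-- If the first global cohomology vanishes, one cocycles of a covering are coboundaries. -/
theorem exists_of_cocycle_one_top (hcov : ⨆ i, U i = ⊤) (h : Subsingleton (HU F 1 ⊤)) (c : Cochain U F.obj 1)
    (hc : dd U F.obj 1 c = 0) : ∃ b, dd U F.obj 0 b = c := by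
  haveI : Subsingleton (HU F 1 (⨆ i, U i)) := by rw [hcov]; exact h
  exact exists_of_cocycle_one U F c hc

end SmDefLib
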