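import Groth.Agent.CechLib.Basic

/-!
# Differentials of cochains of low degree, evaluated on smaller opens
-/

set_option autoImplicit false

universe u

open CategoryTheory TopologicalSpace Opposite
open CechLib (Cochain cap dd dd_apply rs cap_le cap_comp_le le_cap_iff rs_rs)

namespace SmDefLib

variable {X : TopCat.{u}} {ι : Type u} (U : ι → Opens X) (P : (Opens X)ᵒᵖ ⥤ AddCommGrpCat.{u})

theorem rs_cast {n : ℕ} (c : Cochain U P n) {J K : Fin (n + 1) → ι} (e : J = K) {W : Opens X} (hJ : W ≤ cap U J)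
    (hK : W ≤ cap U K) : rs P hJ (c J) = rs P hK (c K) := by
  subst e; rfl

variable {W : Opens X}

theorem le1 {i : ι} (h : W ≤ U i) : W ≤ cap U ![i] :=
  (le_cap_iff U).2 fun a => by fin_cases a; exact h

theorem le2 {i j : ι} (hi : W ≤ U i) (hj : W ≤ U j) : W ≤ cap U ![i, j] :=
  (le_cap_iff U).2 fun a => by fin_cases a <;> assumption

theorem le3 {i j k : ι} (hi : W ≤ U i) (hj : W ≤ U j) (hk : W ≤ U k) : W ≤ cap U ![i, j, k] :=
  (le_cap_iff U).2 fun a => by fin_cases a <;> assumption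

/-- The value of a zero cochain on a smaller open. -/
noncomputable def at1 (c : Cochain U P 0) {i : ι} (hi : W ≤ U i) : P.obj (op W) := rs P (le1 U hi) (c ![i])

/-- The value of a one cochain on a smaller open. -/
noncomputable def at2 (c : Cochain U P 1) {i j : ι} (hi : W ≤ U i) (hj : W ≤ U j) : P.obj (op W) :=
  rs P (le2 U hi hj) (c ![i, j])

/-- The value of a two cochain on a smaller open. -/
noncomputable def at3 (c : Cochain U P 2) {i j k : ι} (hi : W ≤ U i) (hj : W ≤ U j) (hk : W ≤ U k) :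
    P.obj (op W) :=
  rs P (le3 U hi hj hk) (c ![i, j, k])

variable {W' : Opens X} (h : W' ≤ W)

theorem rs_at1 (c : Cochain U P 0) {i : ι} (hi : W ≤ U i) :
    rs P h (at1 U P c hi) = at1 U P c (h.trans hi) := rs_rs _ _ _ _

theorem rs_at2 (c : Cochain U P 1) {i j : ι} (hi : W ≤ U i) (hj : W ≤ U j) :
    rs P h (at2 U P c hi hj) = at2 U P c (h.trans hi) (h.trans hj) := rs_rs _ _ _ _

theorem at2_dd (b : Cochain U P 0) {i j : ι} (hi : W ≤ U i) (hj : W ≤ U j) :
    at2 U P (dd U P 0 b) hi hj = at1 U P b hj - at1 U P b hi := by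
  rw [at2, dd_apply, Fin.sum_univ_two]
  simp only [Fin.val_zero, pow_zero, one_smul, Fin.val_one, pow_one, neg_smul, ← sub_eq_add_neg, map_sub, rs_rs,
    at1]
  exact congrArg₂ (· - ·) (rs_cast U P b (funext fun a => by fin_cases a; rfl) _ _)
    (rs_cast U P b (funext fun a => by fin_cases a; rfl) _ _)

theorem at3_dd (b : Cochain U P 1) {i j k : ι} (hi : W ≤ U i) (hj : W ≤ U j) (hk : W ≤ U k) :
    at3 U P (dd U P 1 b) hi hj hk = at2 U P b hj hk - at2 U P b hi hk + at2 U P b hi hj := by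
  rw [at3, dd_apply, Fin.sum_univ_three]
  simp only [Fin.val_zero, pow_zero, one_smul, Fin.val_one, pow_one, Fin.val_two, neg_smul, neg_one_sq,
    ← sub_eq_add_neg, map_add, map_sub, rs_rs, at2]
  exact congrArg₂ (· + ·) (congrArg₂ (· - ·) (rs_cast U P b (funext fun a => by fin_cases a <;> rfl) _ _)
    (rs_cast U P b (funext fun a => by fin_cases a <;> rfl) _ _))
    (rs_cast U P b (funext fun a => by fin_cases a <;> rfl) _ _)

theorem rs_dd2 (c : Cochain U P 2) {i j k l : ι} (hi : W ≤ U i) (hj : W ≤ U j) (hk : W ≤ U k) (hl : W ≤ U l)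
    (hW : W ≤ cap U ![i, j, k, l]) :
    rs P hW (dd U P 2 c ![i, j, k, l]) =
      at3 U P c hj hk hl - at3 U P c hi hk hl + at3 U P c hi hj hl - at3 U P c hi hj hk := by
  rw [dd_apply, Fin.sum_univ_four]
  have e3 : ((-1 : ℤ) ^ ((3 : Fin 4) : ℕ)) = -1 := by decide
  simp only [e3, Fin.val_zero, pow_zero, one_smul, Fin.val_one, pow_one, Fin.val_two, neg_smul, neg_one_sq,
    ← sub_eq_add_neg, map_add, map_sub, rs_rs, at3]
  exact congrArg₂ (· - ·) (congrArg₂ (· + ·) (congrArg₂ (· - ·)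
    (rs_cast U P c (funext fun a => by fin_cases a <;> rfl) _ _)
    (rs_cast U P c (funext fun a => by fin_cases a <;> rfl) _ _))
    (rs_cast U P c (funext fun a => by fin_cases a <;> rfl) _ _))
    (rs_cast U P c (funext fun a => by fin_cases a <;> rfl) _ _)

end SmDefLib
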