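import Groth.Agent.OmegaAffLib.Universal
import Groth.Agent.OmegaAffLib.Consequences
import Groth.Agent.HomCohLib.Coh
import Groth.Agent.SmDefLib.Alg

/-!
# Derivations over an affine base as homomorphisms out of the differentials
-/

set_option autoImplicit false
set_option linter.unusedSectionVars false
set_option linter.style.haveILetI false
set_option backward.isDefEq.respectTransparency false
set_option maxHeartbeats 1000000

universe u

open CategoryTheory CategoryTheory.Limits AlgebraicGeometry Opposite TopologicalSpace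
open CohCmpLib (homMod happ)
open ProjFormLib (res)

noncomputable section

namespace SmDefLib

variable {X K : Scheme.{u}} (f : X ⟶ K) [QuasiSeparated f] (M : X.Modules) {W : X.Opens}

/-- A homomorphism out of the differentials evaluated on differentials. -/
def derOf (h : Γ(homMod (Omega.sheaf f) M, W)) : Γ(X, W) →+ Γ(M, W) :=
  AddMonoidHom.mk' (fun x => happ h (OmegaSh.dSect f W x))
    fun x y => by rw [OmegaSh.dSect_add, HomCohLib.happ_add_right]

theorem derOf_apply (h : Γ(homMod (Omega.sheaf f) M, W)) (x : Γ(X, W)) :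
    derOf f M h x = happ h (OmegaSh.dSect f W x) := rfl

theorem derOf_add (h h' : Γ(homMod (Omega.sheaf f) M, W)) : derOf f M (h + h') = derOf f M h + derOf f M h' :=
  AddMonoidHom.ext fun _ => HomCohLib.happ_add_left h h' _

theorem isDer_derOf (h : Γ(homMod (Omega.sheaf f) M, W)) : IsDer (derOf f M h) := fun a b => by
  show happ h (OmegaSh.dSect f W (a * b)) = a • happ h (OmegaSh.dSect f W b) + b • happ h (OmegaSh.dSect f W a)
  rw [OmegaSh.dSect_mul, HomCohLib.happ_add_right, HomCohLib.happ_smul_right, HomCohLib.happ_smul_right]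

theorem derOf_appLE (h : Γ(homMod (Omega.sheaf f) M, W)) (V : K.Opens) (hV : W ≤ f ⁻¹ᵁ V)
    (r : Γ(K, V)) : derOf f M h (f.appLE V W hV r) = 0 := by
  show happ h (OmegaSh.dSect f W (f.appLE V W hV r)) = 0
  have h0 : OmegaSh.dSect f W (f.appLE V W hV r) = 0 := OmegaAffLib.der_appLE (OmegaSh.dOmega f) V W hV r
  refine (congrArg (happ h) h0).trans ?_
  have := HomCohLib.happ_smul_right h (0 : Γ(X, W)) (0 : Γ(Omega.sheaf f, W))
  rwa [zero_smul, zero_smul] at this

theorem derOf_res {W' : X.Opens} (hle : W' ≤ W) (h : Γ(homMod (Omega.sheaf f) M, W)) (x : Γ(X, W)) :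
    derOf f M (res (homMod (Omega.sheaf f) M) hle h) (X.presheaf.map (homOfLE hle).op x) =
      M.presheaf.map (homOfLE hle).op (derOf f M h x) := by
  rw [derOf_apply, derOf_apply, OmegaSh.dSect_map]
  exact HomCohLib.happ_res hle h _

variable [IsAffine K]

theorem goodTop (hW : IsAffineOpen W) : OmegaAffLib.Good f W :=
  ⟨hW, ⊤, isAffineOpen_top K, le_top⟩

theorem derOf_injective (hW : IsAffineOpen W) : Function.Injective (derOf f M (W := W)) := by
  haveI : Coh.IsQCoh (Omega.sheaf f) :=
    OmegaAffLib.isQCoh_of_isUniversal (OmegaAffLib.isUniversal_dOmega (f := f))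
  intro h h' e
  refine HomCohLib.hom_ext hW le_rfl h h' fun m => ?_
  rw [show res (Omega.sheaf f) (le_refl W) m = m by exact congr($((Omega.sheaf f).presheaf.map_id (op W)) m)]
  refine DFunLike.congr_fun (OmegaAffLib.eq_of_dSect (goodTop f hW) le_rfl
    (AddMonoidHom.mk' (happ h) (HomCohLib.happ_add_right h))
    (AddMonoidHom.mk' (happ h') (HomCohLib.happ_add_right h')) (fun a t => ?_) (fun a t => ?_) fun b => ?_) m
  · show happ h (a • t) = _
    rw [HomCohLib.happ_smul_right]
    congr 1
    exact (congr($(X.presheaf.map_id (op W)) a)).symm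
  · show happ h' (a • t) = _
    rw [HomCohLib.happ_smul_right]
    congr 1
    exact (congr($(X.presheaf.map_id (op W)) a)).symm
  · exact DFunLike.congr_fun e b

theorem exists_derOf_eq (hW : IsAffineOpen W) (D : Γ(X, W) →+ Γ(M, W)) (hD : IsDer D)
    (hc : ∀ r, D (f.appLE ⊤ W le_top r) = 0) : ∃ h, derOf f M h = D := by
  haveI : Coh.IsQCoh (Omega.sheaf f) :=
    OmegaAffLib.isQCoh_of_isUniversal (OmegaAffLib.isUniversal_dOmega (f := f))
  let δ : (OmAff.sectMod M W).Derivation (f.appLE ⊤ W le_top) :=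
    ModuleCat.Derivation.mk (fun b => D b) (map_add D) hD hc
  haveI := OmegaAffLib.isIso_toSect f (isAffineOpen_top K) hW (show W ≤ f ⁻¹ᵁ ⊤ from le_top)
  let φ : Γ(Omega.sheaf f, W) →ₗ[Γ(X, W)] Γ(M, W) :=
    (inv (OmAff.toSect f ⊤ W le_top) ≫ δ.desc).hom
  have hφ : ∀ b, φ (OmegaSh.dSect f W b) = D b := fun b => by
    refine Eq.trans ?_ (δ.desc_d b)
    rw [← OmAff.toSect_d f ⊤ W le_top b]
    exact congrArg δ.desc.hom
      ((CategoryTheory.asIso (OmAff.toSect f ⊤ W le_top)).toLinearEquiv.symm_apply_apply _)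
  obtain ⟨h, hh⟩ := HomCohLib.exists_hom hW φ
  exact ⟨h, AddMonoidHom.ext fun x => (hh _).trans (hφ x)⟩

end SmDefLib
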