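import Groth.Agent.SmDefLib.Lift

/-!
# Gluing lifts along compatible isomorphisms
-/

set_option autoImplicit false
set_option backward.isDefEq.respectTransparency false
set_option maxHeartbeats 1000000

universe u

open CategoryTheory CategoryTheory.Limits AlgebraicGeometry Opposite TopologicalSpace

noncomputable section

namespace SmDefLib

variable {X₀ S : Scheme.{u}} {g : X₀ ⟶ S}

/-- Compatible isomorphisms between lifts. -/
structure GlueData (g : X₀ ⟶ S) where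
  /-- index -/
  ι : Type u
  /-- lifts -/
  a : ι → Lift g
  /-- transition isomorphisms -/
  G : ∀ i j (W : X₀.Opens), W ≤ (a i).dom → W ≤ (a j).dom → Hom (a i) (a j) W
  res_G : ∀ i j (W W' : X₀.Opens) (hi : W ≤ (a i).dom) (hj : W ≤ (a j).dom) (h : W' ≤ W),
    (G i j W hi hj).res hi hj h = G i j W' (h.trans hi) (h.trans hj)
  comp_G : ∀ i j k (W : X₀.Opens) (hi : W ≤ (a i).dom) (hj : W ≤ (a j).dom) (hk : W ≤ (a k).dom),
    (G i j W hi hj).comp (G j k W hj hk) hj = G i k W hi hk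
  id_G : ∀ i (W : X₀.Opens) (hi : W ≤ (a i).dom), G i i W hi hi = Hom.id (a i) W
  cover : ⨆ i, (a i).dom = ⊤

namespace GlueData

variable (D : GlueData g)

/-- Opens inside the pieces. -/
structure Idx : Type u where
  /-- piece -/
  i : D.ι
  /-- open -/
  W : X₀.Opens
  /-- inside -/
  le : W ≤ (D.a i).dom

instance : Preorder D.Idx where
  le p q := p.W ≤ q.W
  le_refl p := le_refl p.W
  le_trans p q r h h' := le_trans (a := p.W) h h'

theorem Idx.hle {D : GlueData g} {p q : D.Idx} (h : p ⟶ q) : p.W ≤ q.W := h.le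

theorem Idx.hle' {D : GlueData g} {p q : D.Idx} (h : p ⟶ q) : p.W ≤ (D.a q.i).dom := (Idx.hle h).trans q.le

theorem isIso_G (i j : D.ι) (W : X₀.Opens) (hi : W ≤ (D.a i).dom) (hj : W ≤ (D.a j).dom) :
    IsIso (D.G i j W hi hj).φ :=
  ⟨(D.G j i W hj hi).φ, by rw [← Hom.comp_φ _ _ hj, D.comp_G, D.id_G]; rfl,
    by rw [← Hom.comp_φ _ _ hi, D.comp_G, D.id_G]; rfl⟩

/-- The diagram of pieces. -/
def F : D.Idx ⥤ Scheme.{u} where
  obj p := (D.a p.i).up p.W
  map {p q} h := (D.G p.i q.i p.W p.le (Idx.hle' h)).φ ≫ (D.a q.i).X.homOfLE ((D.a q.i).up_mono (Idx.hle h))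
  map_id p := by simp [D.id_G]
  map_comp {p q r} h h' := by
    have h1 : p.W ≤ q.W := Idx.hle h
    have h2 : p.W ≤ (D.a q.i).dom := h1.trans q.le
    rw [Category.assoc, ← Category.assoc ((D.a q.i).X.homOfLE _) (D.G q.i r.i q.W q.le _).φ,
      ← Hom.res_φ (D.G q.i r.i q.W q.le (Idx.hle' h')) q.le (Idx.hle' h') h1,
      D.res_G, Category.assoc, Scheme.homOfLE_homOfLE, ← Category.assoc (D.G p.i q.i p.W p.le h2).φ,
      ← Hom.comp_φ _ _ h2, D.comp_G]

theorem F_map {p q : D.Idx} (h : p ⟶ q) :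
    D.F.map h = (D.G p.i q.i p.W p.le (Idx.hle' h)).φ ≫ (D.a q.i).X.homOfLE ((D.a q.i).up_mono (Idx.hle h)) := rfl

instance isOpenImmersion_map {p q : D.Idx} (h : p ⟶ q) : IsOpenImmersion (D.F.map h) := by
  haveI := D.isIso_G p.i q.i p.W p.le (Idx.hle' h)
  rw [F_map]
  infer_instance

/-- A point of `X₀` in a piece. -/
def pt (p : D.Idx) (z : (p.W : Scheme.{u})) : D.F.obj p := (D.a p.i).ju p.le z

theorem pt_map {p q : D.Idx} (h : p ⟶ q) :
    (D.a p.i).ju p.le ≫ D.F.map h = X₀.homOfLE (Idx.hle h) ≫ (D.a q.i).ju q.le := by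
  rw [F_map, ← Category.assoc, Hom.over_j _ p.le (Idx.hle' h), (D.a q.i).homOfLE_ju q.le]

theorem pt_surjective (p : D.Idx) : Function.Surjective (D.pt p) := (D.a p.i).ju_surjective p.le

theorem pt_injective (p : D.Idx) : Function.Injective (D.pt p) :=
  ((D.a p.i).ju p.le).isClosedEmbedding.injective

theorem map_pt {p q : D.Idx} (h : p ⟶ q) (z : (p.W : Scheme.{u})) :
    D.F.map h (D.pt p z) = D.pt q (X₀.homOfLE (Idx.hle h) z) := by
  exact congr($(D.pt_map h) z)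

instance isLocallyDirected : (D.F ⋙ Scheme.forget).IsLocallyDirected := by
  constructor
  intro p q r hp hq xp xq hx
  obtain ⟨z, rfl⟩ := D.pt_surjective p xp
  obtain ⟨w, rfl⟩ := D.pt_surjective q xq
  change D.F.map hp (D.pt p z) = D.F.map hq (D.pt q w) at hx
  rw [D.map_pt, D.map_pt] at hx
  have hzw : z.1 = w.1 := by
    have := congrArg r.W.ι (D.pt_injective r hx)
    rwa [← Scheme.Hom.comp_apply, ← Scheme.Hom.comp_apply, Scheme.homOfLE_ι, Scheme.homOfLE_ι] at this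
  have hzq : z.1 ∈ q.W := hzw ▸ w.2
  let l : D.Idx := ⟨p.i, p.W ⊓ q.W, inf_le_left.trans p.le⟩
  let hl₁ : l ⟶ p := homOfLE (show l ≤ p from (inf_le_left : p.W ⊓ q.W ≤ p.W))
  let hl₂ : l ⟶ q := homOfLE (show l ≤ q from (inf_le_right : p.W ⊓ q.W ≤ q.W))
  refine ⟨l, hl₁, hl₂, D.pt l ⟨z.1, z.2, hzq⟩, ?_, ?_⟩
  · change D.F.map hl₁ _ = _
    rw [D.map_pt]
    congr 1
    refine p.W.ι.injective ?_
    rw [← Scheme.Hom.comp_apply, Scheme.homOfLE_ι]
    rfl
  · change D.F.map hl₂ _ = _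
    rw [D.map_pt]
    congr 1
    refine q.W.ι.injective ?_
    rw [← Scheme.Hom.comp_apply, Scheme.homOfLE_ι]
    exact hzw

/-- The glued scheme. -/
def glued : Scheme.{u} := colimit D.F

/-- A piece inside the glued scheme. -/
def toGlued (p : D.Idx) : D.F.obj p ⟶ D.glued := colimit.ι D.F p

theorem map_toGlued {p q : D.Idx} (h : p ⟶ q) : D.F.map h ≫ D.toGlued q = D.toGlued p := colimit.w D.F h

instance isOpenImmersion_toGlued (p : D.Idx) : IsOpenImmersion (D.toGlued p) :=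
  inferInstanceAs (IsOpenImmersion (colimit.ι D.F p))

/-- The structure map. -/
def f : D.glued ⟶ S :=
  colimit.desc D.F
    { pt := S
      ι :=
        { app := fun p => ((D.a p.i).up p.W).ι ≫ (D.a p.i).f
          naturality := fun p q h => by
            show D.F.map h ≫ ((D.a q.i).up q.W).ι ≫ (D.a q.i).f = (((D.a p.i).up p.W).ι ≫ (D.a p.i).f) ≫ 𝟙 S
            rw [Category.comp_id, F_map, Category.assoc, Scheme.homOfLE_ι_assoc]
            exact (D.G p.i q.i p.W p.le (Idx.hle' h)).over_f } }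

theorem toGlued_f (p : D.Idx) : D.toGlued p ≫ D.f = ((D.a p.i).up p.W).ι ≫ (D.a p.i).f := colimit.ι_desc _ _

/-- The index of a whole piece. -/
def top (i : D.ι) : D.Idx := ⟨i, (D.a i).dom, le_rfl⟩

/-- The opens of the pieces cover. -/
def cover₀ : X₀.OpenCover := X₀.openCoverOfIsOpenCover (fun i => (D.a i).dom) D.cover

theorem ju_toGlued {p q : D.Idx} (h : p ⟶ q) :
    X₀.homOfLE (Idx.hle h) ≫ (D.a q.i).ju q.le ≫ D.toGlued q = (D.a p.i).ju p.le ≫ D.toGlued p := by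
  rw [← D.map_toGlued h, ← Category.assoc ((D.a p.i).ju p.le), D.pt_map h, Category.assoc]

/-- The inclusion of `X₀`. -/
def j : X₀ ⟶ D.glued :=
  Scheme.Cover.glueMorphisms D.cover₀ (fun i => (D.a i).ju le_rfl ≫ D.toGlued (D.top i)) fun i k => by
    rw [← cancel_epi (isPullback_opens_inf (D.a i).dom (D.a k).dom).isoPullback.hom]
    show _ ≫ pullback.fst (D.a i).dom.ι (D.a k).dom.ι ≫ _ = _ ≫ pullback.snd (D.a i).dom.ι (D.a k).dom.ι ≫ _
    rw [IsPullback.isoPullback_hom_fst_assoc, IsPullback.isoPullback_hom_snd_assoc]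
    let l : D.Idx := ⟨i, (D.a i).dom ⊓ (D.a k).dom, inf_le_left⟩
    exact (D.ju_toGlued (homOfLE (show l ≤ D.top i from (inf_le_left : _ ≤ (D.a i).dom)))).trans
      (D.ju_toGlued (homOfLE (show l ≤ D.top k from (inf_le_right : _ ≤ (D.a k).dom)))).symm

theorem ι_j (i : D.ι) : (D.a i).dom.ι ≫ D.j = (D.a i).ju le_rfl ≫ D.toGlued (D.top i) :=
  Scheme.Cover.ι_glueMorphisms D.cover₀ _ _ i

theorem j_f : D.j ≫ D.f = g := by
  refine D.cover₀.hom_ext _ _ fun i => ?_
  show (D.a i).dom.ι ≫ D.j ≫ D.f = (D.a i).dom.ι ≫ g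
  rw [← Category.assoc, D.ι_j, Category.assoc, D.toGlued_f]
  exact (D.a i).ju_ι_f le_rfl

theorem exists_top (x : D.glued) : ∃ (i : D.ι) (z : D.F.obj (D.top i)), D.toGlued (D.top i) z = x := by
  obtain ⟨p, xp, hxp⟩ := Scheme.IsLocallyDirected.ι_jointly_surjective D.F x
  let h : p ⟶ D.top p.i := homOfLE (show p ≤ D.top p.i from p.le)
  refine ⟨p.i, D.F.map h xp, ?_⟩
  rw [← Scheme.Hom.comp_apply, D.map_toGlued h]
  exact hxp

/-- The pieces cover the glued scheme. -/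
def cover' : D.glued.OpenCover :=
  Scheme.Cover.mkOfCovers D.ι (fun i => D.F.obj (D.top i)) (fun i => D.toGlued (D.top i)) fun x => D.exists_top x

theorem j_injective : Function.Injective D.j := fun x y hxy => by
  obtain ⟨i, z, rfl⟩ := D.cover₀.exists_eq x
  obtain ⟨k, w, rfl⟩ := D.cover₀.exists_eq y
  rw [← Scheme.Hom.comp_apply, ← Scheme.Hom.comp_apply] at hxy
  change ((D.a i).dom.ι ≫ D.j) z = ((D.a k).dom.ι ≫ D.j) w at hxy
  rw [D.ι_j, D.ι_j, Scheme.Hom.comp_apply, Scheme.Hom.comp_apply] at hxy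
  obtain ⟨p, hpi, hpk, v, hv₁, hv₂⟩ := (Scheme.IsLocallyDirected.ι_eq_ι_iff D.F).1 hxy
  obtain ⟨t, rfl⟩ := D.pt_surjective p v
  rw [D.map_pt] at hv₁ hv₂
  have e1 := D.pt_injective (D.top i) (a₂ := z) hv₁
  have e2 := D.pt_injective (D.top k) (a₂ := w) hv₂
  show (D.a i).dom.ι z = (D.a k).dom.ι w
  rw [← e1, ← e2]
  exact (congr($(Scheme.homOfLE_ι X₀ (Idx.hle hpi)) t)).trans (congr($(Scheme.homOfLE_ι X₀ (Idx.hle hpk)) t)).symm

theorem isPullback_piece (i : D.ι) :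
    IsPullback ((D.a i).ju le_rfl) (D.a i).dom.ι (D.toGlued (D.top i)) D.j := by
  refine IsOpenImmersion.isPullback _ _ _ _ (D.ι_j i) ?_
  refine Opens.ext ?_
  ext x
  constructor
  · rintro ⟨v, hv⟩
    obtain ⟨z, rfl⟩ := D.pt_surjective (D.top i) v
    exact ⟨z, D.j_injective ((congr($(D.ι_j i) z)).trans hv)⟩
  · rintro ⟨v, rfl⟩
    exact ⟨(D.a i).ju le_rfl v, (congr($(D.ι_j i) v)).symm⟩

theorem of_piece {Q : MorphismProperty Scheme.{u}} [IsZariskiLocalAtTarget Q]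
    (h : ∀ i, Q ((D.a i).ju le_rfl)) : Q D.j := by
  refine IsZariskiLocalAtTarget.of_openCover D.cover' fun i => ?_
  show Q (pullback.snd D.j (D.toGlued (D.top i)))
  rw [← (D.isPullback_piece i).flip.isoPullback_inv_snd]
  exact (MorphismProperty.cancel_left_of_respectsIso Q _ _).2 (h i)

instance isClosedImmersion_j : IsClosedImmersion D.j := D.of_piece fun i => inferInstance

instance surjective_j : Surjective D.j := D.of_piece fun i => ⟨(D.a i).ju_surjective le_rfl⟩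

/-- The glued lift. -/
def lift : Lift g where
  dom := ⊤
  X := D.glued
  f := D.f
  j := X₀.topIso.hom ≫ D.j
  w := by rw [Category.assoc, D.j_f]; rfl

theorem preimage_j (i : D.ι) : D.lift.up (D.a i).dom = (D.toGlued (D.top i)).opensRange := by
  refine Opens.ext ?_
  ext x
  constructor
  · intro hx
    obtain ⟨z, hz, rfl⟩ := D.lift.mem_up.1 hx
    exact ⟨(D.a i).ju le_rfl ⟨z.1, hz⟩, (congr($(D.ι_j i) ⟨z.1, hz⟩)).symm⟩
  · rintro ⟨v, rfl⟩
    obtain ⟨z, rfl⟩ := D.pt_surjective (D.top i) v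
    exact D.lift.mem_up.2 ⟨⟨z.1, trivial⟩, z.2, congr($(D.ι_j i) z)⟩

/-- A piece is an open of the glued lift. -/
def piece (i : D.ι) : Hom (D.a i) D.lift (D.a i).dom where
  φ := IsOpenImmersion.lift (D.lift.up (D.a i).dom).ι (D.toGlued (D.top i)) (by
    rw [Scheme.Opens.range_ι, D.preimage_j]; rfl)
  over_f := by
    rw [← Category.assoc, IsOpenImmersion.lift_fac]
    exact D.toGlued_f (D.top i)
  over_j ha hb := by
    rw [← cancel_mono (D.lift.up (D.a i).dom).ι, Category.assoc, IsOpenImmersion.lift_fac, Lift.ju_ι, Lift.jj]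
    show _ = X₀.homOfLE hb ≫ X₀.topIso.hom ≫ D.j
    rw [← Category.assoc, show X₀.homOfLE hb ≫ X₀.topIso.hom = (D.a i).dom.ι from Scheme.homOfLE_ι X₀ hb]
    exact (D.ι_j i).symm

theorem piece_ι (i : D.ι) : (D.piece i).φ ≫ (D.lift.up (D.a i).dom).ι = D.toGlued (D.top i) :=
  IsOpenImmersion.lift_fac _ _ _

theorem isIso_piece (i : D.ι) : IsIso (D.piece i).φ := by
  haveI : IsOpenImmersion ((D.piece i).φ ≫ (D.lift.up (D.a i).dom).ι) := by rw [D.piece_ι]; infer_instance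
  haveI : IsOpenImmersion (D.piece i).φ := IsOpenImmersion.of_comp _ (D.lift.up (D.a i).dom).ι
  haveI : Surjective (D.piece i).φ := ⟨fun q => by
    obtain ⟨z, rfl⟩ := D.lift.ju_surjective (le_top : (D.a i).dom ≤ D.lift.dom) q
    exact ⟨(D.a i).ju le_rfl z, by rw [← Scheme.Hom.comp_apply, (D.piece i).over_j le_rfl le_top]⟩⟩
  haveI : Epi (D.piece i).φ.base := (TopCat.epi_iff_surjective _).2 (D.piece i).φ.surjective
  exact IsOpenImmersion.isIso _

theorem piece_G (i k : D.ι) (W : X₀.Opens) (hi : W ≤ (D.a i).dom) (hk : W ≤ (D.a k).dom) :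
    (D.G i k W hi hk).comp ((D.piece k).res le_rfl le_top hk) hk = (D.piece i).res le_rfl le_top hi := by
  refine Hom.ext ((cancel_mono (D.lift.up W).ι).1 ?_)
  have e : ∀ (l : D.ι) (hl : W ≤ (D.a l).dom), ((D.piece l).res le_rfl le_top hl).φ ≫ (D.lift.up W).ι =
      (D.a l).X.homOfLE ((D.a l).up_mono hl) ≫ D.toGlued (D.top l) := fun l hl => by
    rw [← Scheme.homOfLE_ι D.lift.X (D.lift.up_mono hl), ← Category.assoc, Hom.res_φ, Category.assoc, D.piece_ι]
  rw [Hom.comp_φ, Category.assoc, e, e]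
  let l : D.Idx := ⟨i, W, hi⟩
  let h1 : l ⟶ D.top k := homOfLE (show l ≤ D.top k from hk)
  let h2 : l ⟶ D.top i := homOfLE (show l ≤ D.top i from hi)
  refine Eq.trans ?_ ((D.map_toGlued h1).trans ((D.map_toGlued h2).symm.trans ?_))
  · rw [F_map, Category.assoc]; rfl
  · have e2 : D.F.map h2 = (D.a i).X.homOfLE ((D.a i).up_mono hi) :=
      (congrArg (fun φ : Hom (D.a i) (D.a i) W => φ.φ ≫ (D.a i).X.homOfLE ((D.a i).up_mono hi))
        (D.id_G i W hi)).trans (Category.id_comp _)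
    rw [e2]

end GlueData

end SmDefLib
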