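import Groth.Agent.SmDefLib.Act
import Groth.Agent.SmDefLib.Glue
import Groth.Agent.SmLiftLib.Main
import Groth.Agent.FittStratLib.Glue

/-!
# Smooth lifts exist when two cocycles of derivations are coboundaries
-/

set_option autoImplicit false
set_option linter.unusedSectionVars false
set_option backward.isDefEq.respectTransparency false
set_option maxHeartbeats 1000000

universe u

open CategoryTheory CategoryTheory.Limits AlgebraicGeometry Opposite TopologicalSpace
open CechLib (cap cap_le)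

noncomputable section

namespace SmDefLib

variable {X₀ S : Scheme.{u}} {g : X₀ ⟶ S}

/-- The lift over a smaller open. -/
def Lift.restrict (a : Lift g) {U : X₀.Opens} (h : U ≤ a.dom) : Lift g :=
  haveI : Surjective (a.ju h) := ⟨a.ju_surjective h⟩
  { dom := U
    X := a.up U
    f := (a.up U).ι ≫ a.f
    j := a.ju h
    w := a.ju_ι_f h }

variable {I : S.IdealSheafData} {f₀ : X₀ ⟶ I.subscheme}

theorem Std.restrict {a : Lift (gOf I f₀)} (ha : Std I f₀ a) {U : X₀.Opens} (h : U ≤ a.dom) :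
    Std I f₀ (a.restrict h) := by
  haveI := ha.flat
  exact ⟨(inferInstance : Flat ((a.up U).ι ≫ a.f)), ha.isPullback_ju h⟩

theorem smooth_restrict (a : Lift g) [Smooth a.f] {U : X₀.Opens} (h : U ≤ a.dom) : Smooth (a.restrict h).f :=
  (inferInstance : Smooth ((a.up U).ι ≫ a.f))

theorem smooth_str (a : Lift g) [Smooth a.f] {W : X₀.Opens} (h : W ≤ a.dom) (hW : IsAffineOpen W) (V : S.Opens)
    (hV : IsAffineOpen V) (hWV : W ≤ g ⁻¹ᵁ V) : (a.str hWV).hom.Smooth :=
  HasRingHomProperty.appLE @Smooth a.f inferInstance ⟨V, hV⟩ ⟨a.up W, a.isAffineOpen_up h hW⟩ _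

/-- Smooth morphisms to the closed subscheme have smooth lifts near each point. -/
theorem exists_local_lift [Smooth f₀] [Surjective I.subschemeι] (x : X₀) :
    ∃ a : Lift (gOf I f₀), Std I f₀ a ∧ Smooth a.f ∧ x ∈ a.dom := by
  obtain ⟨W₁, j, hj, ⟨w, hw⟩, U', k, c, hk, hpb⟩ := SmLiftLib.exists_lift_closed I.subschemeι f₀ x
  have hpb' : IsPullback (j.isoOpensRange.inv ≫ c) (j.opensRange.ι ≫ f₀) k I.subschemeι :=
    hpb.of_iso j.isoOpensRange (Iso.refl _) (Iso.refl _) (Iso.refl _) (by simp) (by simp) (by simp) (by simp)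
  haveI hc : IsClosedImmersion (j.isoOpensRange.inv ≫ c) :=
    FComplLib.isClosedImmersion_of_isPullback hpb'
  refine ⟨{ dom := j.opensRange, X := U', f := k, j := j.isoOpensRange.inv ≫ c, surj := ?_, w := ?_ }, ⟨?_, hpb'⟩, hk,
    ⟨w, hw⟩⟩
  · exact FComplLib.surjective_of_isPullback hpb'
  · rw [hpb'.w, Category.assoc]
  · haveI := hk
    show Flat k
    infer_instance

theorem surjective_subschemeι (hI : I ^ 2 = ⊥) : Surjective I.subschemeι := by
  have h : I.support = ⊤ := by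
    have h1 := congrArg Scheme.IdealSheafData.support ((pow_two I).symm.trans hI)
    rw [Scheme.IdealSheafData.support_mul, sup_idem, Scheme.IdealSheafData.support_bot] at h1
    exact h1
  refine ⟨fun x => ?_⟩
  have : x ∈ Set.range I.subschemeι := by
    rw [Scheme.IdealSheafData.range_subschemeι, h]
    trivial
  exact this

/-- A cover by affines with smooth lifts. -/
structure LiftCover (I : S.IdealSheafData) (f₀ : X₀ ⟶ I.subscheme) : Type (u + 1) where
  /-- index -/
  ι : Type u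
  /-- lifts -/
  a : ι → Lift (gOf I f₀)
  std : ∀ i, Std I f₀ (a i)
  smooth : ∀ i, Smooth (a i).f
  good : ∀ i, Good I f₀ (a i).dom
  cover : ⨆ i, (a i).dom = ⊤

theorem exists_liftCover (hI : I ^ 2 = ⊥) [Smooth f₀] : Nonempty (LiftCover I f₀) := by
  haveI := surjective_subschemeι hI
  have h : ∀ x : X₀, ∃ a : Lift (gOf I f₀), Std I f₀ a ∧ Smooth a.f ∧ x ∈ a.dom ∧ Good I f₀ a.dom := by
    intro x
    obtain ⟨a, ha, hsm, hx⟩ := exists_local_lift (I := I) (f₀ := f₀) x
    obtain ⟨V, hVa, hxV, -⟩ := exists_isAffineOpen_mem_and_subset (X := S) (x := gOf I f₀ x) (U := ⊤) trivial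
    obtain ⟨U, hUa, hxU, hle⟩ := exists_isAffineOpen_mem_and_subset (X := X₀) (x := x)
      (U := a.dom ⊓ gOf I f₀ ⁻¹ᵁ V) ⟨hx, hxV⟩
    exact ⟨a.restrict (U := U) (fun y hy => (hle hy).1), ha.restrict _, smooth_restrict a _, hxU,
      ⟨hUa, V, hVa, fun y hy => (hle hy).2⟩⟩
  choose a ha hsm hx hgood using h
  exact ⟨{ ι := X₀, a := a, std := ha, smooth := hsm, good := hgood,
           cover := top_unique fun x _ => Opens.mem_iSup.2 ⟨x, hx x⟩ }⟩

theorem good_cap [X₀.IsSeparated] {ι : Type u} (U : ι → X₀.Opens) (hU : ∀ i, Good I f₀ (U i))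
    (n : ℕ) (J : Fin (n + 1) → ι) : Good I f₀ (cap U J) := by
  obtain ⟨V, hVa, hV⟩ := (hU (J 0)).base
  exact ⟨IsAffineOpen.iInf fun a => (hU (J a)).aff, V, hVa, (cap_le U J 0).trans hV⟩

/-- A global property of the glued lift. -/
theorem std_glued (D : GlueData (gOf I f₀)) (h : ∀ i, Std I f₀ (D.a i)) : Std I f₀ D.lift := by
  constructor
  · refine IsZariskiLocalAtSource.of_openCover (P := @Flat) D.cover' fun i => ?_
    show Flat (D.toGlued (D.top i) ≫ D.f)
    rw [D.toGlued_f]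
    haveI := (h i).flat
    exact (inferInstance : Flat (((D.a i).up (D.a i).dom).ι ≫ (D.a i).f))
  · have hsq : IsPullback D.j f₀ D.f I.subschemeι := by
      refine isPullback_of_isClosedImmersion D.j I.subschemeι f₀ D.f D.j_f ?_
      rw [Scheme.IdealSheafData.ker_subschemeι]
      refine FittStratLib.ext_of_comap_opens (fun i => (D.toGlued (D.top i)).opensRange) (fun x => ?_) fun i => ?_
      · obtain ⟨i, z, hz⟩ := D.exists_top x
        exact ⟨i, z, hz⟩
      · have h1 : (I.comap D.f).comap (D.toGlued (D.top i)) = D.j.ker.comap (D.toGlued (D.top i)) := by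
          rw [← Scheme.IdealSheafData.comap_comp, D.toGlued_f, ← FComplLib.ker_of_isPullback (D.isPullback_piece i)]
          have h2 := FComplLib.ker_of_isPullback ((h i).isPullback_ju (le_refl (D.a i).dom))
          rw [Scheme.IdealSheafData.ker_subschemeι] at h2
          exact h2.symm
        rw [← (D.toGlued (D.top i)).isoOpensRange_inv_comp, Scheme.IdealSheafData.comap_comp,
          Scheme.IdealSheafData.comap_comp, h1]
    exact hsq.of_iso X₀.topIso.symm (Iso.refl _) (Iso.refl _) (Iso.refl _)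
      (by show D.j ≫ 𝟙 _ = X₀.topIso.inv ≫ X₀.topIso.hom ≫ D.j; rw [Iso.inv_hom_id_assoc, Category.comp_id])
      (by show f₀ ≫ 𝟙 _ = X₀.topIso.inv ≫ (⊤ : X₀.Opens).ι ≫ f₀
          rw [Category.comp_id, ← Category.assoc, Scheme.toIso_inv_ι, Category.id_comp])
      (by show D.f ≫ 𝟙 _ = 𝟙 _ ≫ D.f; rw [Category.comp_id, Category.id_comp])
      (by show I.subschemeι ≫ 𝟙 _ = 𝟙 _ ≫ I.subschemeι; rw [Category.comp_id, Category.id_comp])

theorem smooth_glued (D : GlueData g) (h : ∀ i, Smooth (D.a i).f) : Smooth D.lift.f := by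
  refine IsZariskiLocalAtSource.of_openCover (P := @Smooth) D.cover' fun i => ?_
  show Smooth (D.toGlued (D.top i) ≫ D.f)
  rw [D.toGlued_f]
  haveI := h i
  exact (inferInstance : Smooth (((D.a i).up (D.a i).dom).ι ≫ (D.a i).f))

variable (hI : I ^ 2 = ⊥) (C : Coef I f₀)

/-- A cocycle of the band gives gluing data. -/
theorem exists_glueData_of_cocycle [X₀.IsSeparated] {ι : Type u} (a : ι → Lift (gOf I f₀))
    (hstd : ∀ i, Std I f₀ (a i)) (hgood : ∀ i, Good I f₀ (a i).dom) (hcov : ⨆ i, (a i).dom = ⊤)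
    (g : (band hI C).Arrows (fun i => (a i).dom) (fun i => ⟨a i, hstd i⟩))
    (hg : (band hI C).IsCocycle (fun i => (a i).dom) g) :
    ∃ D : GlueData (gOf I f₀), ∃ e : D.ι = ι, ∀ i, D.a i = a (cast e i) := by
  let U : ι → X₀.Opens := fun i => (a i).dom
  let G : ∀ i j (W : X₀.Opens), W ≤ U i → W ≤ U j → Hom (a i) (a j) W := fun i j W hi hj =>
    (g i j).hom.res (g i j).ha (g i j).hb (le2 U hi hj)
  have hcomp : ∀ i j k (W : X₀.Opens) (hi : W ≤ U i) (hj : W ≤ U j) (hk : W ≤ U k),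
      (G i j W hi hj).comp (G j k W hj hk) hj = G i k W hi hk := fun i j k W hi hj hk =>
    congrArg Arr.hom (hg i j k W hi hj hk)
  refine ⟨{ ι := ι, a := a, G := G, res_G := fun i j W W' hi hj h => Hom.res_res _ _ _ _ _, comp_G := hcomp,
            id_G := fun i W hi => ?_, cover := hcov }, rfl, fun i => rfl⟩
  have h1 : G i i (U i) le_rfl le_rfl = Hom.id (a i) (U i) := by
    have h := congrArg Hom.φ (hcomp i i i (U i) le_rfl le_rfl le_rfl)
    rw [Hom.comp_φ] at h
    haveI := (G i i (U i) le_rfl le_rfl).isIso (hstd i) (hstd i) hI le_rfl le_rfl (hgood i)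
    exact Hom.ext ((cancel_epi (G i i (U i) le_rfl le_rfl).φ).1 (h.trans (Category.comp_id _).symm))
  have h2 := congrArg (fun φ : Hom (a i) (a i) (U i) => φ.res le_rfl le_rfl hi) h1
  simp only [Hom.res_id] at h2
  rw [← h2]
  exact (Hom.res_res _ _ _ _ _).symm

include hI in
/-- Smooth lifts exist when two cocycles of derivations are coboundaries. -/
theorem exists_smooth_lift [Smooth f₀] [X₀.IsSeparated]
    (h2 : ∀ {ι : Type u} (U : ι → X₀.Opens), (∀ i, Good I f₀ (U i)) → ⨆ i, U i = ⊤ →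
      ∀ c : CechLib.Cochain U C.P 2, CechLib.dd U C.P 2 c = 0 → ∃ b, CechLib.dd U C.P 1 b = c) :
    ∃ (X : Scheme.{u}) (f : X ⟶ S) (j : X₀ ⟶ X), Smooth f ∧ IsPullback j f₀ f I.subschemeι := by
  obtain ⟨K⟩ := exists_liftCover (I := I) (f₀ := f₀) hI
  let U : K.ι → X₀.Opens := fun i => (K.a i).dom
  have hcap := good_cap U K.good
  have hne : ∀ i j, Nonempty ((band hI C).A ⟨K.a i, K.std i⟩ ⟨K.a j, K.std j⟩ (cap U ![i, j])) := fun i j => by
    haveI := K.smooth j
    obtain ⟨φ⟩ := exists_hom (a := K.a i) (b := K.a j) hI (K.std i) (cap_le U ![i, j] 0) (cap_le U ![i, j] 1)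
      (hcap 1 _) fun V hV hWV => smooth_str (K.a j) (cap_le U ![i, j] 1) (hcap 1 _).aff V hV hWV
    exact ⟨⟨cap_le U ![i, j] 0, cap_le U ![i, j] 1, φ⟩⟩
  obtain ⟨g, hg⟩ := (band hI C).exists_cocycle U hcap (obj := fun i => ⟨K.a i, K.std i⟩)
    (fun i j => (hne i j).some) (h2 U K.good K.cover)
  obtain ⟨D, e, hD⟩ := exists_glueData_of_cocycle hI C K.a K.std K.good K.cover g hg
  have hsm : Smooth D.lift.f := smooth_glued D fun i => by rw [hD]; exact K.smooth _
  have hst : Std I f₀ D.lift := std_glued D fun i => by rw [hD]; exact K.std _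
  refine ⟨D.lift.X, D.lift.f, D.j, hsm, ?_⟩
  exact hst.pullback.of_iso X₀.topIso (Iso.refl _) (Iso.refl _) (Iso.refl _)
    (by show (X₀.topIso.hom ≫ D.j) ≫ 𝟙 _ = X₀.topIso.hom ≫ D.j; rw [Category.comp_id])
    (by show ((⊤ : X₀.Opens).ι ≫ f₀) ≫ 𝟙 _ = X₀.topIso.hom ≫ f₀; rw [Category.comp_id]; rfl)
    (by show D.lift.f ≫ 𝟙 _ = 𝟙 _ ≫ D.lift.f; rw [Category.comp_id, Category.id_comp])
    (by show I.subschemeι ≫ 𝟙 _ = 𝟙 _ ≫ I.subschemeι; rw [Category.comp_id, Category.id_comp])

end SmDefLib
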