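import Groth.Agent.SmDefLib.Gerbe
import Groth.Agent.SmDefLib.Cech

/-!
# The band on opens which are only locally good
-/

set_option autoImplicit false

universe u v w

open CategoryTheory TopologicalSpace Opposite
open CechLib (Cochain cap dd dd_apply rs cap_le cap_comp_le le_cap_iff rs_rs)

namespace SmDefLib

namespace Band

variable {X : TopCat.{u}} {F : QCohLib.AbSh X} (G : Band.{u, v, w} F.obj)

/-- Good opens form a basis and arrows are determined locally. -/
structure IsLocal : Prop where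
  basis : ∀ (W : Opens X), ∀ x ∈ W, ∃ W', x ∈ W' ∧ W' ≤ W ∧ G.good W'
  ext : ∀ {a b : G.O} {W : Opens X} (φ ψ : G.A a b W),
    (∀ x ∈ W, ∃ (W' : Opens X) (h : W' ≤ W), x ∈ W' ∧ G.res h φ = G.res h ψ) → φ = ψ

variable {G} (hloc : G.IsLocal)

/-- `p` moves `φ` to `ψ` on all good opens below. -/
def Moves {a b : G.O} {W : Opens X} (p : F.obj.obj (op W)) (φ ψ : G.A a b W) : Prop :=
  ∀ (W' : Opens X) (h : W' ≤ W) (hW : G.good W'), G.act hW (rs F.obj h p) (G.res h φ) = G.res h ψ

theorem Moves.res {a b : G.O} {W : Opens X} {p : F.obj.obj (op W)} {φ ψ : G.A a b W} (hp : Moves p φ ψ)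
    {W' : Opens X} (h : W' ≤ W) : Moves (rs F.obj h p) (G.res h φ) (G.res h ψ) := fun W'' h' hW => by
  rw [rs_rs, G.res_res, G.res_res]
  exact hp W'' _ hW

include hloc

theorem sheaf_ext {W : Opens X} {p q : F.obj.obj (op W)}
    (h : ∀ (W' : Opens X) (h : W' ≤ W), G.good W' → rs F.obj h p = rs F.obj h q) : p = q := by
  choose V hxV hle hgood using fun x : W => hloc.basis W x.1 x.2
  exact TopCat.Sheaf.eq_of_locally_eq' (F : TopCat.Sheaf AddCommGrpCat X) V W (fun x => homOfLE (hle x))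
    (fun x hx => Opens.mem_iSup.2 ⟨⟨x, hx⟩, hxV ⟨x, hx⟩⟩) p q fun x => h (V x) (hle x) (hgood x)

theorem Moves.unique {a b : G.O} {W : Opens X} {p q : F.obj.obj (op W)} {φ ψ : G.A a b W}
    (hp : Moves p φ ψ) (hq : Moves q φ ψ) : p = q :=
  sheaf_ext hloc fun W' h hW => G.act_inj hW _ ((hp W' h hW).trans (hq W' h hW).symm)

theorem exists_moves {a b : G.O} {W : Opens X} (φ ψ : G.A a b W) : ∃ p, Moves p φ ψ := by
  let κ : Type u := {V : Opens X // V ≤ W ∧ G.good V}
  choose p hp using fun V : κ => G.exists_act V.2.2 (G.res V.2.1 φ) (G.res V.2.1 ψ)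
  have hcompat : ∀ (V V' : κ) (T : Opens X) (h : T ≤ V.1) (h' : T ≤ V'.1), G.good T →
      rs F.obj h (p V) = rs F.obj h' (p V') := fun V V' T h h' hT => by
    have e := congrArg (G.res h) (hp V)
    have e' := congrArg (G.res h') (hp V')
    rw [G.res_act _ _ hT, G.res_res, G.res_res] at e e'
    exact G.act_inj hT _ (e.trans e'.symm)
  obtain ⟨q, hq, -⟩ := TopCat.Sheaf.existsUnique_gluing' (F : TopCat.Sheaf AddCommGrpCat X) (fun V : κ => V.1) W
    (fun V => homOfLE V.2.1) (fun x hx => by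
      obtain ⟨V, hxV, hle, hgood⟩ := hloc.basis W x hx
      exact Opens.mem_iSup.2 ⟨⟨V, hle, hgood⟩, hxV⟩) p fun V V' => by
      refine sheaf_ext hloc fun T hT hgood => ?_
      show rs F.obj hT (rs F.obj inf_le_left (p V)) = rs F.obj hT (rs F.obj inf_le_right (p V'))
      rw [rs_rs, rs_rs]
      exact hcompat V V' T _ _ hgood
  refine ⟨q, fun V h hV => ?_⟩
  have e : rs F.obj h q = p ⟨V, h, hV⟩ := hq ⟨V, h, hV⟩
  rw [e]
  exact hp ⟨V, h, hV⟩

variable {ι : Type u} {U : ι → Opens X} {obj obj' : ι → G.O} {g : G.Arrows U obj} {g' : G.Arrows U obj'}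

/-- Local arrows between two descent data can be corrected when one cocycles are coboundaries. -/
theorem exists_morphism_local (hgood : ∀ i, G.good (cap U ![i])) (hg : G.IsCocycle U g) (hg' : G.IsCocycle U g')
    (φ : ∀ i, G.A (obj i) (obj' i) (cap U ![i]))
    (h1 : ∀ c : Cochain U F.obj 1, dd U F.obj 1 c = 0 → ∃ b, dd U F.obj 0 b = c) :
    ∃ ψ : ∀ i, G.A (obj i) (obj' i) (cap U ![i]), ∀ (i j : ι) (W : Opens X) (hi : W ≤ U i) (hj : W ≤ U j),
      G.comp (G.res (le2 U hi hj) (g i j)) (G.res (le1 U hj) (ψ j)) =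
        G.comp (G.res (le1 U hi) (ψ i)) (G.res (le2 U hi hj) (g' i j)) := by
  choose c hc using fun J : Fin 2 → ι => exists_moves hloc
    (G.comp (G.res (le1 U (cap_le U J 0)) (φ (J 0)))
      (G.res (le2 U (cap_le U J 0) (cap_le U J 1)) (g' (J 0) (J 1))))
    (G.comp (G.res (le2 U (cap_le U J 0) (cap_le U J 1)) (g (J 0) (J 1))) (G.res (le1 U (cap_le U J 1)) (φ (J 1))))
  have hspec : ∀ (i j : ι) (W : Opens X) (hW : G.good W) (hi : W ≤ U i) (hj : W ≤ U j),
      G.comp (G.res (le2 U hi hj) (g i j)) (G.res (le1 U hj) (φ j)) =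
        G.act hW (at2 U F.obj c hi hj) (G.comp (G.res (le1 U hi) (φ i)) (G.res (le2 U hi hj) (g' i j))) := by
    intro i j W hW hi hj
    have h := hc ![i, j] W (le2 U hi hj) hW
    rw [G.res_comp, G.res_comp, G.res_res, G.res_res, G.res_res, G.res_res] at h
    exact h.symm
  have hz : dd U F.obj 1 c = 0 := by
    funext J
    have eJ : J = ![J 0, J 1, J 2] := funext fun a => by fin_cases a <;> rfl
    rw [eJ]
    generalize J 0 = i, J 1 = j, J 2 = k
    refine sheaf_ext hloc fun W hW' hW => ?_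
    have hi : W ≤ U i := hW'.trans (cap_le U ![i, j, k] 0)
    have hj : W ≤ U j := hW'.trans (cap_le U ![i, j, k] 1)
    have hk : W ≤ U k := hW'.trans (cap_le U ![i, j, k] 2)
    have h := congrArg (fun x => G.comp x (G.res (le1 U hk) (φ k))) (hg i j k _ hi hj hk)
    simp only [G.assoc] at h
    rw [hspec j k _ hW hj hk, G.comp_act, ← G.assoc, hspec i j _ hW hi hj, G.act_comp, G.act_act, G.assoc,
      hg' i j k _ hi hj hk, hspec i k _ hW hi hk] at h
    have h3 := G.act_inj hW _ h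
    have h4 : rs F.obj hW' (dd U F.obj 1 c ![i, j, k]) =
        at2 U F.obj c hj hk - at2 U F.obj c hi hk + at2 U F.obj c hi hj := at3_dd U F.obj c hi hj hk
    rw [h4, show (0 : Cochain U F.obj 2) ![i, j, k] = 0 from rfl, map_zero, sub_add_eq_add_sub, h3, sub_self]
  obtain ⟨b, hb⟩ := h1 c hz
  refine ⟨fun i => G.act (hgood i) (-b ![i]) (φ i), fun i j W hi hj => hloc.ext _ _ fun x hx => ?_⟩
  obtain ⟨T, hxT, hT, hTg⟩ := hloc.basis W x hx
  refine ⟨T, hT, hxT, ?_⟩
  rw [G.res_comp, G.res_comp, G.res_res, G.res_res, G.res_res, G.res_res, G.res_act _ _ hTg, G.res_act _ _ hTg,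
    G.comp_act, G.act_comp, hspec i j T hTg (hT.trans hi) (hT.trans hj), G.act_act]
  refine congrArg (fun p => G.act hTg p _) ?_
  rw [map_neg, map_neg, ← hb, at2_dd]
  show -at1 U F.obj b (hT.trans hj) + (at1 U F.obj b (hT.trans hj) - at1 U F.obj b (hT.trans hi)) =
    -at1 U F.obj b (hT.trans hi)
  abel

end Band

end SmDefLib
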