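import Groth.Agent.SmDefLib.Exist
import Groth.Agent.SmDefLib.Der
import Groth.Agent.SmDefLib.GerbeLocal

/-!
# Morphisms of lifts are local
-/

set_option autoImplicit false
set_option linter.unusedSectionVars false
set_option backward.isDefEq.respectTransparency false
set_option maxHeartbeats 1000000

universe u

open CategoryTheory CategoryTheory.Limits AlgebraicGeometry Opposite TopologicalSpace

noncomputable section

namespace SmDefLib

variable {X₀ S : Scheme.{u}} {g : X₀ ⟶ S}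

/-- The inverse of a bijective morphism. -/
def Hom.inv {a b : Lift g} {W : X₀.Opens} (φ : Hom a b W) [IsIso φ.φ] : Hom b a W where
  φ := CategoryTheory.inv φ.φ
  over_f := by rw [IsIso.inv_comp_eq, φ.over_f]
  over_j hb ha := by rw [IsIso.comp_inv_eq, φ.over_j ha hb]

theorem Hom.comp_inv {a b : Lift g} {W : X₀.Opens} (φ : Hom a b W) [IsIso φ.φ] (hb : W ≤ b.dom) :
    φ.comp φ.inv hb = Hom.id a W := Hom.ext (IsIso.hom_inv_id φ.φ)

theorem Hom.inv_comp {a b : Lift g} {W : X₀.Opens} (φ : Hom a b W) [IsIso φ.φ] (ha : W ≤ a.dom) :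
    φ.inv.comp φ ha = Hom.id b W := Hom.ext (IsIso.inv_hom_id φ.φ)

variable {a b : Lift g} {W : X₀.Opens}

theorem mem_up_of_mem (a : Lift g) {W : X₀.Opens} (hW : W ≤ a.dom) (q : a.X) (hq : q ∈ a.up W) :
    ∃ x ∈ W, ∀ W' : X₀.Opens, x ∈ W' → q ∈ a.up W' := by
  obtain ⟨z, hz, rfl⟩ := a.mem_up.1 hq
  exact ⟨_, hz, fun W' h => a.mem_up.2 ⟨z, h, rfl⟩⟩

/-- A cover of a piece of a lift. -/
def upCover (a : Lift g) (ha : W ≤ a.dom) {κ : Type u} (U : κ → X₀.Opens) (hle : ∀ k, U k ≤ W)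
    (hcov : ∀ x ∈ W, ∃ k, x ∈ U k) : (a.up W : Scheme.{u}).OpenCover :=
  Scheme.Cover.mkOfCovers κ (fun k => (a.up (U k) : Scheme.{u})) (fun k => a.X.homOfLE (a.up_mono (hle k)))
    fun q => by
      obtain ⟨x, hx, hx'⟩ := mem_up_of_mem a ha q.1 q.2
      obtain ⟨k, hk⟩ := hcov x hx
      exact ⟨k, ⟨q.1, hx' _ hk⟩, Subtype.ext (Scheme.homOfLE_apply (a.up_mono (hle k)) ⟨q.1, hx' _ hk⟩)⟩

theorem Hom.ext_cover (ha : W ≤ a.dom) (hb : W ≤ b.dom) {κ : Type u} (U : κ → X₀.Opens) (hle : ∀ k, U k ≤ W)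
    (hcov : ∀ x ∈ W, ∃ k, x ∈ U k) {φ ψ : Hom a b W}
    (h : ∀ k, φ.res ha hb (hle k) = ψ.res ha hb (hle k)) : φ = ψ := by
  refine Hom.ext ((upCover a ha U hle hcov).hom_ext _ _ fun k => ?_)
  show a.X.homOfLE (a.up_mono (hle k)) ≫ φ.φ = a.X.homOfLE (a.up_mono (hle k)) ≫ ψ.φ
  rw [← Hom.res_φ φ ha hb (hle k), h k, Hom.res_φ]

theorem Hom.ext_local (ha : W ≤ a.dom) (hb : W ≤ b.dom) {φ ψ : Hom a b W}
    (h : ∀ x ∈ W, ∃ (W' : X₀.Opens) (h' : W' ≤ W), x ∈ W' ∧ φ.res ha hb h' = ψ.res ha hb h') : φ = ψ := by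
  choose V hle hxV hV using fun x : W => h x.1 x.2
  exact Hom.ext_cover ha hb V hle (fun x hx => ⟨⟨x, hx⟩, hxV ⟨x, hx⟩⟩) hV

/-- Compatible morphisms glue. -/
theorem Hom.exists_glue (ha : W ≤ a.dom) (hb : W ≤ b.dom) {κ : Type u} (U : κ → X₀.Opens) (hle : ∀ k, U k ≤ W)
    (hcov : ∀ x ∈ W, ∃ k, x ∈ U k) (ψ : ∀ k, Hom a b (U k))
    (h : ∀ k l, (ψ k).res ((hle k).trans ha) ((hle k).trans hb) (inf_le_left : U k ⊓ U l ≤ U k) =
      (ψ l).res ((hle l).trans ha) ((hle l).trans hb) (inf_le_right : U k ⊓ U l ≤ U l)) :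
    ∃ φ : Hom a b W, ∀ k, φ.res ha hb (hle k) = ψ k := by
  let F : ∀ k, (a.up (U k) : Scheme.{u}) ⟶ b.up W := fun k => (ψ k).φ ≫ b.X.homOfLE (b.up_mono (hle k))
  have hF : ∀ k l, pullback.fst (a.X.homOfLE (a.up_mono (hle k))) (a.X.homOfLE (a.up_mono (hle l))) ≫ F k =
      pullback.snd _ _ ≫ F l := fun k l => by
    rw [← cancel_epi (isPullback_opens_inf_le (a.up_mono (hle k)) (a.up_mono (hle l))).isoPullback.hom,
      IsPullback.isoPullback_hom_fst_assoc, IsPullback.isoPullback_hom_snd_assoc]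
    have hup : a.up (U k) ⊓ a.up (U l) ≤ a.up (U k ⊓ U l) := (a.up_inf _ _).ge
    have e := congrArg (fun φ : Hom a b (U k ⊓ U l) => a.X.homOfLE hup ≫ φ.φ ≫
      b.X.homOfLE (b.up_mono (inf_le_left.trans (hle k)))) (h k l)
    have ek : ((ψ k).res ((hle k).trans ha) ((hle k).trans hb) (inf_le_left : U k ⊓ U l ≤ U k)).φ ≫
        b.X.homOfLE (b.up_mono (inf_le_left.trans (hle k))) = a.X.homOfLE (a.up_mono inf_le_left) ≫ F k := by
      rw [← Scheme.homOfLE_homOfLE b.X (b.up_mono inf_le_left) (b.up_mono (hle k)), ← Category.assoc, Hom.res_φ,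
        Category.assoc]
    have el : ((ψ l).res ((hle l).trans ha) ((hle l).trans hb) (inf_le_right : U k ⊓ U l ≤ U l)).φ ≫
        b.X.homOfLE (b.up_mono (inf_le_left.trans (hle k))) = a.X.homOfLE (a.up_mono inf_le_right) ≫ F l := by
      rw [← Scheme.homOfLE_homOfLE b.X (b.up_mono inf_le_right) (b.up_mono (hle l)), ← Category.assoc, Hom.res_φ,
        Category.assoc]
    rw [ek, el, Scheme.homOfLE_homOfLE_assoc, Scheme.homOfLE_homOfLE_assoc] at e
    exact e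
  let φ := Scheme.Cover.glueMorphisms (upCover a ha U hle hcov) F hF
  have hφ : ∀ k, a.X.homOfLE (a.up_mono (hle k)) ≫ φ = F k := fun k =>
    Scheme.Cover.ι_glueMorphisms (upCover a ha U hle hcov) F hF k
  have hf : φ ≫ (b.up W).ι ≫ b.f = (a.up W).ι ≫ a.f := by
    refine (upCover a ha U hle hcov).hom_ext _ _ fun k => ?_
    show a.X.homOfLE (a.up_mono (hle k)) ≫ φ ≫ _ = a.X.homOfLE (a.up_mono (hle k)) ≫ _
    rw [← Category.assoc, hφ, Category.assoc, Scheme.homOfLE_ι_assoc, (ψ k).over_f, Scheme.homOfLE_ι_assoc]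
  have hj : a.ju ha ≫ φ = b.ju hb := by
    refine Scheme.hom_ext_of_forall _ _ fun z => ?_
    obtain ⟨k, hk⟩ := hcov z.1 z.2
    refine ⟨W.ι ⁻¹ᵁ U k, hk, ?_⟩
    let t : ((W.ι ⁻¹ᵁ U k : (W : Scheme.{u}).Opens) : Scheme.{u}) ⟶ U k :=
      IsOpenImmersion.lift (U k).ι ((W.ι ⁻¹ᵁ U k).ι ≫ W.ι) (by
        rw [Scheme.Opens.range_ι]
        rintro _ ⟨w, rfl⟩
        exact w.2)
    have ht : t ≫ X₀.homOfLE (hle k) = (W.ι ⁻¹ᵁ U k).ι := by
      rw [← cancel_mono W.ι, Category.assoc, Scheme.homOfLE_ι, IsOpenImmersion.lift_fac]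
    rw [← ht, Category.assoc, Category.assoc, ← Category.assoc (X₀.homOfLE (hle k)), a.homOfLE_ju ha (hle k),
      Category.assoc, hφ, b.homOfLE_ju hb (hle k), ← Category.assoc (a.ju _) (ψ k).φ,
      (ψ k).over_j ((hle k).trans ha) ((hle k).trans hb)]
  refine ⟨⟨φ, hf, fun _ _ => hj⟩, fun k => Hom.ext ((cancel_mono (b.X.homOfLE (b.up_mono (hle k)))).1 ?_)⟩
  rw [Hom.res_φ]
  exact hφ k

variable {I : S.IdealSheafData} {f₀ : X₀ ⟶ I.subscheme}

theorem exists_good_nhd (W : X₀.Opens) (x : X₀) (hx : x ∈ W) :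
    ∃ W', x ∈ W' ∧ W' ≤ W ∧ Good I f₀ W' := by
  obtain ⟨V, hVa, hxV, -⟩ := exists_isAffineOpen_mem_and_subset (X := S) (x := gOf I f₀ x) (U := ⊤) trivial
  obtain ⟨U, hUa, hxU, hle⟩ := exists_isAffineOpen_mem_and_subset (X := X₀) (x := x)
    (U := W ⊓ gOf I f₀ ⁻¹ᵁ V) ⟨hx, hxV⟩
  exact ⟨U, hxU, fun y hy => (hle hy).1, hUa, V, hVa, fun y hy => (hle hy).2⟩

/-- The sheaf of homomorphisms out of the differentials. -/
abbrev homSh (I : S.IdealSheafData) (f₀ : X₀ ⟶ I.subscheme) : QCohLib.AbSh X₀.toTopCat :=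
  (QCohLib.toAbF X₀).obj (CohCmpLib.homMod (Omega.sheaf f₀) (MK I f₀))

/-- The band of lifts with coefficients in homomorphisms out of the differentials. -/
abbrev homBand [QuasiSeparated f₀] (hI : I ^ 2 = ⊥) : Band (homSh I f₀).obj := band hI (homCoef I f₀)

/-- The band of lifts is local. -/
theorem isLocal_homBand [QuasiSeparated f₀] (hI : I ^ 2 = ⊥) : (homBand (f₀ := f₀) hI).IsLocal :=
  ⟨exists_good_nhd, fun φ ψ h => Arr.ext' (Hom.ext_local φ.ha φ.hb fun x hx => by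
    obtain ⟨W', h', hxW', e⟩ := h x hx
    exact ⟨W', h', hxW', congrArg Arr.hom e⟩)⟩

/-- A morphism of lifts which is an isomorphism near each point is an isomorphism. -/
theorem Hom.exists_inv (ha : W ≤ a.dom) (hb : W ≤ b.dom) (φ : Hom a b W) {κ : Type u} (U : κ → X₀.Opens)
    (hle : ∀ k, U k ≤ W) (hcov : ∀ x ∈ W, ∃ k, x ∈ U k) (h : ∀ k, IsIso (φ.res ha hb (hle k)).φ) :
    ∃ ψ : Hom b a W, φ.comp ψ hb = Hom.id a W ∧ ψ.comp φ ha = Hom.id b W := by
  have hres : ∀ k (W' : X₀.Opens) (h' : W' ≤ U k),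
      (φ.res ha hb (hle k)).res ((hle k).trans ha) ((hle k).trans hb) h' = φ.res ha hb (h'.trans (hle k)) :=
    fun k W' h' => Hom.res_res φ ha hb _ _
  let ψ : ∀ k, Hom b a (U k) := fun k => haveI := h k; (φ.res ha hb (hle k)).inv
  have h1 : ∀ k, (φ.res ha hb (hle k)).comp (ψ k) ((hle k).trans hb) = Hom.id a (U k) := fun k => by
    haveI := h k
    exact Hom.comp_inv _ _
  have h2 : ∀ k, (ψ k).comp (φ.res ha hb (hle k)) ((hle k).trans ha) = Hom.id b (U k) := fun k => by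
    haveI := h k
    exact Hom.inv_comp _ _
  obtain ⟨χ, hχ⟩ := Hom.exists_glue hb ha U hle hcov ψ fun k l => by
    have hk : U k ⊓ U l ≤ U k := inf_le_left
    have hl : U k ⊓ U l ≤ U l := inf_le_right
    have ek : (φ.res ha hb (hk.trans (hle k))).comp ((ψ k).res ((hle k).trans hb) ((hle k).trans ha) hk)
        ((hk.trans (hle k)).trans hb) = Hom.id a (U k ⊓ U l) := by
      rw [← hres k _ hk, ← Hom.res_comp, h1 k, Hom.res_id]
    have el : ((ψ l).res ((hle l).trans hb) ((hle l).trans ha) hl).comp (φ.res ha hb (hk.trans (hle k)))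
        ((hk.trans (hle k)).trans ha) = Hom.id b (U k ⊓ U l) := by
      rw [show φ.res ha hb (hk.trans (hle k)) = φ.res ha hb (hl.trans (hle l)) from rfl, ← hres l _ hl,
        ← Hom.res_comp, h2 l, Hom.res_id]
    have := congrArg (fun x => ((ψ l).res ((hle l).trans hb) ((hle l).trans ha) hl).comp x
      ((hk.trans (hle k)).trans ha)) ek
    rw [← Hom.comp_assoc, el] at this
    exact (Hom.ext (Category.id_comp _)).symm.trans (this.trans (Hom.ext (Category.comp_id _)))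
  refine ⟨χ, Hom.ext_cover ha ha U hle hcov fun k => ?_, Hom.ext_cover hb hb U hle hcov fun k => ?_⟩
  · rw [Hom.res_comp, hχ, Hom.res_id, h1]
  · rw [Hom.res_comp, hχ, Hom.res_id, h2]

end SmDefLib
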