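import Groth.Agent.SmDefLib.Tp
import Groth.Agent.ChevLib.Main

/-!
# Lifts of open subschemes along a thickening and their morphisms
-/

set_option autoImplicit false
set_option linter.unusedSectionVars false
set_option backward.isDefEq.respectTransparency false

universe u

open CategoryTheory AlgebraicGeometry Opposite TopologicalSpace

noncomputable section

namespace SmDefLib

variable {X₀ S : Scheme.{u}}

/-- A thickening over `S` of an open subscheme of `X₀`. -/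
structure Lift (g : X₀ ⟶ S) where
  /-- the open which is thickened -/
  dom : X₀.Opens
  /-- the thickening -/
  X : Scheme.{u}
  /-- the structure map -/
  f : X ⟶ S
  /-- the inclusion -/
  j : (dom : Scheme.{u}) ⟶ X
  [closed : IsClosedImmersion j]
  [surj : Surjective j]
  w : j ≫ f = dom.ι ≫ g

attribute [instance] Lift.closed Lift.surj

variable {g : X₀ ⟶ S} (a b c : Lift g)

namespace Lift

/-- The same space. -/
def homeo : (a.dom : Scheme.{u}) ≃ₜ a.X :=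
  a.j.isClosedEmbedding.toIsEmbedding.toHomeomorphOfSurjective a.j.surjective

theorem homeo_apply (z : (a.dom : Scheme.{u})) : a.homeo z = a.j z := rfl

/-- An open of `X₀` as an open of a lift. -/
def up (W : X₀.Opens) : a.X.Opens :=
  ⟨a.homeo '' (a.dom.ι ⁻¹ᵁ W : (a.dom : Scheme.{u}).Opens), a.homeo.isOpenMap _ (a.dom.ι ⁻¹ᵁ W).2⟩

theorem mem_up {W : X₀.Opens} {q : a.X} : q ∈ a.up W ↔ ∃ z : (a.dom : Scheme.{u}), a.dom.ι z ∈ W ∧ a.j z = q :=
  Iff.rfl

theorem preimage_up (W : X₀.Opens) : a.j ⁻¹ᵁ a.up W = a.dom.ι ⁻¹ᵁ W :=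
  Opens.ext (a.homeo.injective.preimage_image _)

theorem up_mono {W W' : X₀.Opens} (h : W ≤ W') : a.up W ≤ a.up W' :=
  Set.image_mono fun _ hz => h hz

theorem up_inf (W W' : X₀.Opens) : a.up (W ⊓ W') = a.up W ⊓ a.up W' :=
  Opens.ext (Set.image_inter a.homeo.injective)

theorem up_dom : a.up a.dom = ⊤ := by
  refine top_unique fun q _ => ?_
  obtain ⟨z, rfl⟩ := a.j.surjective q
  exact a.mem_up.2 ⟨z, z.2, rfl⟩

theorem up_le_preimage {W : X₀.Opens} {V : S.Opens} (h : W ≤ g ⁻¹ᵁ V) : a.up W ≤ a.f ⁻¹ᵁ V := by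
  rintro q hq
  obtain ⟨z, hz, rfl⟩ := a.mem_up.1 hq
  show a.f (a.j z) ∈ V
  rw [← Scheme.Hom.comp_apply, a.w]
  exact h hz

section
variable {W : X₀.Opens} (h : W ≤ a.dom)

/-- An open of `X₀` inside the lift. -/
def jj : (W : Scheme.{u}) ⟶ a.X := X₀.homOfLE h ≫ a.j

theorem jj_f : a.jj h ≫ a.f = W.ι ≫ g := by
  rw [jj, Category.assoc, a.w, Scheme.homOfLE_ι_assoc]

theorem range_jj : Set.range (a.jj h) = (a.up W : Set a.X) := by
  ext q
  constructor
  · rintro ⟨z, rfl⟩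
    refine a.mem_up.2 ⟨X₀.homOfLE h z, ?_, (Scheme.Hom.comp_apply _ _ z).symm⟩
    rw [← Scheme.Hom.comp_apply, Scheme.homOfLE_ι]
    exact z.2
  · intro hq
    obtain ⟨z, hz, rfl⟩ := a.mem_up.1 hq
    refine ⟨⟨a.dom.ι z, hz⟩, ?_⟩
    rw [jj, Scheme.Hom.comp_apply]
    congr 1
    refine a.dom.ι.injective ?_
    rw [← Scheme.Hom.comp_apply, Scheme.homOfLE_ι]
    rfl

/-- An open of `X₀` inside its thickening. -/
def ju : (W : Scheme.{u}) ⟶ (a.up W : Scheme.{u}) :=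
  IsOpenImmersion.lift (a.up W).ι (a.jj h) (by rw [a.range_jj h, Scheme.Opens.range_ι])

theorem ju_ι : a.ju h ≫ (a.up W).ι = a.jj h := IsOpenImmersion.lift_fac _ _ _

theorem ju_ι_f : a.ju h ≫ (a.up W).ι ≫ a.f = W.ι ≫ g := by
  rw [← Category.assoc, a.ju_ι h, a.jj_f h]

theorem ju_surjective : Function.Surjective (a.ju h) := fun q => by
  obtain ⟨z, hz⟩ : (a.up W).ι q ∈ Set.range (a.jj h) := by rw [a.range_jj h]; exact q.2
  refine ⟨z, (a.up W).ι.injective ?_⟩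
  rw [← Scheme.Hom.comp_apply, a.ju_ι h, hz]

instance isClosedImmersion_ju : IsClosedImmersion (a.ju h) := by
  haveI : IsPreimmersion (a.ju h ≫ (a.up W).ι) := by rw [a.ju_ι h, jj]; infer_instance
  haveI : IsPreimmersion (a.ju h) := IsPreimmersion.of_comp (a.ju h) (a.up W).ι
  refine IsClosedImmersion.of_isPreimmersion _ ?_
  rw [(a.ju_surjective h).range_eq]
  exact isClosed_univ

theorem homOfLE_ju {W' : X₀.Opens} (h' : W' ≤ W) :
    X₀.homOfLE h' ≫ a.ju h = a.ju (h'.trans h) ≫ a.X.homOfLE (a.up_mono h') := by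
  rw [← cancel_mono (a.up W).ι]
  simp only [Category.assoc, Scheme.homOfLE_ι, ju_ι, jj, Scheme.homOfLE_homOfLE_assoc]

include h in
theorem isAffineOpen_up (hW : IsAffineOpen W) : IsAffineOpen (a.up W) := by
  haveI : IsAffine (W : Scheme.{u}) := hW
  haveI : Surjective (a.ju h) := ⟨a.ju_surjective h⟩
  exact ChevLib.isAffine_of_surjective_universallyClosed (a.ju h)

/-- Reduction of sections. -/
def red : Γ(a.X, a.up W) ⟶ Γ(X₀, W) := tp (a.ju h)

theorem red_res {W' : X₀.Opens} (h' : W' ≤ W) :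
    a.red h ≫ X₀.presheaf.map (homOfLE h').op =
      a.X.presheaf.map (homOfLE (a.up_mono h')).op ≫ a.red (h'.trans h) := by
  rw [red, red, ← tp_homOfLE, ← tp_homOfLE, ← tp_comp, ← tp_comp, a.homOfLE_ju h h']

theorem red_surjective (hW : IsAffineOpen W) : Function.Surjective (a.red h) := by
  haveI : IsAffine (a.up W : Scheme.{u}) := a.isAffineOpen_up h hW
  intro z
  obtain ⟨y, hy⟩ := (a.ju h).app_surjective ⊤ (isAffineOpen_top _) (W.topIso.inv z)
  refine ⟨(a.up W).topIso.hom y, ?_⟩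
  show W.topIso.hom ((a.ju h).appTop ((a.up W).topIso.inv ((a.up W).topIso.hom y))) = z
  rw [show (a.up W).topIso.inv ((a.up W).topIso.hom y) = y from
    congr($((a.up W).topIso.hom_inv_id) y), show (a.ju h).appTop y = W.topIso.inv z from hy]
  exact congr($(W.topIso.inv_hom_id) z)

/-- Functions on the base as functions on a lift. -/
def str {V : S.Opens} (hV : W ≤ g ⁻¹ᵁ V) : Γ(S, V) ⟶ Γ(a.X, a.up W) :=
  a.f.appLE V (a.up W) (a.up_le_preimage hV)

theorem str_res {V : S.Opens} (hV : W ≤ g ⁻¹ᵁ V) {W' : X₀.Opens} (h' : W' ≤ W) :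
    a.str hV ≫ a.X.presheaf.map (homOfLE (a.up_mono h')).op = a.str (h'.trans hV) :=
  Scheme.Hom.appLE_map _ _ _

theorem str_red {V : S.Opens} (hV : W ≤ g ⁻¹ᵁ V) : a.str hV ≫ a.red h = g.appLE V W hV := by
  rw [str, red, ← tp_resLE, ← tp_comp, ← tp_resLE g hV]
  congr 1
  rw [← cancel_mono V.ι, Category.assoc, Scheme.Hom.resLE_comp_ι, Scheme.Hom.resLE_comp_ι, a.ju_ι_f h]

end

end Lift

/-- A morphism of lifts over an open of `X₀`. -/
@[ext]
structure Hom (a b : Lift g) (W : X₀.Opens) where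
  /-- the morphism -/
  φ : (a.up W : Scheme.{u}) ⟶ b.up W
  over_f : φ ≫ (b.up W).ι ≫ b.f = (a.up W).ι ≫ a.f
  over_j : ∀ (ha : W ≤ a.dom) (hb : W ≤ b.dom), a.ju ha ≫ φ = b.ju hb

namespace Hom

variable {a b c} {W : X₀.Opens}

/-- The identity. -/
@[simps]
def id (a : Lift g) (W : X₀.Opens) : Hom a a W where
  φ := 𝟙 _
  over_f := Category.id_comp _
  over_j _ _ := Category.comp_id _

/-- Composition. -/
@[simps]
def comp (φ : Hom a b W) (ψ : Hom b c W) (hb : W ≤ b.dom) : Hom a c W where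
  φ := φ.φ ≫ ψ.φ
  over_f := by rw [Category.assoc, ψ.over_f, φ.over_f]
  over_j ha hc := by rw [← Category.assoc, φ.over_j ha hb, ψ.over_j hb hc]

theorem comp_assoc {d : Lift g} (φ : Hom a b W) (ψ : Hom b c W) (χ : Hom c d W) (hb : W ≤ b.dom) (hc : W ≤ c.dom) :
    (φ.comp ψ hb).comp χ hc = φ.comp (ψ.comp χ hc) hb := Hom.ext (Category.assoc _ _ _)

theorem range_le (φ : Hom a b W) (ha : W ≤ a.dom) (hb : W ≤ b.dom) {W' : X₀.Opens} (h : W' ≤ W) :
    Set.range (a.X.homOfLE (a.up_mono h) ≫ φ.φ ≫ (b.up W).ι) ⊆ Set.range (b.up W').ι := by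
  rintro _ ⟨q, rfl⟩
  obtain ⟨z, rfl⟩ := a.ju_surjective (h.trans ha) q
  rw [← Scheme.Hom.comp_apply, ← Category.assoc, ← a.homOfLE_ju ha h, Category.assoc, ← Category.assoc (a.ju ha),
    φ.over_j ha hb, ← Category.assoc, b.homOfLE_ju hb h]
  refine ⟨(b.ju (h.trans hb)) z, ?_⟩
  rw [← Scheme.Hom.comp_apply, Category.assoc, Scheme.homOfLE_ι]

/-- Restriction. -/
def res (φ : Hom a b W) (ha : W ≤ a.dom) (hb : W ≤ b.dom) {W' : X₀.Opens} (h : W' ≤ W) : Hom a b W' where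
  φ := IsOpenImmersion.lift (b.up W').ι (a.X.homOfLE (a.up_mono h) ≫ φ.φ ≫ (b.up W).ι) (φ.range_le ha hb h)
  over_f := by
    rw [← Category.assoc, IsOpenImmersion.lift_fac, Category.assoc, Category.assoc, φ.over_f, Scheme.homOfLE_ι_assoc]
  over_j ha' hb' := by
    rw [← cancel_mono (b.up W').ι, Category.assoc, IsOpenImmersion.lift_fac]
    refine Eq.trans ?_ (show b.ju (h.trans hb) ≫ b.X.homOfLE (b.up_mono h) ≫ (b.up W).ι = _ by rw [Scheme.homOfLE_ι])
    rw [← Category.assoc, ← a.homOfLE_ju ha h, Category.assoc, ← Category.assoc (a.ju ha), φ.over_j ha hb,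
      ← Category.assoc, b.homOfLE_ju hb h, Category.assoc]

theorem res_φ (φ : Hom a b W) (ha : W ≤ a.dom) (hb : W ≤ b.dom) {W' : X₀.Opens} (h : W' ≤ W) :
    (φ.res ha hb h).φ ≫ b.X.homOfLE (b.up_mono h) = a.X.homOfLE (a.up_mono h) ≫ φ.φ := by
  rw [← cancel_mono (b.up W).ι, Category.assoc, Scheme.homOfLE_ι, res, IsOpenImmersion.lift_fac, Category.assoc]

theorem res_id (a : Lift g) (ha : W ≤ a.dom) {W' : X₀.Opens} (h : W' ≤ W) :
    (Hom.id a W).res ha ha h = Hom.id a W' := by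
  refine Hom.ext ((cancel_mono (a.X.homOfLE (a.up_mono h))).1 ?_)
  rw [res_φ, id_φ, id_φ, Category.comp_id, Category.id_comp]

theorem res_comp (φ : Hom a b W) (ψ : Hom b c W) (ha : W ≤ a.dom) (hb : W ≤ b.dom) (hc : W ≤ c.dom)
    {W' : X₀.Opens} (h : W' ≤ W) :
    (φ.comp ψ hb).res ha hc h = (φ.res ha hb h).comp (ψ.res hb hc h) (h.trans hb) := by
  refine Hom.ext ((cancel_mono (c.X.homOfLE (c.up_mono h))).1 ?_)
  rw [res_φ, comp_φ, comp_φ, Category.assoc, res_φ, ← Category.assoc, ← Category.assoc, res_φ]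

theorem res_res (φ : Hom a b W) (ha : W ≤ a.dom) (hb : W ≤ b.dom) {W' W'' : X₀.Opens} (h : W' ≤ W) (h' : W'' ≤ W') :
    (φ.res ha hb h).res (h.trans ha) (h.trans hb) h' = φ.res ha hb (h'.trans h) := by
  refine Hom.ext ((cancel_mono (b.X.homOfLE (b.up_mono (h'.trans h)))).1 ?_)
  rw [res_φ, ← Scheme.homOfLE_homOfLE b.X (b.up_mono h') (b.up_mono h), ← Category.assoc, res_φ,
    Category.assoc, res_φ, Scheme.homOfLE_homOfLE_assoc]

theorem res_self (φ : Hom a b W) (ha : W ≤ a.dom) (hb : W ≤ b.dom) (h : W ≤ W) : φ.res ha hb h = φ := by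
  refine Hom.ext ((cancel_mono (b.X.homOfLE (b.up_mono h))).1 ?_)
  rw [res_φ, Scheme.homOfLE_rfl, Scheme.homOfLE_rfl, Category.id_comp, Category.comp_id]

/-- The map on sections. -/
def ev (φ : Hom a b W) : Γ(b.X, b.up W) ⟶ Γ(a.X, a.up W) := tp φ.φ

theorem ev_id (a : Lift g) (W : X₀.Opens) : (Hom.id a W).ev = 𝟙 _ := tp_id

theorem ev_comp (φ : Hom a b W) (ψ : Hom b c W) (hb : W ≤ b.dom) : (φ.comp ψ hb).ev = ψ.ev ≫ φ.ev := tp_comp _ _

theorem ev_res (φ : Hom a b W) (ha : W ≤ a.dom) (hb : W ≤ b.dom) {W' : X₀.Opens} (h : W' ≤ W) :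
    b.X.presheaf.map (homOfLE (b.up_mono h)).op ≫ (φ.res ha hb h).ev =
      φ.ev ≫ a.X.presheaf.map (homOfLE (a.up_mono h)).op := by
  rw [ev, ev, ← tp_homOfLE, ← tp_homOfLE, ← tp_comp, ← tp_comp, res_φ]

theorem ev_red (φ : Hom a b W) (ha : W ≤ a.dom) (hb : W ≤ b.dom) : φ.ev ≫ a.red ha = b.red hb := by
  rw [ev, Lift.red, Lift.red, ← tp_comp, φ.over_j ha hb]

theorem str_ev (φ : Hom a b W) {V : S.Opens} (hV : W ≤ g ⁻¹ᵁ V) : b.str hV ≫ φ.ev = a.str hV := by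
  rw [ev, Lift.str, Lift.str, ← tp_resLE, ← tp_resLE a.f (a.up_le_preimage hV), ← tp_comp]
  congr 1
  rw [← cancel_mono V.ι, Category.assoc, Scheme.Hom.resLE_comp_ι, Scheme.Hom.resLE_comp_ι, φ.over_f]

theorem ev_injective (hb : W ≤ b.dom) (hW : IsAffineOpen W) : Function.Injective (ev (a := a) (b := b) (W := W)) :=
  fun _ _ h => Hom.ext (tp_injective (b.isAffineOpen_up hb hW) h)

theorem exists_of_ring (ha : W ≤ a.dom) (hb : W ≤ b.dom) (hW : IsAffineOpen W) {V : S.Opens} (hVa : IsAffineOpen V)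
    (hV : W ≤ g ⁻¹ᵁ V) (r : Γ(b.X, b.up W) ⟶ Γ(a.X, a.up W)) (hs : b.str hV ≫ r = a.str hV)
    (hr : r ≫ a.red ha = b.red hb) : ∃ φ : Hom a b W, φ.ev = r := by
  obtain ⟨φ, rfl⟩ := tp_surjective (a.isAffineOpen_up ha hW) (b.isAffineOpen_up hb hW) r
  refine ⟨⟨φ, ?_, fun _ _ => ?_⟩, rfl⟩
  · rw [← Scheme.Hom.resLE_comp_ι b.f (b.up_le_preimage hV), ← Scheme.Hom.resLE_comp_ι a.f (a.up_le_preimage hV),
      ← Category.assoc]
    congr 1
    refine tp_injective hVa ?_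
    rw [tp_comp, tp_resLE, tp_resLE]
    exact hs
  · refine tp_injective (b.isAffineOpen_up hb hW) ?_
    rw [tp_comp]
    exact hr

theorem isIso_of_bijective (φ : Hom a b W) (ha : W ≤ a.dom) (hb : W ≤ b.dom) (hW : IsAffineOpen W)
    (h : Function.Bijective φ.ev) : IsIso φ.φ :=
  isIso_of_tp (a.isAffineOpen_up ha hW) (b.isAffineOpen_up hb hW) _ h

end Hom

end SmDefLib
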