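import Groth.Agent.SmDefLib.Lift
import Groth.Agent.SmDefLib.Alg
import Groth.Agent.RGFlatLib.Local
import Groth.Agent.FComplLib.Thicken
import Groth.Agent.HilbObsTh.Pres

/-!
# The kernel of a flat lift is the pullback of the ideal
-/

set_option autoImplicit false
set_option linter.unusedSectionVars false
set_option backward.isDefEq.respectTransparency false
set_option maxHeartbeats 1000000

universe u

open CategoryTheory CategoryTheory.Limits AlgebraicGeometry Opposite TopologicalSpace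
open KFlatLib (pb puSecLE)
open HilbObsTh (valEquiv valEquiv_symm_smul valEquiv_symm_res res_mem)

noncomputable section

namespace SmDefLib

open scoped TensorProduct in
theorem isBaseChange_comp_equiv {R A M N P : Type u} [CommRing R] [CommRing A] [Algebra R A] [AddCommGroup M]
    [Module R M] [AddCommGroup N] [Module R N] [AddCommGroup P] [Module R P] [Module A P] [IsScalarTower R A P]
    (ψ : M →ₗ[R] P) (hψ : IsBaseChange A ψ) (e : N ≃ₗ[R] M) : IsBaseChange A (ψ.comp e.toLinearMap) :=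
  IsBaseChange.of_equiv ((LinearEquiv.baseChange R A N M e).trans hψ.equiv) fun n => by
    show hψ.equiv ((1 : A) ⊗ₜ[R] e n) = ψ (e n)
    rw [hψ.equiv_tmul, one_smul]

variable {X₀ S : Scheme.{u}} (I : S.IdealSheafData) (f₀ : X₀ ⟶ I.subscheme)

/-- The composite to the big base. -/
abbrev gOf : X₀ ⟶ S := f₀ ≫ I.subschemeι

/-- The ideal pulled back to `X₀`. -/
abbrev MK : X₀.Modules := pb (gOf I f₀) (ClSub.idealMod I)

/-- A flat lift of an open of `X₀`. -/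
structure Std (a : Lift (gOf I f₀)) : Prop where
  flat : Flat a.f
  pullback : IsPullback a.j (a.dom.ι ≫ f₀) a.f I.subschemeι

/-- An affine open of `X₀` over an affine open of `S`. -/
structure Good (W : X₀.Opens) : Prop where
  aff : IsAffineOpen W
  base : ∃ V : S.Opens, IsAffineOpen V ∧ W ≤ gOf I f₀ ⁻¹ᵁ V

/-- Sections of the ideal, pulled back. -/
def secI {V : S.affineOpens} {W : X₀.Opens} (h : W ≤ gOf I f₀ ⁻¹ᵁ V.1) : I.ideal V →+ Γ(MK I f₀, W) :=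
  (puSecLE (gOf I f₀) (ClSub.idealMod I) h).comp (valEquiv I V).symm.toAddMonoidHom

theorem secI_res {V V' : S.affineOpens} {W W' : X₀.Opens} (h : W ≤ gOf I f₀ ⁻¹ᵁ V.1)
    (h' : W' ≤ gOf I f₀ ⁻¹ᵁ V'.1) (hV : V'.1 ≤ V.1) (hW : W' ≤ W) (c : I.ideal V) :
    (MK I f₀).presheaf.map (homOfLE hW).op (secI I f₀ h c) = secI I f₀ h' ⟨_, res_mem I hV c.2⟩ := by
  show _ = puSecLE _ _ h' ((valEquiv I V').symm _)
  rw [← valEquiv_symm_res I hV c]
  show (MK I f₀).presheaf.map (homOfLE hW).op (puSecLE (gOf I f₀) (ClSub.idealMod I) h ((valEquiv I V).symm c)) = _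
  rw [KFlatLib.puSecLE_apply, KFlatLib.puSecLE_apply, HilbObsLib.puSec_res (gOf I f₀) hV,
    ← ConcreteCategory.comp_apply, ← ConcreteCategory.comp_apply, ← Functor.map_comp, ← Functor.map_comp]
  rfl

theorem secI_res_left {V : S.affineOpens} {W W' : X₀.Opens} (h : W ≤ gOf I f₀ ⁻¹ᵁ V.1) (hW : W' ≤ W) (c : I.ideal V) :
    (MK I f₀).presheaf.map (homOfLE hW).op (secI I f₀ h c) = secI I f₀ (hW.trans h) c := by
  refine (secI_res I f₀ h (hW.trans h) le_rfl hW c).trans (congrArg _ (Subtype.ext ?_))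
  show (S.presheaf.map (homOfLE le_rfl).op).hom c.1 = c.1
  rw [show (homOfLE le_rfl : V.1 ⟶ V.1).op = 𝟙 _ from rfl, CategoryTheory.Functor.map_id]
  rfl

variable {I f₀} {a b : Lift (gOf I f₀)}

theorem ι_appLE_top {X : Scheme.{u}} (U : X.Opens) (e : ⊤ ≤ U.ι ⁻¹ᵁ U) :
    U.ι.appLE U ⊤ e = U.topIso.inv := by
  simp [Scheme.Hom.appLE, ← Functor.map_comp]
  rfl

theorem Std.isPullback_ju (ha : Std I f₀ a) {W : X₀.Opens} (h : W ≤ a.dom) :
    IsPullback (a.ju h) (W.ι ≫ f₀) ((a.up W).ι ≫ a.f) I.subschemeι := by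
  have h1 : IsPullback (a.ju h) (X₀.homOfLE h) (a.up W).ι a.j := by
    refine IsOpenImmersion.isPullback _ _ _ _ (a.ju_ι h).symm ?_
    rw [Scheme.Opens.opensRange_ι, a.preimage_up, Scheme.opensRange_homOfLE]
  have := h1.paste_vert ha.pullback
  rwa [Scheme.homOfLE_ι_assoc] at this

theorem Std.ker_red (ha : Std I f₀ a) {W : X₀.Opens} (h : W ≤ a.dom) (hW : IsAffineOpen W) (V : S.affineOpens)
    (hV : W ≤ gOf I f₀ ⁻¹ᵁ V.1) : RingHom.ker (a.red h).hom = (I.ideal V).map (a.str hV).hom := by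
  have hu := a.isAffineOpen_up h hW
  haveI : IsAffine (a.up W : Scheme.{u}) := hu
  have hsq := ha.isPullback_ju h
  have e : (⊤ : (a.up W : Scheme.{u}).Opens) ≤ ((a.up W).ι ≫ a.f) ⁻¹ᵁ V.1 := fun q _ => a.up_le_preimage hV q.2
  have h2 := RGFlatLib.ideal_comap_appLE ((a.up W).ι ≫ a.f) I V.2 (isAffineOpen_top (a.up W : Scheme.{u})) e
  have hk := FComplLib.ker_of_isPullback hsq
  rw [Scheme.IdealSheafData.ker_subschemeι] at hk
  rw [← hk, Scheme.Hom.ker_apply] at h2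
  have e2 : ((a.up W).ι ≫ a.f).appLE V.1 ⊤ e = a.str hV ≫ (a.up W).topIso.inv := by
    rw [Lift.str, ← ι_appLE_top (a.up W) (by simp), Scheme.Hom.appLE_comp_appLE]
  rw [e2, CommRingCat.hom_comp, ← Ideal.map_map] at h2
  have e3 : RingHom.ker (a.red h).hom = (RingHom.ker (a.ju h).appTop.hom).comap (a.up W).topIso.inv.hom := by
    rw [RingHom.comap_ker, Lift.red, tp, CommRingCat.hom_comp, CommRingCat.hom_comp, RingHom.comp_assoc]
    exact RingHom.ker_comp_of_injective _ (ConcreteCategory.bijective_of_isIso W.topIso.hom).1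
  rw [e3, ← h2]
  exact Ideal.comap_map_of_bijective _ (ConcreteCategory.bijective_of_isIso (a.up W).topIso.inv)

theorem Std.flat_str (ha : Std I f₀ a) {W : X₀.Opens} (h : W ≤ a.dom) (hW : IsAffineOpen W) (V : S.affineOpens)
    (hV : W ≤ gOf I f₀ ⁻¹ᵁ V.1) : (a.str hV).hom.Flat :=
  HasRingHomProperty.appLE @Flat a.f ha.flat V ⟨a.up W, a.isAffineOpen_up h hW⟩ (a.up_le_preimage hV)

theorem ideal_sq (hI : I ^ 2 = ⊥) (V : S.affineOpens) : I.ideal V * I.ideal V = ⊥ := by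
  have h : (I ^ 2).ideal V = ⊥ := by rw [hI]; rfl
  rwa [Scheme.IdealSheafData.ideal_pow, Pi.pow_apply, pow_two] at h

/-- On one chart of the base, the kernel is the pullback of the ideal. -/
theorem Std.exists_kappa (ha : Std I f₀ a) (hI : I ^ 2 = ⊥) {W : X₀.Opens} (h : W ≤ a.dom) (hW : IsAffineOpen W)
    (V : S.affineOpens) (hV : W ≤ gOf I f₀ ⁻¹ᵁ V.1) :
    ∃ κ : Γ(MK I f₀, W) →+ Γ(a.X, a.up W), SqExt (a.red h).hom κ ∧
      (∀ z c, κ (a.red h z • secI I f₀ hV c) = z * a.str hV c.1) ∧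
      ∀ (N : Type u) [AddCommGroup N] (F F' : Γ(MK I f₀, W) →+ N),
        (∀ z c, F (a.red h z • secI I f₀ hV c) = F' (a.red h z • secI I f₀ hV c)) → F = F' := by
  haveI : Coh.IsQCoh (ClSub.idealMod I) := SweepSix.ConormalSpec.isQCoh_idealMod I
  letI := (a.str hV).hom.toAlgebra
  letI : Algebra Γ(S, V.1) Γ(X₀, W) := ((gOf I f₀).appLE V.1 W hV).hom.toAlgebra
  letI := Module.compHom Γ(MK I f₀, W) ((gOf I f₀).appLE V.1 W hV).hom
  haveI : IsScalarTower Γ(S, V.1) Γ(X₀, W) Γ(MK I f₀, W) := IsScalarTower.of_algebraMap_smul fun _ _ => rfl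
  haveI : Module.Flat Γ(S, V.1) Γ(a.X, a.up W) := ha.flat_str h hW V hV
  let π : Γ(a.X, a.up W) →ₐ[Γ(S, V.1)] Γ(X₀, W) :=
    { (a.red h).hom with commutes' := fun r => congr($(a.str_red h hV) r) }
  let ψ₁ : Γ(ClSub.idealMod I, V.1) →ₗ[Γ(S, V.1)] Γ(MK I f₀, W) :=
    { toFun := puSecLE (gOf I f₀) (ClSub.idealMod I) hV
      map_add' := map_add _
      map_smul' := fun r m => KFlatLib.puSecLE_smul _ _ hV r m }
  have hψ₁ : IsBaseChange Γ(X₀, W) ψ₁ :=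
    KFlatLib.isBaseChange_puSec (gOf I f₀) (ClSub.idealMod I) V.2 hW hV (fun _ => rfl) ψ₁ fun _ => rfl
  let e : I.ideal V ≃ₗ[Γ(S, V.1)] Γ(ClSub.idealMod I, V.1) :=
    AddEquiv.toLinearEquiv (valEquiv I V).symm (valEquiv_symm_smul I)
  let ψ : I.ideal V →ₗ[Γ(S, V.1)] Γ(MK I f₀, W) := ψ₁.comp e.toLinearMap
  have hψ : IsBaseChange Γ(X₀, W) ψ := isBaseChange_comp_equiv ψ₁ hψ₁ e
  have hπ : Function.Surjective π := a.red_surjective h hW
  obtain ⟨κ, hκ, hκ'⟩ := SmDefLib.exists_kappa (ideal_sq hI V) π hπ (ha.ker_red h hW V hV) ψ hψ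
  exact ⟨κ, hκ, hκ', fun N _ F F' hF => eq_of_span ψ hψ π hπ F F' hF⟩

theorem str_res_base (a : Lift (gOf I f₀)) {V V' : S.affineOpens} {W W' : X₀.Opens}
    (hV : W ≤ gOf I f₀ ⁻¹ᵁ V.1) (hV' : W' ≤ gOf I f₀ ⁻¹ᵁ V'.1) (hVV : V'.1 ≤ V.1) (hW : W' ≤ W) :
    a.str hV ≫ a.X.presheaf.map (homOfLE (a.up_mono hW)).op =
      S.presheaf.map (homOfLE hVV).op ≫ a.str hV' := by
  rw [a.str_res hV hW, Lift.str, Lift.str, Scheme.Hom.map_appLE]

/-- The kernel map is independent of the chart of the base. -/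
theorem Std.existsUnique_kappa (ha : Std I f₀ a) (hI : I ^ 2 = ⊥) {W : X₀.Opens} (h : W ≤ a.dom)
    (hW : Good I f₀ W) :
    ∃ κ : Γ(MK I f₀, W) →+ Γ(a.X, a.up W), SqExt (a.red h).hom κ ∧
      ∀ (V : S.affineOpens) (hV : W ≤ gOf I f₀ ⁻¹ᵁ V.1) (c : I.ideal V),
        κ (secI I f₀ hV c) = a.str hV c.1 := by
  obtain ⟨V₀', hV₀a, hV₀⟩ := hW.base
  let V₀ : S.affineOpens := ⟨V₀', hV₀a⟩
  change W ≤ gOf I f₀ ⁻¹ᵁ V₀.1 at hV₀
  obtain ⟨κ, hκ, hκ', hspan⟩ := ha.exists_kappa hI h hW.aff V₀ hV₀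
  refine ⟨κ, hκ, fun V hV c => ?_⟩
  have hloc : ∀ q : a.up W, ∃ (W' : X₀.Opens) (hW' : W' ≤ W), q.1 ∈ a.up W' ∧
      a.X.presheaf.map (homOfLE (a.up_mono hW')).op (κ (secI I f₀ hV c)) =
        a.X.presheaf.map (homOfLE (a.up_mono hW')).op (a.str hV c.1) := by
    intro q
    obtain ⟨z, hz⟩ := a.ju_surjective h q
    obtain ⟨V₁', hV₁a, hzV₁, hle⟩ := exists_isAffineOpen_mem_and_subset (X := S) (x := gOf I f₀ z.1)
      (U := V₀.1 ⊓ V.1) ⟨hV₀ z.2, hV z.2⟩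
    obtain ⟨W', hW'a, hzW', hW'le⟩ := exists_isAffineOpen_mem_and_subset (X := X₀) (x := z.1)
      (U := W ⊓ gOf I f₀ ⁻¹ᵁ V₁') ⟨z.2, hzV₁⟩
    let V₁ : S.affineOpens := ⟨V₁', hV₁a⟩
    have hWW : W' ≤ W := fun y hy => (hW'le hy).1
    have hW1 : W' ≤ gOf I f₀ ⁻¹ᵁ V₁.1 := fun y hy => (hW'le hy).2
    have hl0 : V₁.1 ≤ V₀.1 := fun y hy => (hle hy).1
    have hl1 : V₁.1 ≤ V.1 := fun y hy => (hle hy).2
    refine ⟨W', hWW, ?_, ?_⟩
    · obtain ⟨w, hw, hw'⟩ : (a.up W).ι q ∈ (a.up W' : Set a.X) := by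
        refine a.mem_up.2 ⟨⟨z.1, h z.2⟩, hzW', ?_⟩
        rw [← hz, ← Scheme.Hom.comp_apply, a.ju_ι h, Lift.jj, Scheme.Hom.comp_apply]
        congr 1
        refine a.dom.ι.injective ?_
        rw [← Scheme.Hom.comp_apply, Scheme.homOfLE_ι]
        rfl
      exact ⟨w, hw, hw'⟩
    · obtain ⟨κ', hκ₁, hκ'', hspan'⟩ := ha.exists_kappa hI (hWW.trans h) hW'a V₁ hW1
      have hnat : ∀ m, a.X.presheaf.map (homOfLE (a.up_mono hWW)).op (κ m) =
          κ' ((MK I f₀).presheaf.map (homOfLE hWW).op m) := by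
        refine DFunLike.congr_fun (hspan _
          ((a.X.presheaf.map (homOfLE (a.up_mono hWW)).op).hom.toAddMonoidHom.comp κ)
          (κ'.comp ((MK I f₀).presheaf.map (homOfLE hWW).op).hom) fun z c => ?_)
        show a.X.presheaf.map _ (κ _) = κ' ((MK I f₀).presheaf.map _ _)
        rw [hκ', map_mul, Scheme.Modules.map_smul, secI_res I f₀ hV₀ hW1 hl0 hWW c]
        rw [show (X₀.presheaf.map (homOfLE hWW).op) (a.red h z) =
            a.red (hWW.trans h) (a.X.presheaf.map (homOfLE (a.up_mono hWW)).op z) from congr($(a.red_res h hWW) z),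
          hκ'']
        congr 1
        exact congr($(str_res_base a hV₀ hW1 hl0 hWW) c.1)
      rw [hnat, secI_res I f₀ hV hW1 hl1 hWW c]
      have h1 := hκ'' 1 ⟨_, res_mem I hl1 c.2⟩
      rw [map_one, one_smul, one_mul] at h1
      rw [h1]
      exact congr($(str_res_base a hV hW1 hl1 hWW) c.1).symm
  choose W' hW' hq heq using hloc
  exact TopCat.Sheaf.eq_of_locally_eq' a.X.sheaf (fun q : a.up W => a.up (W' q)) (a.up W)
    (fun q => homOfLE (a.up_mono (hW' q))) (fun q hq' => Opens.mem_iSup.2 ⟨⟨q, hq'⟩, hq ⟨q, hq'⟩⟩) _ _ heq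

/-- The kernel map of a flat lift. -/
def Std.kap (ha : Std I f₀ a) (hI : I ^ 2 = ⊥) {W : X₀.Opens} (h : W ≤ a.dom) (hW : Good I f₀ W) :
    Γ(MK I f₀, W) →+ Γ(a.X, a.up W) :=
  (ha.existsUnique_kappa hI h hW).choose

theorem Std.sqExt (ha : Std I f₀ a) (hI : I ^ 2 = ⊥) {W : X₀.Opens} (h : W ≤ a.dom) (hW : Good I f₀ W) :
    SqExt (a.red h).hom (ha.kap hI h hW) :=
  (ha.existsUnique_kappa hI h hW).choose_spec.1

theorem Std.kap_sec (ha : Std I f₀ a) (hI : I ^ 2 = ⊥) {W : X₀.Opens} (h : W ≤ a.dom) (hW : Good I f₀ W)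
    (V : S.affineOpens) (hV : W ≤ gOf I f₀ ⁻¹ᵁ V.1) (z : Γ(a.X, a.up W)) (c : I.ideal V) :
    ha.kap hI h hW (a.red h z • secI I f₀ hV c) = z * a.str hV c.1 :=
  ((ha.sqExt hI h hW).smul _ _).trans
    (congrArg (z * ·) ((ha.existsUnique_kappa hI h hW).choose_spec.2 V hV c))

/-- Maps out of the pulled back ideal are determined on the generators. -/
theorem Std.hom_ext (ha : Std I f₀ a) (hI : I ^ 2 = ⊥) {W : X₀.Opens} (h : W ≤ a.dom) (hW : Good I f₀ W)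
    {N : Type u} [AddCommGroup N] (F F' : Γ(MK I f₀, W) →+ N)
    (hF : ∀ (V : S.affineOpens) (hV : W ≤ gOf I f₀ ⁻¹ᵁ V.1) z c,
      F (a.red h z • secI I f₀ hV c) = F' (a.red h z • secI I f₀ hV c)) : F = F' := by
  obtain ⟨V, hVa, hV⟩ := hW.base
  obtain ⟨-, -, -, hspan⟩ := ha.exists_kappa hI h hW.aff ⟨V, hVa⟩ hV
  exact hspan N F F' (hF ⟨V, hVa⟩ hV)

theorem Std.kap_res (ha : Std I f₀ a) (hI : I ^ 2 = ⊥) {W W' : X₀.Opens} (h : W ≤ a.dom) (hW : Good I f₀ W)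
    (hW' : Good I f₀ W') (hWW : W' ≤ W) (m : Γ(MK I f₀, W)) :
    a.X.presheaf.map (homOfLE (a.up_mono hWW)).op (ha.kap hI h hW m) =
      ha.kap hI (hWW.trans h) hW' ((MK I f₀).presheaf.map (homOfLE hWW).op m) := by
  refine DFunLike.congr_fun (ha.hom_ext hI h hW
    ((a.X.presheaf.map (homOfLE (a.up_mono hWW)).op).hom.toAddMonoidHom.comp (ha.kap hI h hW))
    ((ha.kap hI (hWW.trans h) hW').comp ((MK I f₀).presheaf.map (homOfLE hWW).op).hom) fun V hV z c => ?_) m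
  show a.X.presheaf.map _ (ha.kap hI h hW _) = ha.kap hI _ hW' ((MK I f₀).presheaf.map _ _)
  rw [ha.kap_sec, map_mul, Scheme.Modules.map_smul, secI_res_left,
    show (X₀.presheaf.map (homOfLE hWW).op) (a.red h z) =
      a.red (hWW.trans h) (a.X.presheaf.map (homOfLE (a.up_mono hWW)).op z) from congr($(a.red_res h hWW) z),
    ha.kap_sec]
  congr 1
  exact congr($(a.str_res hV hWW) c.1)

theorem Hom.ev_kap {W : X₀.Opens} (φ : Hom a b W) (ha : Std I f₀ a) (hb : Std I f₀ b) (hI : I ^ 2 = ⊥)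
    (hWa : W ≤ a.dom) (hWb : W ≤ b.dom) (hW : Good I f₀ W) (m : Γ(MK I f₀, W)) :
    φ.ev (hb.kap hI hWb hW m) = ha.kap hI hWa hW m := by
  refine DFunLike.congr_fun (hb.hom_ext hI hWb hW (φ.ev.hom.toAddMonoidHom.comp (hb.kap hI hWb hW))
    (ha.kap hI hWa hW) fun V hV z c => ?_) m
  show φ.ev (hb.kap hI hWb hW _) = ha.kap hI hWa hW _
  rw [hb.kap_sec, map_mul, show φ.ev (b.str hV c.1) = a.str hV c.1 from congr($(φ.str_ev hV) c.1),
    ← show a.red hWa (φ.ev z) = b.red hWb z from congr($(φ.ev_red hWa hWb) z), ha.kap_sec]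

theorem Hom.isIso {W : X₀.Opens} (φ : Hom a b W) (ha : Std I f₀ a) (hb : Std I f₀ b) (hI : I ^ 2 = ⊥)
    (hWa : W ≤ a.dom) (hWb : W ≤ b.dom) (hW : Good I f₀ W) : IsIso φ.φ :=
  φ.isIso_of_bijective hWa hWb hW.aff (bijective_of_hom (ha.sqExt hI hWa hW) (hb.sqExt hI hWb hW) φ.ev.hom
    (fun z => congr($(φ.ev_red hWa hWb) z)) (φ.ev_kap ha hb hI hWa hWb hW))

end SmDefLib
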