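import Groth.Agent.SmDefLib.Exist
import Groth.Agent.SmDefLib.DerG

/-!
# Ideals annihilated by the ideal of a smaller thickening
-/

set_option autoImplicit false
set_option linter.unusedSectionVars false
set_option linter.style.haveILetI false
set_option backward.isDefEq.respectTransparency false
set_option maxHeartbeats 1000000

universe u

open CategoryTheory CategoryTheory.Limits AlgebraicGeometry Opposite TopologicalSpace
open CohCmpLib (homMod)

noncomputable section

namespace SmDefLib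

variable {X₀ Y S K : Scheme.{u}} [IsAffine S] [IsAffine K] {I : S.IdealSheafData} {n : ℕ}

/-- The whole affine base. -/
abbrev topAff (S : Scheme.{u}) [IsAffine S] : S.affineOpens := ⟨⊤, isAffineOpen_top S⟩

/-- The ideal is free over a smaller thickening. -/
structure Thin (I : S.IdealSheafData) (κ : K ⟶ S) (b : Fin n → I.ideal (topAff S)) : Prop where
  span : ∀ z : I.ideal (topAff S), ∃ r : Fin n → Γ(S, ⊤), z = ∑ i, r i • b i
  indep : ∀ r : Fin n → Γ(S, ⊤), ∑ i, r i • b i = 0 → ∀ i, r i ∈ RingHom.ker κ.appTop.hom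
  ann : ∀ r ∈ RingHom.ker κ.appTop.hom, ∀ z : I.ideal (topAff S), r * z.1 = 0

variable {f : Y ⟶ I.subscheme} {κ : K ⟶ S} {b : Fin n → I.ideal (topAff S)}
  {c : X₀ ⟶ Y} {f₀ : X₀ ⟶ K}

/-- Functions on an open of the base. -/
abbrev bas (f : Y ⟶ I.subscheme) (W : Y.Opens) : Γ(S, ⊤) ⟶ Γ(Y, W) := (gOf I f).appLE ⊤ W le_top

variable (f b) in
/-- The generators of the pulled back ideal. -/
def Phi (W : Y.Opens) : (Fin n → Γ(Y, W)) →+ Γ(MK I f, W) :=
  AddMonoidHom.mk' (fun z => ∑ i, z i • secI I f (V := topAff S) (W := W) le_top (b i)) fun z z' => by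
    simp only [Pi.add_apply, add_smul, Finset.sum_add_distrib]

theorem Phi_apply (W : Y.Opens) (z : Fin n → Γ(Y, W)) :
    Phi f b W z = ∑ i, z i • secI I f (V := topAff S) (W := W) le_top (b i) := rfl

theorem Phi_smul (W : Y.Opens) (a : Γ(Y, W)) (z : Fin n → Γ(Y, W)) : Phi f b W (a • z) = a • Phi f b W z := by
  simp only [Phi_apply, Finset.smul_sum, Pi.smul_apply, smul_eq_mul, mul_smul]

theorem Phi_res {W W' : Y.Opens} (h : W' ≤ W) (z : Fin n → Γ(Y, W)) :
    (MK I f).presheaf.map (homOfLE h).op (Phi f b W z) =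
      Phi f b W' fun i => Y.presheaf.map (homOfLE h).op (z i) := by
  simp only [Phi_apply, map_sum, Scheme.Modules.map_smul]
  exact Finset.sum_congr rfl fun x _ => congrArg (_ • ·) (secI_res_left I f le_top h (b x))

theorem secI_smul (W : Y.Opens) (r : Γ(S, ⊤)) (z : I.ideal (topAff S)) :
    secI I f (W := W) le_top (r • z) = bas f W r • secI I f (W := W) (V := topAff S) le_top z := by
  show KFlatLib.puSecLE _ _ _ ((HilbObsTh.valEquiv I (topAff S)).symm (r • z)) = _
  rw [HilbObsTh.valEquiv_symm_smul, KFlatLib.puSecLE_smul]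
  rfl

theorem isBaseChange_secI {W : Y.Opens} (hW : IsAffineOpen W) :
    letI : Algebra Γ(S, ⊤) Γ(Y, W) := (bas f W).hom.toAlgebra
    letI := Module.compHom Γ(MK I f, W) (bas f W).hom
    haveI : IsScalarTower Γ(S, ⊤) Γ(Y, W) Γ(MK I f, W) := IsScalarTower.of_algebraMap_smul fun _ _ => rfl
    ∃ ψ : I.ideal (topAff S) →ₗ[Γ(S, ⊤)] Γ(MK I f, W), IsBaseChange Γ(Y, W) ψ ∧
      ∀ z, ψ z = secI I f (V := topAff S) le_top z := by
  haveI : Coh.IsQCoh (ClSub.idealMod I) := SweepSix.ConormalSpec.isQCoh_idealMod I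
  letI : Algebra Γ(S, ⊤) Γ(Y, W) := (bas f W).hom.toAlgebra
  letI := Module.compHom Γ(MK I f, W) (bas f W).hom
  haveI : IsScalarTower Γ(S, ⊤) Γ(Y, W) Γ(MK I f, W) := IsScalarTower.of_algebraMap_smul fun _ _ => rfl
  have hV : W ≤ gOf I f ⁻¹ᵁ (topAff S).1 := le_top
  let ψ₁ : Γ(ClSub.idealMod I, (topAff S).1) →ₗ[Γ(S, ⊤)] Γ(MK I f, W) :=
    { toFun := KFlatLib.puSecLE (gOf I f) (ClSub.idealMod I) hV
      map_add' := map_add _
      map_smul' := fun r m => KFlatLib.puSecLE_smul _ _ hV r m }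
  have hψ₁ : IsBaseChange Γ(Y, W) ψ₁ :=
    KFlatLib.isBaseChange_puSec (gOf I f) (ClSub.idealMod I) (isAffineOpen_top S) hW hV (fun _ => rfl) ψ₁
      fun _ => rfl
  let e : I.ideal (topAff S) ≃ₗ[Γ(S, ⊤)] Γ(ClSub.idealMod I, (topAff S).1) :=
    AddEquiv.toLinearEquiv (HilbObsTh.valEquiv I (topAff S)).symm (fun r a => HilbObsTh.valEquiv_symm_smul I (U := topAff S) r a)
  exact ⟨ψ₁.comp e.toLinearMap, isBaseChange_comp_equiv ψ₁ hψ₁ e, fun z => rfl⟩

variable (H : Thin I κ b) (sq : IsPullback c f₀ (gOf I f) κ)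

include H in
theorem Phi_surjective {W : Y.Opens} (hW : IsAffineOpen W) : Function.Surjective (Phi f b W) := by
  letI : Algebra Γ(S, ⊤) Γ(Y, W) := (bas f W).hom.toAlgebra
  letI := Module.compHom Γ(MK I f, W) (bas f W).hom
  haveI : IsScalarTower Γ(S, ⊤) Γ(Y, W) Γ(MK I f, W) := IsScalarTower.of_algebraMap_smul fun _ _ => rfl
  obtain ⟨ψ, hψ, hψz⟩ := isBaseChange_secI (f := f) hW
  intro m
  refine hψ.inductionOn m (fun m => ∃ z, Phi f b W z = m) ⟨0, map_zero _⟩ (fun z => ?_)
    (fun a x ⟨zx, hx⟩ => ⟨a • zx, by rw [Phi_smul, hx]⟩)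
    fun x y ⟨zx, hx⟩ ⟨zy, hy⟩ => ⟨zx + zy, by rw [map_add, hx, hy]⟩
  obtain ⟨r, hr⟩ := H.span z
  refine ⟨fun i => bas f W (r i), ?_⟩
  rw [Phi_apply]
  rw [hψz, hr, map_sum]
  exact Finset.sum_congr rfl fun x _ => (secI_smul W (r x) (b x)).symm

variable [IsClosedImmersion κ]

include sq in
theorem isClosedImmersion_c : IsClosedImmersion c := MorphismProperty.of_isPullback sq.flip ‹_›

include sq in
theorem app_c_surjective {W : Y.Opens} (hW : IsAffineOpen W) : Function.Surjective (c.app W) :=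
  haveI := isClosedImmersion_c sq
  c.app_surjective W hW

include sq in
theorem app_c_bas (W : Y.Opens) (r : Γ(S, ⊤)) :
    c.app W (bas f W r) = f₀.appLE ⊤ (c ⁻¹ᵁ W) le_top (κ.appTop r) := by
  have h : bas f W ≫ c.app W = κ.appTop ≫ f₀.appLE ⊤ (c ⁻¹ᵁ W) le_top := by
    have e : ∀ {T : Scheme.{u}} {p q : X₀ ⟶ T} (_ : p = q) (h1 : c ⁻¹ᵁ W ≤ p ⁻¹ᵁ ⊤) (h2 : c ⁻¹ᵁ W ≤ q ⁻¹ᵁ ⊤),
        p.appLE ⊤ (c ⁻¹ᵁ W) h1 = q.appLE ⊤ (c ⁻¹ᵁ W) h2 := fun h _ _ => by subst h; rfl
    have h1 := Scheme.Hom.appLE_comp_appLE c (gOf I f) ⊤ W (c ⁻¹ᵁ W) le_top le_rfl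
    have h2 := Scheme.Hom.appLE_comp_appLE f₀ κ ⊤ ⊤ (c ⁻¹ᵁ W) le_top le_top
    rw [← Scheme.Hom.app_eq_appLE] at h1
    refine h1.trans ((e sq.w _ le_top).trans (h2.symm.trans ?_))
    congr 1
    exact (Scheme.Hom.app_eq_appLE (f := κ) (U := ⊤)).symm
  exact congr($h r)

include sq in
theorem ker_app_c {W : Y.Opens} (hW : IsAffineOpen W) :
    RingHom.ker (c.app W).hom = (RingHom.ker κ.appTop.hom).map (bas f W).hom := by
  haveI := isClosedImmersion_c sq
  have h1 := FComplLib.ker_of_isPullback sq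
  have h2 := RGFlatLib.ideal_comap_appLE (gOf I f) κ.ker (isAffineOpen_top S) hW (le_top : W ≤ gOf I f ⁻¹ᵁ ⊤)
  rw [← h1, Scheme.Hom.ker_apply, Scheme.Hom.ker_apply] at h2
  exact h2.symm

include H sq in
theorem Phi_eq_zero_iff {W : Y.Opens} (hW : IsAffineOpen W) (z : Fin n → Γ(Y, W)) :
    Phi f b W z = 0 ↔ ∀ i, c.app W (z i) = 0 := by
  constructor
  · intro h i
    letI : Algebra Γ(S, ⊤) Γ(Y, W) := (bas f W).hom.toAlgebra
    letI := Module.compHom Γ(MK I f, W) (bas f W).hom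
    haveI : IsScalarTower Γ(S, ⊤) Γ(Y, W) Γ(MK I f, W) := IsScalarTower.of_algebraMap_smul fun _ _ => rfl
    obtain ⟨ψ, hψ, hψz⟩ := isBaseChange_secI (f := f) hW
    let R' := Γ(X₀, c ⁻¹ᵁ W)
    letI : Algebra Γ(Y, W) R' := (c.app W).hom.toAlgebra
    letI : Module Γ(S, ⊤) R' := Module.compHom R' ((c.app W).hom.comp (bas f W).hom)
    haveI : IsScalarTower Γ(S, ⊤) Γ(Y, W) R' := IsScalarTower.of_algebraMap_smul fun _ _ => rfl
    choose r hr using H.span
    have huniq : ∀ (u v : Fin n → Γ(S, ⊤)), ∑ k, u k • b k = ∑ k, v k • b k → ∀ k,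
        c.app W (bas f W (u k)) = c.app W (bas f W (v k)) := fun u v e k => by
      have := H.indep (u - v) (by simp only [Pi.sub_apply, sub_smul, Finset.sum_sub_distrib, e, sub_self]) k
      rw [RingHom.mem_ker, Pi.sub_apply, map_sub, sub_eq_zero] at this
      rw [app_c_bas sq, app_c_bas sq]
      exact congrArg _ this
    let φ : I.ideal (topAff S) →ₗ[Γ(S, ⊤)] R' :=
      { toFun := fun w => c.app W (bas f W (r w i))
        map_add' := fun x y => by
          rw [← map_add, ← map_add]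
          refine huniq (r (x + y)) (fun k => r x k + r y k) ?_ i
          rw [← hr (x + y)]
          simp only [add_smul, Finset.sum_add_distrib, ← hr]
        map_smul' := fun a x => by
          show _ = c.app W (bas f W a) * c.app W (bas f W (r x i))
          rw [← map_mul, ← map_mul]
          refine huniq (r (a • x)) (fun k => a * r x k) ?_ i
          rw [← hr (a • x)]
          simp only [mul_smul, ← Finset.smul_sum, ← hr] }
    let L : Γ(MK I f, W) →ₗ[Γ(Y, W)] R' := hψ.lift φ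
    have hL : ∀ k, L (z k • secI I f (V := topAff S) le_top (b k)) =
        c.app W (z k) * c.app W (bas f W (r (b k) i)) := fun k => by
      rw [← hψz, map_smul, hψ.lift_eq]
      rfl
    classical
    have hd : ∀ k, c.app W (bas f W (r (b k) i)) = if k = i then 1 else 0 := fun k => by
      refine (huniq (r (b k)) (Pi.single k 1) ?_ i).trans ?_
      · rw [← hr (b k), Finset.sum_eq_single k]
        · simp
        · intro x _ hx
          simp [Pi.single_eq_of_ne hx]
        · simp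
      · split_ifs with e
        · subst e; simp
        · simp [Pi.single_eq_of_ne (Ne.symm e)]
    have h0 := congrArg L h
    rw [Phi_apply, map_sum, map_zero] at h0
    rw [← h0, Finset.sum_congr rfl fun k _ => hL k]
    simp only [hd, mul_ite, mul_one, mul_zero, Finset.sum_ite_eq', Finset.mem_univ, if_true]
  · intro h
    rw [Phi_apply]
    refine Finset.sum_eq_zero fun i _ => ?_
    have hi : z i ∈ (RingHom.ker κ.appTop.hom).map (bas f W).hom := by rw [← ker_app_c sq hW]; exact h i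
    generalize z i = a at hi
    induction hi using Submodule.span_induction with
    | mem x hx =>
      obtain ⟨r, hr, rfl⟩ := hx
      rw [← secI_smul, show r • b i = 0 from Subtype.ext (H.ann r hr (b i)), map_zero]
    | zero => exact zero_smul _ _
    | add x y _ _ hx hy => rw [add_smul, hx, hy, add_zero]
    | smul a x _ hx => rw [smul_eq_mul, mul_smul, hx, smul_zero]

include H sq in
theorem Phi_congr {W : Y.Opens} (hW : IsAffineOpen W) {z z' : Fin n → Γ(Y, W)}
    (h : ∀ i, c.app W (z i) = c.app W (z' i)) : Phi f b W z = Phi f b W z' := by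
  rw [← sub_eq_zero, ← map_sub, Phi_eq_zero_iff H sq hW]
  intro i
  rw [Pi.sub_apply, map_sub, h i, sub_self]

end SmDefLib
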