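import Groth.Agent.SmDefLib.Thin
import Groth.Agent.SmDefLib.Van
import Groth.Agent.CohBCLib.BC
import Groth.Agent.QCohLib.QCoh

/-!
# Derivations of a thickening as tuples of derivations of the smaller scheme
-/

set_option autoImplicit false
set_option linter.unusedSectionVars false
set_option linter.style.haveILetI false
set_option backward.isDefEq.respectTransparency false
set_option maxHeartbeats 1000000

universe u

open CategoryTheory CategoryTheory.Limits AlgebraicGeometry Opposite TopologicalSpace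
open CohCmpLib (homMod)
open CechLib (Cochain cap dd dd_apply rs cap_le cap_comp_le le_cap_iff rs_rs)

noncomputable section

namespace SmDefLib

section Pow

variable {X₀ Y : TopCat.{u}}

/-- Tuples of sections over preimages. -/
def powPre (c : X₀ ⟶ Y) (G : (Opens X₀)ᵒᵖ ⥤ AddCommGrpCat.{u}) (n : ℕ) : (Opens Y)ᵒᵖ ⥤ AddCommGrpCat.{u} where
  obj W := AddCommGrpCat.of (Fin n → G.obj (op ((Opens.map c).obj W.unop)))
  map h := AddCommGrpCat.ofHom
    (AddMonoidHom.mk' (fun p i => G.map ((Opens.map c).map h.unop).op (p i))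
      fun p q => funext fun i => map_add (G.map ((Opens.map c).map h.unop).op).hom (p i) (q i))
  map_id W := by
    refine AddCommGrpCat.hom_ext (AddMonoidHom.ext fun p => funext fun i => ?_)
    show G.map _ (p i) = p i
    rw [show ((Opens.map c).map (𝟙 W : W ⟶ W).unop).op = 𝟙 _ from rfl, G.map_id]
    rfl
  map_comp h h' := by
    refine AddCommGrpCat.hom_ext (AddMonoidHom.ext fun p => funext fun i => ?_)
    show G.map _ (p i) = G.map _ (G.map _ (p i))
    rw [← ConcreteCategory.comp_apply, ← G.map_comp]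
    rfl

theorem rs_powPre (c : X₀ ⟶ Y) (G : (Opens X₀)ᵒᵖ ⥤ AddCommGrpCat.{u}) (n : ℕ) {W W' : Opens Y} (h : W' ≤ W)
    (p : (powPre c G n).obj (op W)) (i : Fin n) :
    rs (powPre c G n) h p i = rs G ((Opens.map c).map (homOfLE h)).le (p i) := rfl

theorem cap_preimage (c : X₀ ⟶ Y) {ι : Type u} (U : ι → Opens Y) {m : ℕ} (J : Fin m → ι) :
    cap (fun i => (Opens.map c).obj (U i)) J = (Opens.map c).obj (cap U J) := by
  rw [CechLib.cap, CechLib.cap, ← Finset.inf_univ_eq_iInf, ← Finset.inf_univ_eq_iInf]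
  ext x
  simp [Opens.coe_finset_inf]

/-- Tuples of cochains. -/
theorem exists_of_cocycle_pow (c : X₀ ⟶ Y) (G : (Opens X₀)ᵒᵖ ⥤ AddCommGrpCat.{u}) (n : ℕ) {ι : Type u}
    (U : ι → Opens Y) (m : ℕ)
    (h : ∀ a : Cochain (fun i => (Opens.map c).obj (U i)) G (m + 1), dd _ G (m + 1) a = 0 →
      ∃ b, dd _ G m b = a)
    (a : Cochain U (powPre c G n) (m + 1)) (ha : dd U (powPre c G n) (m + 1) a = 0) :
    ∃ b, dd U (powPre c G n) m b = a := by
  let U' : ι → Opens X₀ := fun i => (Opens.map c).obj (U i)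
  have hle : ∀ {r : ℕ} (J : Fin r → ι), cap U' J ≤ (Opens.map c).obj (cap U J) := fun J => (cap_preimage c U J).le
  have hge : ∀ {r : ℕ} (J : Fin r → ι), (Opens.map c).obj (cap U J) ≤ cap U' J := fun J => (cap_preimage c U J).ge
  have key : ∀ (r : ℕ) (x : Cochain U (powPre c G n) r) (i : Fin n) (J : Fin (r + 2) → ι),
      dd U' G r (fun K => rs G (hle K) (x K i)) J = rs G (hle J) (dd U (powPre c G n) r x J i) := by
    intro r x i J
    rw [dd_apply, dd_apply, Finset.sum_apply, map_sum]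
    refine Finset.sum_congr rfl fun k _ => ?_
    rw [Pi.smul_apply, map_zsmul, rs_powPre, rs_rs, rs_rs]
  have h' : ∀ i, ∃ b, dd U' G m b = fun K => rs G (hle K) (a K i) := fun i => h _ (funext fun J => by
    rw [key, ha]
    exact map_zero _)
  choose b hb using h'
  refine ⟨fun K i => rs G (hge K) (b i K), funext fun J => funext fun i => ?_⟩
  have e := congr_fun (hb i) J
  have e1 : (fun K => rs G (hle K) (rs G (hge K) (b i K))) = b i := funext fun K => by
    rw [rs_rs]
    exact congr($(G.map_id _) (b i K))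
  have e2 := key m (fun K i => rs G (hge K) (b i K)) i J
  rw [e1, e] at e2
  have e3 := congrArg (rs G (hge J)) e2.symm
  rw [rs_rs, rs_rs] at e3
  exact (congr($(G.map_id _) _)).symm.trans (e3.trans (congr($(G.map_id _) _)))

/-- Single cochains as constant tuples. -/
theorem exists_of_cocycle_unpow (c : X₀ ⟶ Y) (G : (Opens X₀)ᵒᵖ ⥤ AddCommGrpCat.{u}) {n : ℕ} (i₀ : Fin n)
    {ι : Type u} (U : ι → Opens Y) (m : ℕ)
    (h : ∀ a : Cochain U (powPre c G n) (m + 1), dd U (powPre c G n) (m + 1) a = 0 →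
      ∃ b, dd U (powPre c G n) m b = a)
    (a : Cochain (fun i => (Opens.map c).obj (U i)) G (m + 1))
    (ha : dd (fun i => (Opens.map c).obj (U i)) G (m + 1) a = 0) :
    ∃ b, dd (fun i => (Opens.map c).obj (U i)) G m b = a := by
  let U' : ι → Opens X₀ := fun i => (Opens.map c).obj (U i)
  have hle : ∀ {r : ℕ} (J : Fin r → ι), cap U' J ≤ (Opens.map c).obj (cap U J) := fun J => (cap_preimage c U J).le
  have hge : ∀ {r : ℕ} (J : Fin r → ι), (Opens.map c).obj (cap U J) ≤ cap U' J := fun J => (cap_preimage c U J).ge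
  obtain ⟨b, hb⟩ := h (fun K _ => rs G (hge K) (a K)) (funext fun J => funext fun i => by
    rw [dd_apply, Finset.sum_apply]
    have e := congrArg (rs G (hge J)) (congr_fun ha J)
    rw [dd_apply, map_sum] at e
    refine Eq.trans ?_ (e.trans (map_zero _))
    refine Finset.sum_congr rfl fun k _ => ?_
    rw [Pi.smul_apply, map_zsmul, rs_powPre, rs_rs, rs_rs])
  refine ⟨fun K => rs G (hle K) (b K i₀), funext fun J => ?_⟩
  have e := congrArg (rs G (hle J)) (congr_fun (congr_fun hb J) i₀)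
  rw [rs_rs, dd_apply, Finset.sum_apply, map_sum] at e
  rw [dd_apply]
  refine Eq.trans ?_ (e.trans (congr($(G.map_id _) (a J))))
  refine Finset.sum_congr rfl fun k _ => ?_
  rw [Pi.smul_apply, map_zsmul, rs_powPre, rs_rs, rs_rs]

end Pow

variable {X₀ Y S K : Scheme.{u}} [IsAffine S] [IsAffine K] {I : S.IdealSheafData} {n : ℕ}
  {f : Y ⟶ I.subscheme} {κ : K ⟶ S} [IsClosedImmersion κ] {b : Fin n → I.ideal (topAff S)}
  {c : X₀ ⟶ Y} {f₀ : X₀ ⟶ K} [QuasiSeparated f₀]
  (H : Thin I κ b) (sq : IsPullback c f₀ (gOf I f) κ)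

variable (f₀) in
/-- Homomorphisms from the differentials of the smaller scheme to functions. -/
abbrev tanSh : X₀.Modules := homMod (Omega.sheaf f₀) (Coh.structureModule X₀)

variable (c f₀ n) in
/-- The coefficient presheaf. -/
abbrev tanPow : (Opens Y)ᵒᵖ ⥤ AddCommGrpCat.{u} :=
  powPre c.base ((QCohLib.toAbF X₀).obj (tanSh f₀)).obj n

/-- A component of a tuple as a derivation. -/
def comp₀ {W : Y.Opens} (p : (tanPow n c f₀).obj (op W)) (i : Fin n) : Γ(X₀, c ⁻¹ᵁ W) →+ Γ(X₀, c ⁻¹ᵁ W) :=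
  derOf f₀ (Coh.structureModule X₀) (W := c ⁻¹ᵁ W)
    (show Γ(homMod (Omega.sheaf f₀) (Coh.structureModule X₀), c ⁻¹ᵁ W) from p i)

theorem comp₀_mul {W : Y.Opens} (p : (tanPow n c f₀).obj (op W)) (i : Fin n) (x y : Γ(X₀, c ⁻¹ᵁ W)) :
    comp₀ p i (x * y) = x * comp₀ p i y + y * comp₀ p i x :=
  isDer_derOf f₀ (Coh.structureModule X₀) _ x y

include H sq in
theorem exists_derT {W : Y.Opens} (hW : IsAffineOpen W) (p : (tanPow n c f₀).obj (op W)) :
    ∃ D : der I f W, ∀ x z, (∀ i, c.app W (z i) = comp₀ p i (c.app W x)) → D.1 x = Phi f b W z := by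
  choose s hs using app_c_surjective sq hW
  have hwd : ∀ x z, (∀ i, c.app W (z i) = comp₀ p i (c.app W x)) →
      Phi f b W (fun i => s (comp₀ p i (c.app W x))) = Phi f b W z := fun x z h =>
    Phi_congr H sq hW fun i => by rw [hs, h i]
  refine ⟨⟨AddMonoidHom.mk' (fun x => Phi f b W fun i => s (comp₀ p i (c.app W x))) fun x y => ?_,
    fun x y => ?_, fun V hV r => ?_⟩, hwd⟩
  · rw [← map_add]
    exact hwd _ _ fun i => by simp only [Pi.add_apply, map_add, hs]
  · show Phi f b W _ = x • Phi f b W _ + y • Phi f b W _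
    rw [← Phi_smul, ← Phi_smul, ← map_add]
    exact hwd _ _ fun i => by
      simp only [Pi.add_apply, Pi.smul_apply, smul_eq_mul, map_add, map_mul, hs, comp₀_mul]
  · show Phi f b W (fun i => s (comp₀ p i (c.app W ((gOf I f).appLE V W hV r)))) = 0
    rw [Phi_eq_zero_iff H sq hW]
    intro i
    rw [hs]
    have e : ∀ {T : Scheme.{u}} {p q : X₀ ⟶ T} (_ : p = q) (V : T.Opens) (h1 : c ⁻¹ᵁ W ≤ p ⁻¹ᵁ V)
        (h2 : c ⁻¹ᵁ W ≤ q ⁻¹ᵁ V), p.appLE V (c ⁻¹ᵁ W) h1 = q.appLE V (c ⁻¹ᵁ W) h2 :=
      fun h _ _ _ => by subst h; rfl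
    have hV' : c ⁻¹ᵁ W ≤ (f₀ ≫ κ) ⁻¹ᵁ V := by
      rw [← sq.w]
      exact fun x hx => hV hx
    have h1 := Scheme.Hom.appLE_comp_appLE c (gOf I f) V W (c ⁻¹ᵁ W) hV le_rfl
    have h2 := Scheme.Hom.appLE_comp_appLE f₀ κ V (κ ⁻¹ᵁ V) (c ⁻¹ᵁ W) le_rfl hV'
    rw [← Scheme.Hom.app_eq_appLE] at h1
    rw [show c.app W ((gOf I f).appLE V W hV r) =
      f₀.appLE (κ ⁻¹ᵁ V) (c ⁻¹ᵁ W) hV' (κ.appLE V (κ ⁻¹ᵁ V) le_rfl r) from
        congr($(h1.trans ((e sq.w V _ _).trans h2.symm)) r)]
    exact derOf_appLE f₀ _ _ _ hV' _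

/-- Tuples give derivations into the ideal. -/
def derT {W : Y.Opens} (hW : IsAffineOpen W) : (tanPow n c f₀).obj (op W) →+ der I f W :=
  AddMonoidHom.mk' (fun p => (exists_derT H sq hW p).choose) fun p q => Subtype.ext (AddMonoidHom.ext fun x => by
    choose s hs using app_c_surjective sq hW
    rw [AddSubgroup.coe_add, AddMonoidHom.add_apply,
      (exists_derT H sq hW p).choose_spec x (fun i => s (comp₀ p i (c.app W x))) (fun i => hs _),
      (exists_derT H sq hW q).choose_spec x (fun i => s (comp₀ q i (c.app W x))) (fun i => hs _), ← map_add]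
    refine (exists_derT H sq hW (p + q)).choose_spec x _ fun i => ?_
    rw [Pi.add_apply, map_add, hs, hs]
    exact (congr($(derOf_add f₀ (Coh.structureModule X₀) (p i) (q i)) (c.app W x))).symm)

theorem derT_apply {W : Y.Opens} (hW : IsAffineOpen W) (p : (tanPow n c f₀).obj (op W)) (x : Γ(Y, W))
    (z : Fin n → Γ(Y, W)) (h : ∀ i, c.app W (z i) = comp₀ p i (c.app W x)) :
    (derT H sq hW p).1 x = Phi f b W z :=
  (exists_derT H sq hW p).choose_spec x z h

theorem derT_bijective {W : Y.Opens} (hW : IsAffineOpen W) : Function.Bijective (derT H sq hW (f₀ := f₀)) := by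
  haveI := isClosedImmersion_c sq
  have hW₀ : IsAffineOpen (c ⁻¹ᵁ W) := hW.preimage c
  choose s hs using app_c_surjective sq hW
  constructor
  · intro p q e
    funext i
    refine derOf_injective f₀ (Coh.structureModule X₀) hW₀ (AddMonoidHom.ext fun y => ?_)
    obtain ⟨x, rfl⟩ := app_c_surjective sq hW y
    have h := congr($(congrArg Subtype.val e) x)
    rw [derT_apply H sq hW p x (fun i => s (comp₀ p i (c.app W x))) (fun i => hs _),
      derT_apply H sq hW q x (fun i => s (comp₀ q i (c.app W x))) (fun i => hs _), ← sub_eq_zero, ← map_sub,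
      Phi_eq_zero_iff H sq hW] at h
    have h2 := h i
    rw [Pi.sub_apply, map_sub, hs, hs, sub_eq_zero] at h2
    exact h2
  · intro D
    choose z hz using fun x => Phi_surjective H hW (D.1 x)
    have hDbas : ∀ (r : Γ(S, ⊤)) y, D.1 (bas f W r * y) = bas f W r • D.1 y := fun r y => by
      rw [D.2.1, D.2.2 ⊤ le_top r, smul_zero, add_zero]
    have hker : ∀ a, c.app W a = 0 → D.1 a = 0 := fun a ha => by
      have ha' : a ∈ (RingHom.ker κ.appTop.hom).map (bas f W).hom := by rw [← ker_app_c sq hW]; exact ha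
      rw [Ideal.map, Ideal.span] at ha'
      clear ha
      suffices h : ∀ y, D.1 (y * a) = 0 by simpa using h 1
      induction ha' using Submodule.span_induction with
      | mem x hx =>
        obtain ⟨r, hr, rfl⟩ := hx
        intro y
        rw [mul_comm, hDbas, ← hz y, ← Phi_smul, Phi_eq_zero_iff H sq hW]
        intro i
        rw [Pi.smul_apply, smul_eq_mul, map_mul, app_c_bas sq, show κ.appTop r = 0 from hr, map_zero, zero_mul]
      | zero => intro y; rw [mul_zero, map_zero]
      | add x w _ _ hx hw => intro y; rw [mul_add, map_add, hx, hw, add_zero]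
      | smul t x _ hx => intro y; rw [smul_eq_mul, ← mul_assoc]; exact hx _
    have hwd : ∀ x x', c.app W x = c.app W x' → ∀ i, c.app W (z x i) = c.app W (z x' i) := fun x x' e i => by
      have h := hker (x - x') (by rw [map_sub, e, sub_self])
      rw [map_sub, ← hz, ← hz, ← map_sub, Phi_eq_zero_iff H sq hW] at h
      have h2 := h i
      rwa [Pi.sub_apply, map_sub, sub_eq_zero] at h2
    have hz' : ∀ x u, D.1 x = Phi f b W u → ∀ i, c.app W (z x i) = c.app W (u i) := fun x u e i => by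
      rw [← hz, ← sub_eq_zero, ← map_sub, Phi_eq_zero_iff H sq hW] at e
      have h2 := e i
      rwa [Pi.sub_apply, map_sub, sub_eq_zero] at h2
    have hcomp : ∀ i, ∃ q : Γ(tanSh f₀, c ⁻¹ᵁ W), ∀ x,
        derOf f₀ (Coh.structureModule X₀) q (c.app W x) = c.app W (z x i) := fun i => by
      let Di : Γ(X₀, c ⁻¹ᵁ W) →+ Γ(Coh.structureModule X₀, c ⁻¹ᵁ W) :=
        AddMonoidHom.mk' (fun y => c.app W (z (s y) i)) fun y y' => by
          refine (hwd _ (s y + s y') (by rw [map_add, hs, hs, hs]) i).trans ?_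
          rw [hz' (s y + s y') (z (s y) + z (s y')) (by rw [map_add, map_add, hz, hz]) i, Pi.add_apply, map_add]
      have hDi : ∀ x, Di (c.app W x) = c.app W (z x i) := fun x => hwd _ _ (hs _) i
      have hder : IsDer Di := fun a a' => by
        obtain ⟨x, rfl⟩ := app_c_surjective sq hW a
        obtain ⟨x', rfl⟩ := app_c_surjective sq hW a'
        rw [← map_mul, hDi, hDi, hDi,
          hz' (x * x') (x • z x' + x' • z x) (by rw [D.2.1, map_add, Phi_smul, Phi_smul, hz, hz]) i,
          Pi.add_apply, map_add, Pi.smul_apply, Pi.smul_apply, smul_eq_mul, smul_eq_mul, map_mul, map_mul]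
        rfl
      have hc : ∀ r, Di (f₀.appLE ⊤ (c ⁻¹ᵁ W) le_top r) = 0 := fun r => by
        obtain ⟨r', rfl⟩ := κ.app_surjective ⊤ (isAffineOpen_top S) r
        rw [show f₀.appLE ⊤ (c ⁻¹ᵁ W) le_top (κ.app ⊤ r') = c.app W (bas f W r') from (app_c_bas sq W r').symm,
          hDi, hz' _ 0 (by rw [D.2.2 ⊤ le_top r', map_zero]) i, Pi.zero_apply, map_zero]
      obtain ⟨q, hq⟩ := exists_derOf_eq f₀ (Coh.structureModule X₀) hW₀ Di hder hc
      exact ⟨q, fun x => (congr($hq (c.app W x))).trans (hDi x)⟩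
    choose q hq using hcomp
    refine ⟨q, Subtype.ext (AddMonoidHom.ext fun x => ?_)⟩
    rw [derT_apply H sq hW q x (z x) fun i => (hq i x).symm]
    exact hz x

variable (f₀) in
/-- Tuples of derivations of the smaller scheme as coefficients. -/
def thinCoef : Coef I f where
  P := tanPow n c f₀
  e _ hW := AddEquiv.ofBijective (derT H sq hW.aff) (derT_bijective H sq hW.aff)
  nat W W' hW hW' h p x := by
    choose s hs using app_c_surjective sq hW.aff
    have e1 := derT_apply H sq hW.aff p x (fun i => s (comp₀ p i (c.app W x))) fun i => hs _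
    show (derT H sq hW'.aff (rs (tanPow n c f₀) h p)).1 _ = (MK I f).presheaf.map _ ((derT H sq hW.aff p).1 x)
    rw [e1, Phi_res]
    refine derT_apply H sq hW'.aff _ _ _ fun i => ?_
    have nat' : ∀ y, c.app W' (Y.presheaf.map (homOfLE h).op y) =
        X₀.presheaf.map (homOfLE (fun x hx => h hx : c ⁻¹ᵁ W' ≤ c ⁻¹ᵁ W)).op (c.app W y) := fun y =>
      congr($(c.naturality (homOfLE h).op) y)
    rw [nat', nat', hs]
    exact (derOf_res f₀ (Coh.structureModule X₀) _ (p i) _).symm

end SmDefLib
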