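import Mathlib

/-!
# Morphisms between open subschemes and their maps on sections
-/

set_option autoImplicit false
set_option backward.isDefEq.respectTransparency false

universe u

open CategoryTheory AlgebraicGeometry Opposite

noncomputable section

namespace SmDefLib

variable {X Y Z : Scheme.{u}} {A : X.Opens} {B : Y.Opens} {C : Z.Opens}

/-- The map on sections of a morphism of open subschemes. -/
def tp (φ : (A : Scheme.{u}) ⟶ B) : Γ(Y, B) ⟶ Γ(X, A) := B.topIso.inv ≫ φ.appTop ≫ A.topIso.hom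

theorem tp_comp (φ : (A : Scheme.{u}) ⟶ B) (ψ : (B : Scheme.{u}) ⟶ C) : tp (φ ≫ ψ) = tp ψ ≫ tp φ := by
  simp [tp, Scheme.Hom.comp_appTop]

theorem tp_id : tp (𝟙 (A : Scheme.{u})) = 𝟙 _ := by simp [tp]

theorem tp_resLE (f : X ⟶ Y) (e : A ≤ f ⁻¹ᵁ B) : tp (f.resLE B A e) = f.appLE B A e := by
  show B.topIso.inv ≫ (f.resLE B A e).app ⊤ ≫ A.topIso.hom = _
  rw [Scheme.Hom.resLE_app_top]; simp

theorem tp_homOfLE {A' : X.Opens} (e : A' ≤ A) : tp (X.homOfLE e) = X.presheaf.map (homOfLE e).op := by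
  rw [← Scheme.Hom.resLE_id e, tp_resLE]
  simp [Scheme.Hom.appLE]

theorem tp_injective (hB : IsAffineOpen B) : Function.Injective (tp (A := A) (B := B)) := fun φ ψ h => by
  haveI : IsAffine (B : Scheme.{u}) := hB
  exact ext_of_isAffine ((cancel_mono A.topIso.hom).1 ((cancel_epi B.topIso.inv).1 h))

theorem tp_surjective (hA : IsAffineOpen A) (hB : IsAffineOpen B) :
    Function.Surjective (tp (A := A) (B := B)) := fun r => by
  haveI : IsAffine (A : Scheme.{u}) := hA
  haveI : IsAffine (B : Scheme.{u}) := hB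
  let φ := (A : Scheme.{u}).isoSpec.hom ≫ Spec.map (B.topIso.hom ≫ r ≫ A.topIso.inv) ≫ (B : Scheme.{u}).isoSpec.inv
  refine ⟨φ, ?_⟩
  have h : φ.appTop = B.topIso.hom ≫ r ≫ A.topIso.inv := by
    apply Spec.map_injective
    have h1 := Scheme.isoSpec_hom_naturality φ
    rw [← cancel_epi (A : Scheme.{u}).isoSpec.hom, h1]
    simp [φ]
  simp [tp, h]

theorem isIso_of_tp (hA : IsAffineOpen A) (hB : IsAffineOpen B) (φ : (A : Scheme.{u}) ⟶ B)
    (h : Function.Bijective (tp φ)) : IsIso φ := by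
  haveI : IsAffine (A : Scheme.{u}) := hA
  haveI : IsAffine (B : Scheme.{u}) := hB
  haveI : IsIso (tp φ) := (ConcreteCategory.isIso_iff_bijective _).2 h
  haveI : IsIso φ.appTop := by
    have : φ.appTop = B.topIso.hom ≫ tp φ ≫ A.topIso.inv := by
      simp only [tp, Category.assoc, Iso.hom_inv_id_assoc, Iso.hom_inv_id]
      exact (Category.comp_id _).symm
    rw [this]; infer_instance
  have h1 := Scheme.isoSpec_hom_naturality φ
  have : φ = (A : Scheme.{u}).isoSpec.hom ≫ Spec.map φ.appTop ≫ (B : Scheme.{u}).isoSpec.inv := by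
    rw [reassoc_of% h1, Iso.hom_inv_id, Category.comp_id]
  rw [this]; infer_instance

end SmDefLib
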