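import Groth.Agent.SmDefLib.Uniq

/-!
# Rigidity makes one cocycles coboundaries, and uniqueness for separated lifts
-/

set_option autoImplicit false
set_option linter.unusedSectionVars false
set_option linter.style.haveILetI false
set_option backward.isDefEq.respectTransparency false
set_option maxHeartbeats 1000000

universe u

open CategoryTheory CategoryTheory.Limits AlgebraicGeometry Opposite TopologicalSpace
open CechLib (Cochain cap dd cap_le rs)

noncomputable section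

namespace SmDefLib

variable {X₀ S : Scheme.{u}} {g : X₀ ⟶ S}

/-- A map of thickenings as a morphism of lifts. -/
def Hom.ofMap {a b : Lift g} (W : X₀.Opens) (α : a.X ⟶ b.X) (hf : α ≫ b.f = a.f) (ha : W ≤ a.dom)
    (hb : W ≤ b.dom) (hj : a.jj ha ≫ α = b.jj hb) : Hom a b W where
  φ := IsOpenImmersion.lift (b.up W).ι ((a.up W).ι ≫ α) (by
    rw [Scheme.Opens.range_ι]
    rintro _ ⟨q, rfl⟩
    obtain ⟨z, rfl⟩ := a.ju_surjective ha q
    rw [← Scheme.Hom.comp_apply, ← Category.assoc, a.ju_ι ha, hj, ← b.range_jj hb]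
    exact ⟨z, rfl⟩)
  over_f := by rw [← Category.assoc, IsOpenImmersion.lift_fac, Category.assoc, hf]
  over_j _ _ := by
    rw [← cancel_mono (b.up W).ι, Category.assoc, IsOpenImmersion.lift_fac, ← Category.assoc, a.ju_ι, b.ju_ι]
    exact hj

variable {I : S.IdealSheafData} {f₀ : X₀ ⟶ I.subscheme} (hI : I ^ 2 = ⊥) (C : Coef I f₀)

/-- Gluing data of a cocycle. -/
def glueDataOfCocycle {ι : Type u} (a : ι → Lift (gOf I f₀))
    (hstd : ∀ i, Std I f₀ (a i)) (hgood : ∀ i, Good I f₀ (a i).dom) (hcov : ⨆ i, (a i).dom = ⊤)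
    (g : (band hI C).Arrows (fun i => (a i).dom) (fun i => ⟨a i, hstd i⟩))
    (hg : (band hI C).IsCocycle (fun i => (a i).dom) g) : GlueData (gOf I f₀) where
  ι := ι
  a := a
  G i j W hi hj := (g i j).hom.res (g i j).ha (g i j).hb (le2 (fun i => (a i).dom) hi hj)
  res_G _ _ _ _ _ _ _ := Hom.res_res _ _ _ _ _
  comp_G i j k W hi hj hk := congrArg Arr.hom (hg i j k W hi hj hk)
  id_G i W hi := by
    let G₁ := (g i i).hom.res (g i i).ha (g i i).hb (le2 (fun i => (a i).dom) (le_refl (a i).dom) le_rfl)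
    have hcomp : G₁.comp G₁ le_rfl = G₁ := congrArg Arr.hom (hg i i i (a i).dom le_rfl le_rfl le_rfl)
    have h1 : G₁ = Hom.id (a i) (a i).dom := by
      haveI := G₁.isIso (hstd i) (hstd i) hI le_rfl le_rfl (hgood i)
      exact Hom.ext ((cancel_epi G₁.φ).1 ((congrArg Hom.φ hcomp).trans (Category.comp_id _).symm))
    have h2 := congrArg (fun φ : Hom (a i) (a i) (a i).dom => φ.res le_rfl le_rfl hi) h1
    simp only [Hom.res_id] at h2
    rw [← h2]
    exact (Hom.res_res _ _ _ _ _).symm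
  cover := hcov

variable [X₀.IsSeparated]

include hI in
/-- Lifts are isomorphic when they are so locally and one cocycles are coboundaries. -/
theorem exists_iso_of_cocycle (a b : Lift (gOf I f₀)) (ha : Std I f₀ a) (hb : Std I f₀ b)
    (hta : (⊤ : X₀.Opens) ≤ a.dom) (htb : (⊤ : X₀.Opens) ≤ b.dom) {ι : Type u} (U : ι → X₀.Opens)
    (hU : ∀ i, Good I f₀ (U i)) (hcov : ⨆ i, U i = ⊤) (hloc : ∀ i, Nonempty (Hom a b (U i)))
    (h1 : ∀ c, dd U C.P 1 c = 0 → ∃ d, dd U C.P 0 d = c) : ∃ φ : Hom a b ⊤, IsIso φ.φ := by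
  have hcap := good_cap U hU
  let g : (band hI C).Arrows U (fun _ => ⟨a, ha⟩) := fun i j => ⟨le_top.trans hta, le_top.trans hta, Hom.id a _⟩
  let g' : (band hI C).Arrows U (fun _ => ⟨b, hb⟩) := fun i j => ⟨le_top.trans htb, le_top.trans htb, Hom.id b _⟩
  have hg : (band hI C).IsCocycle U g := fun i j k W hi hj hk =>
    Arr.ext' ((res_id_comp (le_top.trans hta) (le2 U hi hj) _ (le_top.trans hta)).trans
      ((Hom.res_id a (le_top.trans hta) (le2 U hj hk)).trans
        (Hom.res_id a (le_top.trans hta) (le2 U hi hk)).symm))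
  have hg' : (band hI C).IsCocycle U g' := fun i j k W hi hj hk =>
    Arr.ext' ((res_id_comp (le_top.trans htb) (le2 U hi hj) _ (le_top.trans htb)).trans
      ((Hom.res_id b (le_top.trans htb) (le2 U hj hk)).trans
        (Hom.res_id b (le_top.trans htb) (le2 U hi hk)).symm))
  obtain ⟨ψ, hψ⟩ := (band hI C).exists_morphism U hcap hg hg' (fun i => ⟨le_top.trans hta, le_top.trans htb,
    (hloc i).some.res (le_top.trans hta) (le_top.trans htb) (cap_le U ![i] 0)⟩) h1
  have hle : ∀ i, U i ≤ cap U ![i] := fun i => le1 U le_rfl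
  let χ : ∀ i, Hom a b (U i) := fun i => (ψ i).hom.res (ψ i).ha (ψ i).hb (hle i)
  have hcov' : ∀ x ∈ (⊤ : X₀.Opens), ∃ k, x ∈ U k := fun x hx => by
    rw [← hcov] at hx
    exact Opens.mem_iSup.1 hx
  obtain ⟨φ, hφ⟩ := Hom.exists_glue hta htb U (fun i => le_top) hcov' χ fun i k => by
    have e := congrArg Arr.hom (hψ i k (U i ⊓ U k) inf_le_left inf_le_right)
    have e' := (res_id_comp (le_top.trans hta) (le2 U inf_le_left inf_le_right) _ (le_top.trans hta)).symm.trans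
      (e.trans (comp_res_id (le_top.trans htb) (le2 U inf_le_left inf_le_right) _ (le_top.trans htb)))
    exact (Hom.res_res (ψ i).hom (ψ i).ha (ψ i).hb (hle i) inf_le_left).trans
      (e'.symm.trans (Hom.res_res (ψ k).hom (ψ k).ha (ψ k).hb (hle k) inf_le_right).symm)
  obtain ⟨φ', h1, h2⟩ := Hom.exists_inv hta htb φ U (fun i => le_top) hcov' fun k =>
    (φ.res hta htb (le_top : U k ≤ ⊤)).isIso ha hb hI (le_top.trans hta) (le_top.trans htb) (hU k)
  exact ⟨φ, ⟨φ'.φ, congrArg Hom.φ h1, congrArg Hom.φ h2⟩⟩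

include hI in
/-- If every deformation is trivial, one cocycles are coboundaries. -/
theorem cocycle_one_of_rigid {XT : Scheme.{u}} {fT : XT ⟶ S} {jT : X₀ ⟶ XT} [Flat fT]
    (hcT : IsPullback jT f₀ fT I.subschemeι)
    (hrig : ∀ (X : Scheme.{u}) (g : X ⟶ S) (j : X₀ ⟶ X), Flat g → IsPullback j f₀ g I.subschemeι →
      ∃ α : X ≅ XT, α.hom ≫ fT = g ∧ j ≫ α.hom = jT)
    {ι : Type u} (U : ι → X₀.Opens) (hU : ∀ i, Good I f₀ (U i)) (hcov : ⨆ i, U i = ⊤)
    (c : Cochain U C.P 1) (hc : dd U C.P 1 c = 0) : ∃ b, dd U C.P 0 b = c := by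
  have hcap := good_cap U hU
  let T := globalLift hI hcT
  have hT : Std I f₀ T := std_globalLift hI hcT
  let A : ι → Lift (gOf I f₀) := fun i => T.restrict (U := U i) (le_top : U i ≤ T.dom)
  have hA : ∀ i, Std I f₀ (A i) := fun i => hT.restrict _
  let G := band hI C
  let oA : ι → G.O := fun i => ⟨A i, hA i⟩
  let oT : G.O := ⟨T, hT⟩
  have hr : ∀ i, ∃ r : Hom (A i) T (U i), IsIso r.φ := fun i => by
    have hj : (A i).jj (le_refl (U i)) ≫ (T.up (U i)).ι = T.jj (le_top : U i ≤ T.dom) := by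
      show (X₀.homOfLE (le_refl (U i)) ≫ T.ju _) ≫ (T.up (U i)).ι = _
      rw [Scheme.homOfLE_rfl, Category.id_comp, T.ju_ι]
    exact ⟨Hom.ofMap (U i) (T.up (U i)).ι rfl le_rfl le_top hj,
      Hom.isIso _ (hA i) hT hI le_rfl le_top (hU i)⟩
  choose r hri using hr
  let R : ∀ i, G.A (oA i) oT (U i) := fun i => ⟨le_rfl, le_top, r i⟩
  let R' : ∀ i, G.A oT (oA i) (U i) := fun i => haveI := hri i; ⟨le_top, le_rfl, (r i).inv⟩
  have hR : ∀ i (W : X₀.Opens) (h : W ≤ U i) {o : G.O} (x : G.A oT o W),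
      G.comp (G.res h (R' i)) (G.comp (G.res h (R i)) x) = x := fun i W h o x => by
    haveI := hri i
    rw [← G.assoc, ← G.res_comp]
    refine Arr.ext' (Eq.trans ?_ (Hom.ext (Category.id_comp _) :
      (Hom.id T W).comp x.hom (h.trans le_top) = x.hom))
    show (((r i).inv.comp (r i) le_rfl).res le_top le_top h).comp x.hom (h.trans le_top) = _
    rw [Hom.inv_comp, Hom.res_id]
  have hR1 : ∀ i (W : X₀.Opens) (h : W ≤ U i), G.comp (G.res h (R' i)) (G.res h (R i)) =
      ⟨h.trans le_top, h.trans le_top, Hom.id T W⟩ := fun i W h => by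
    haveI := hri i
    rw [← G.res_comp]
    refine Arr.ext' ?_
    show ((r i).inv.comp (r i) le_rfl).res le_top le_top h = _
    rw [Hom.inv_comp, Hom.res_id]
  have hRid : ∀ i (W : X₀.Opens) (h : W ≤ U i) {o : G.O} (x : G.A o oT W),
      G.comp x (G.comp (G.res h (R' i)) (G.res h (R i))) = x := fun i W h o x => by
    rw [hR1]
    exact Arr.ext' (Hom.ext (Category.comp_id _))
  let e : G.Arrows U oA := fun i j =>
    G.comp (G.res (show cap U ![i, j] ≤ U i from cap_le U ![i, j] 0) (R i))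
      (G.res (show cap U ![i, j] ≤ U j from cap_le U ![i, j] 1) (R' j))
  have he : G.IsObs U e 0 := fun i j k W hW hi hj hk => by
    simp only [e, at3, Pi.zero_apply, map_zero, G.act_zero, G.res_comp, G.res_res]
    rw [G.assoc]
    exact congrArg _ (hR j W hj _)
  have hobs := G.isObs_act U hcap he c
  rw [hc, add_zero] at hobs
  let g₁ : G.Arrows U oA := fun i j => G.act (hcap 1 _) (c ![i, j]) (e i j)
  have hg₁ : G.IsCocycle U g₁ := G.isCocycle_of_isObs_zero U hcap hobs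
  let D := glueDataOfCocycle hI C A hA hU hcov g₁ hg₁
  have hst : Std I f₀ D.lift := std_glued D hA
  obtain ⟨α, hαf, hαj⟩ := hrig D.glued D.f D.j hst.flat
    (hst.pullback.of_iso X₀.topIso (Iso.refl _) (Iso.refl _) (Iso.refl _)
    (by show (X₀.topIso.hom ≫ D.j) ≫ 𝟙 _ = X₀.topIso.hom ≫ D.j; rw [Category.comp_id])
    (by show ((⊤ : X₀.Opens).ι ≫ f₀) ≫ 𝟙 _ = X₀.topIso.hom ≫ f₀; rw [Category.comp_id]; rfl)
    (by show D.lift.f ≫ 𝟙 _ = 𝟙 _ ≫ D.lift.f; rw [Category.comp_id, Category.id_comp])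
    (by show I.subschemeι ≫ 𝟙 _ = 𝟙 _ ≫ I.subschemeι; rw [Category.comp_id, Category.id_comp]))
  let oD : G.O := ⟨D.lift, hst⟩
  let Φ : G.A oD oT ⊤ := ⟨le_rfl, le_rfl, Hom.ofMap ⊤ α.hom hαf le_rfl le_rfl (by
    show (X₀.homOfLE (le_refl ⊤) ≫ X₀.topIso.hom ≫ D.j) ≫ α.hom = X₀.homOfLE (le_refl ⊤) ≫ X₀.topIso.hom ≫ jT
    rw [Category.assoc, Category.assoc, hαj])⟩
  let Pc : ∀ i, G.A (oA i) oD (U i) := fun i => ⟨le_rfl, le_top, D.piece i⟩
  let x : ∀ i, G.A (oA i) oT (U i) := fun i => G.comp (Pc i) (G.res le_top Φ)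
  choose b hb using fun J : Fin 1 → ι =>
    G.exists_act (hcap 0 J) (G.res (cap_le U J 0) (R (J 0))) (G.res (cap_le U J 0) (x (J 0)))
  refine ⟨-b, funext fun J => ?_⟩
  have eJ : J = ![J 0, J 1] := funext fun a => by fin_cases a <;> rfl
  rw [eJ]
  generalize J 0 = i, J 1 = j
  let W := cap U ![i, j]
  have hW : G.good W := hcap 1 _
  have hi : W ≤ U i := cap_le U ![i, j] 0
  have hj : W ≤ U j := cap_le U ![i, j] 1
  have hx : ∀ l (hl : W ≤ U l), G.res hl (x l) = G.act hW (at1 U C.P b hl) (G.res hl (R l)) := fun l hl => by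
    have h := congrArg (G.res (le1 U hl)) (hb ![l])
    rw [G.res_act _ _ hW, G.res_res, G.res_res] at h
    exact h.symm
  have hglue : G.comp (G.res (le2 U hi hj) (g₁ i j)) (G.res hj (Pc j)) = G.res hi (Pc i) :=
    Arr.ext' (D.piece_G i j W hi hj)
  have hx' : G.comp (G.res (le2 U hi hj) (g₁ i j)) (G.res hj (x j)) = G.res hi (x i) := by
    simp only [x, G.res_comp, G.res_res]
    rw [← G.assoc, hglue]
  rw [hx i hi, hx j hj] at hx'
  simp only [g₁, G.res_act _ _ hW, e, G.res_comp, G.res_res] at hx'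
  rw [G.act_comp, G.comp_act, G.act_act, G.assoc, hRid] at hx'
  have h3 := G.act_inj hW _ hx'
  have h4 : at2 U C.P (dd U C.P 0 (-b)) hi hj = at1 U C.P (-b) hj - at1 U C.P (-b) hi := at2_dd U C.P (-b) hi hj
  have h5 : ∀ (d : Cochain U C.P 1), at2 U C.P d hi hj = d ![i, j] := fun d => congr($(C.P.map_id _) (d ![i, j]))
  rw [h5] at h4
  have h6 : ∀ l (hl : W ≤ U l), at1 U C.P (-b) hl = -at1 U C.P b hl := fun l hl => map_neg (rs C.P (le1 U hl)) _
  rw [h4, h6, h6, neg_sub_neg, ← h3]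
  rw [show rs C.P (le2 U hi hj) (c ![i, j]) = c ![i, j] from h5 c]
  abel

end SmDefLib
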